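import Cfsg.Agent.H47.Ex9.Frame
import Cfsg.Agent.H92.ExtraForm

/-!
Coordinates for the extraspecial `O₂` of an involution centraliser: the quadratic space, the
representation of the quotient on it, and the conjugates of the involution inside `O₂`.
-/

set_option autoImplicit false

namespace Cfsg.Agent.H47.Ex9

open Subgroup Cfsg.Agent.H92
open Cfsg.Agent.H92.ExtraForm (zp zp_inj zp_add two_cases)
open scoped commutatorElement

universe u v

namespace Frame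

variable {G : Type u} [Group G] [Finite G] {M : Type v} [Group M] [Finite M]

/-- The quadratic space and the representation on it. -/
structure Coord (F : Frame G M) (U : Type) [AddCommGroup U] where
  /-- The form. -/
  q : U → ZMod 2
  /-- Its polar form. -/
  B : U →+ U →+ ZMod 2
  quad : F2Forms.IsQuad q B
  card_U : Nat.card U = 256
  /-- The projection. -/
  ν : G → U
  ν_mul : ∀ a ∈ F.Q, ∀ b ∈ F.Q, ν (a * b) = ν a + ν b
  ν_surj : ∀ u, ∃ a ∈ F.Q, ν a = u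
  ν_eq_zero : ∀ a ∈ F.Q, ν a = 0 ↔ a = 1 ∨ a = F.z
  sq : ∀ a ∈ F.Q, a * a = zp F.z (q (ν a))
  comm : ∀ a ∈ F.Q, ∀ b ∈ F.Q, b * a = a * b * zp F.z (B (ν a) (ν b))
  /-- The representation. -/
  φ : M →* Equiv.Perm U
  φ_inj : Function.Injective φ
  ν_conj : ∀ (h : G) (hh : h ∈ F.H), ∀ a ∈ F.Q, ν (h * a * h⁻¹) = φ (F.π ⟨h, hh⟩) (ν a)

variable (F : Frame G M)

theorem mk_coord {U : Type} [AddCommGroup U] [Module (ZMod 2) U]
    {q : QuadraticForm (ZMod 2) U} (E : ExtraForm.FormMap ↥F.Q U q)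
    (hU : Nat.card U = 256) (hnd : ∀ u, (∀ v, QuadraticMap.polar (⇑q) v u = 0) → u = 0) :
    Nonempty (F.Coord U) := by
  classical
  have hz : E.z = ⟨F.z, F.zQ⟩ := by
    refine (((E.mem_center _).1 (F.z_mem_center le_rfl F.zQ)).resolve_left fun e => F.z_ne ?_).symm
    exact congrArg Subtype.val e
  have hzp : ∀ a, ((zp E.z a : ↥F.Q) : G) = zp F.z a := by
    intro a
    rcases two_cases a with rfl | rfl <;> simp [zp, hz]
  let ν : G → U := fun a => if ha : a ∈ F.Q then E.π ⟨a, ha⟩ else 0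
  have hν : ∀ a (ha : a ∈ F.Q), ν a = E.π ⟨a, ha⟩ := fun a ha => dif_pos ha
  let B : U →+ U →+ ZMod 2 :=
    AddMonoidHom.mk' (fun u => AddMonoidHom.mk' (fun v => QuadraticMap.polar (⇑q) u v)
      (fun v w => q.polar_add_right u v w))
      (fun u v => AddMonoidHom.ext fun w => q.polar_add_left u v w)
  haveI hQn : ∀ h : ↥(centralizer ({F.z} : Set G)), ∀ a : ↥F.Q,
      (h : G) * a * (h : G)⁻¹ ∈ F.Q := fun h a => F.conj_mem h.2 a.2
  let conjQ : ↥(centralizer ({F.z} : Set G)) →* MulAut ↥F.Q :=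
    MonoidHom.mk' (fun h =>
      { toFun := fun a => ⟨(h : G) * a * (h : G)⁻¹, hQn h a⟩
        invFun := fun a => ⟨(h : G)⁻¹ * a * (h : G), F.conj_mem' h.2 a.2⟩
        left_inv := fun a => Subtype.ext (by simp [mul_assoc])
        right_inv := fun a => Subtype.ext (by simp [mul_assoc])
        map_mul' := fun a b => Subtype.ext (by simp [mul_assoc]) })
      (fun h k => MulEquiv.ext fun a => Subtype.ext (by simp [mul_assoc]))
  let ρ : ↥(centralizer ({F.z} : Set G)) →* Equiv.Perm U := MonoidHom.mk'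
    (fun h => ((E.toIso (conjQ h) : U ≃ₗ[ZMod 2] U)).toEquiv)
    (fun h k => by
      refine Equiv.ext fun u => ?_
      rw [map_mul, map_mul]
      rfl)
  have hρ : ∀ h (a : ↥F.Q), ρ h (E.π a) = E.π (conjQ h a) := fun h a => E.induced_π _ _
  have hker : F.π.ker ≤ ρ.ker := by
    intro h hh
    rw [MonoidHom.mem_ker, F.π_ker] at hh
    refine Equiv.ext fun u => ?_
    obtain ⟨a, rfl⟩ := E.surj u
    show ρ h (E.π a) = E.π a
    rw [hρ, show conjQ h a = ⟨(h : G), hh⟩ * a * ⟨(h : G), hh⟩⁻¹ from Subtype.ext rfl,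
      E.π_mul, E.π_mul, E.π_inv]
    abel
  let φ : M →* Equiv.Perm U := F.π.liftOfSurjective F.π_surj ⟨ρ, hker⟩
  have hφ : ∀ h, φ (F.π h) = ρ h := fun h =>
    F.π.liftOfRightInverse_comp_apply _ _ ⟨ρ, hker⟩ h
  refine ⟨⟨⇑q, B, ⟨fun v w => (QuadraticMap.map_add q v w), hnd⟩, hU, ν, ?_, ?_, ?_, ?_, ?_,
    φ, ?_, ?_⟩⟩
  · intro a ha b hb
    rw [hν a ha, hν b hb, hν _ (mul_mem ha hb), ← E.π_mul]
    rfl
  · intro u
    obtain ⟨⟨a, ha⟩, rfl⟩ := E.surj u
    exact ⟨a, ha, hν a ha⟩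
  · intro a ha
    rw [hν a ha, E.π_eq_zero, hz]
    exact ⟨fun h => h.imp (congrArg Subtype.val) (congrArg Subtype.val),
      fun h => h.imp (fun e => Subtype.ext e) (fun e => Subtype.ext e)⟩
  · intro a ha
    rw [hν a ha, ← hzp, ← E.sq]
    rfl
  · intro a ha b hb
    rw [show B (ν a) (ν b) = QuadraticMap.polar (⇑q) (ν a) (ν b) from rfl, hν a ha, hν b hb, ← hzp]
    exact congrArg Subtype.val (E.comm ⟨a, ha⟩ ⟨b, hb⟩)
  · rw [injective_iff_map_eq_one]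
    intro m hm
    obtain ⟨⟨h, hh⟩, rfl⟩ := F.π_surj m
    rw [hφ] at hm
    have h1 : conjQ ⟨h, hh⟩ ∈ E.toIso.ker := by
      refine MonoidHom.mem_ker.2 (Subtype.ext (LinearEquiv.ext fun u => ?_))
      exact congrArg (fun f : Equiv.Perm U => f u) hm
    rw [E.toIso_ker F.Q_ex] at h1
    obtain ⟨c, hc⟩ := h1
    rw [F.π_ker]
    have h2 : ∀ a ∈ F.Q, (c : G) * a * (c : G)⁻¹ = h * a * h⁻¹ := fun a ha => by
      have := congrArg (fun f : MulAut ↥F.Q => ((f ⟨a, ha⟩ : ↥F.Q) : G)) hc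
      simpa [conjQ] using this
    have h3 : (c : G)⁻¹ * h ∈ F.Q := by
      rcases F.CQ ((c : G)⁻¹ * h) (fun a ha => by
        calc a * ((c : G)⁻¹ * h) = (c : G)⁻¹ * ((c : G) * a * (c : G)⁻¹) * h := by group
          _ = (c : G)⁻¹ * (h * a * h⁻¹) * h := by rw [h2 a ha]
          _ = _ := by group) with e | e <;> rw [e]
      · exact one_mem _
      · exact F.zQ
    simpa using mul_mem c.2 h3
  · intro h hh a ha
    rw [hφ, hν a ha, hν _ (F.conj_mem hh ha), hρ]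
    rfl

/-- Coordinates exist. -/
theorem with_coord (h : ∀ (U : Type) [AddCommGroup U] [Finite U], F.Coord U → False) : False := by
  rcases ExtraForm.exists_formMap F.Q_ex 4 (by norm_num) (by rw [F.Q_card]; norm_num) with
    ⟨⟨E⟩⟩ | ⟨⟨E⟩⟩
  · refine Nonempty.elim (F.mk_coord E (by simp) ?_) (h _)
    intro u hu
    exact (Orthogonal.formPlus_nondeg (F := ZMod 2) (m := 4)) u fun v =>
      (QuadraticMap.polar_comm _ _ _).trans (hu v)
  · refine Nonempty.elim (F.mk_coord E (by simp) ?_) (h _)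
    intro u hu
    exact (Orthogonal.formMinus_nondeg (F := ZMod 2) (m := 4 - 1) (by decide)) u fun v =>
      (QuadraticMap.polar_comm _ _ _).trans (hu v)

/-- The image in `M` of the conjugate `O₂` in the centraliser. -/
def trace (g : G) : Subgroup M :=
  ((F.Qc g).comap (centralizer ({F.z} : Set G)).subtype).map F.π

theorem trace_isPGroup (g : G) : IsPGroup 2 ↥(F.trace g) :=
  ((F.isPGroup_Q.map _).comap_of_injective _ (subtype_injective _)).map _

namespace Coord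

variable {F} {U : Type} [AddCommGroup U] [Fintype U] (K : F.Coord U)

set_option linter.unusedSectionVars false

include K

theorem q_zero : K.q 0 = 0 := by
  have := K.quad.add 0 0
  simp only [add_zero, map_zero, AddMonoidHom.zero_apply] at this
  simpa using this.symm

theorem add_self (u : U) : u + u = 0 := by
  obtain ⟨a, ha, rfl⟩ := K.ν_surj u
  rw [← K.ν_mul a ha a ha, K.ν_eq_zero _ (mul_mem ha ha)]
  exact F.sq_Q ha

theorem neg_eq (u : U) : -u = u := neg_eq_of_add_eq_zero_left (K.add_self u)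

theorem add_cancel (u v : U) : u + v + v = u := by rw [add_assoc, K.add_self, add_zero]

theorem eq_of_add {u v : U} (h : u + v = 0) : u = v := by
  rw [eq_neg_of_add_eq_zero_left h, K.neg_eq]

theorem B_comm (u v : U) : K.B u v = K.B v u := by
  have h1 := K.quad.add u v
  have h2 := K.quad.add v u
  rw [add_comm v u, h1, add_comm (K.q v)] at h2
  exact add_left_cancel h2

theorem B_self (u : U) : K.B u u = 0 := by
  have h := K.quad.add u u
  rw [K.add_self, K.q_zero] at h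
  have key : ∀ a b : ZMod 2, 0 = a + a + b → b = 0 := by decide
  exact key _ _ h

theorem ν_one : K.ν 1 = 0 := (K.ν_eq_zero 1 (one_mem _)).2 (Or.inl rfl)

theorem ν_z : K.ν F.z = 0 := (K.ν_eq_zero _ F.zQ).2 (Or.inr rfl)

theorem ν_inv {a : G} (ha : a ∈ F.Q) : K.ν a⁻¹ = K.ν a := by
  refine K.eq_of_add ?_
  rw [← K.ν_mul _ (inv_mem ha) _ ha, inv_mul_cancel, K.ν_one]

theorem eq_or_eq {a b : G} (ha : a ∈ F.Q) (hb : b ∈ F.Q) (h : K.ν a = K.ν b) :
    b = a ∨ b = a * F.z := by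
  have h1 : K.ν (a⁻¹ * b) = 0 := by rw [K.ν_mul _ (inv_mem ha) _ hb, K.ν_inv ha, h, K.add_self]
  rcases (K.ν_eq_zero _ (mul_mem (inv_mem ha) hb)).1 h1 with e | e
  · exact Or.inl (inv_mul_eq_one.1 e).symm
  · exact Or.inr (eq_mul_of_inv_mul_eq e)

theorem commute_iff {a b : G} (ha : a ∈ F.Q) (hb : b ∈ F.Q) :
    Commute a b ↔ K.B (K.ν a) (K.ν b) = 0 := by
  have h := K.comm a ha b hb
  constructor
  · intro e
    refine zp_inj F.z_ne ?_
    rw [← e.eq] at h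
    simpa [zp] using h.symm
  · intro e
    rw [e] at h
    show a * b = b * a
    simpa [zp] using h.symm

theorem sq_iff {a : G} (ha : a ∈ F.Q) : a * a = 1 ↔ K.q (K.ν a) = 0 := by
  rw [K.sq a ha]
  rcases two_cases (K.q (K.ν a)) with e | e <;> rw [e] <;> simp [zp, F.z_ne]

/-- Conjugation by an element of `Q`. -/
theorem conj_eq {a b : G} (ha : a ∈ F.Q) (hb : b ∈ F.Q) :
    a * b * a⁻¹ = b * zp F.z (K.B (K.ν a) (K.ν b)) := by
  rw [K.B_comm, K.comm b hb a ha, mul_inv_eq_iff_eq_mul, mul_assoc b a, mul_assoc b]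
  congr 1
  rcases two_cases (K.B (K.ν b) (K.ν a)) with e | e <;> rw [e] <;> simp [zp]
  exact (F.mem_H.1 (F.Q_le ha)).eq

theorem conj_swap {a b : G} (ha : a ∈ F.Q) (hb : b ∈ F.Q) (h : K.B (K.ν a) (K.ν b) = 1) :
    a * b * a⁻¹ = F.z * b := by
  rw [K.conj_eq ha hb, h]
  simpa [zp] using (F.mem_H.1 (F.Q_le hb)).eq

theorem φ_add (m : M) (u v : U) : K.φ m (u + v) = K.φ m u + K.φ m v := by
  obtain ⟨⟨h, hh⟩, rfl⟩ := F.π_surj m
  obtain ⟨a, ha, rfl⟩ := K.ν_surj u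
  obtain ⟨b, hb, rfl⟩ := K.ν_surj v
  rw [← K.ν_mul a ha b hb, ← K.ν_conj h hh _ (mul_mem ha hb), ← K.ν_conj h hh a ha,
    ← K.ν_conj h hh b hb, ← K.ν_mul _ (F.conj_mem hh ha) _ (F.conj_mem hh hb)]
  congr 1
  group

theorem φ_zero (m : M) : K.φ m 0 = 0 := by
  have := K.φ_add m 0 0
  rw [add_zero] at this
  exact left_eq_add.1 this

theorem φ_q (m : M) (u : U) : K.q (K.φ m u) = K.q u := by
  obtain ⟨⟨h, hh⟩, rfl⟩ := F.π_surj m
  obtain ⟨a, ha, rfl⟩ := K.ν_surj u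
  rw [← K.ν_conj h hh a ha]
  refine zp_inj F.z_ne ?_
  rw [← K.sq _ (F.conj_mem hh ha), show h * a * h⁻¹ * (h * a * h⁻¹) = h * (a * a) * h⁻¹ by group,
    K.sq a ha]
  rcases two_cases (K.q (K.ν a)) with e | e <;> rw [e] <;> simp [zp]
  rw [(F.mem_H.1 hh).eq, mul_inv_cancel_right]

theorem φ_B (m : M) (u v : U) : K.B (K.φ m u) (K.φ m v) = K.B u v := by
  have h := K.quad.add (K.φ m u) (K.φ m v)
  rw [← K.φ_add, K.φ_q, K.φ_q, K.φ_q, K.quad.add] at h
  exact (add_left_cancel h).symm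

theorem φ_mul (m n : M) (u : U) : K.φ (m * n) u = K.φ m (K.φ n u) := by rw [map_mul]; rfl

/-- The stabiliser of a vector. -/
def stab (v : U) : Subgroup M where
  carrier := {m | K.φ m v = v}
  one_mem' := by show K.φ 1 v = v; rw [map_one]; rfl
  mul_mem' := fun {a b} ha hb => show K.φ (a * b) v = v by rw [K.φ_mul, hb, ha]
  inv_mem' := fun {a} ha => show K.φ a⁻¹ v = v by
    conv_lhs => rw [← (ha : K.φ a v = v), ← K.φ_mul, inv_mul_cancel, map_one]
    rfl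

theorem mem_stab {v : U} {m : M} : m ∈ K.stab v ↔ K.φ m v = v := Iff.rfl

/-- The preimage in `Q` of a subgroup of the space. -/
def lift (S : AddSubgroup U) : Subgroup G where
  carrier := {a | a ∈ F.Q ∧ K.ν a ∈ S}
  one_mem' := ⟨one_mem _, by rw [K.ν_one]; exact S.zero_mem⟩
  mul_mem' := fun {a b} ha hb => ⟨mul_mem ha.1 hb.1, by
    rw [K.ν_mul a ha.1 b hb.1]; exact S.add_mem ha.2 hb.2⟩
  inv_mem' := fun {a} ha => ⟨inv_mem ha.1, by rw [K.ν_inv ha.1]; exact ha.2⟩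

theorem mem_lift {S : AddSubgroup U} {a : G} : a ∈ K.lift S ↔ a ∈ F.Q ∧ K.ν a ∈ S := Iff.rfl

theorem lift_le (S : AddSubgroup U) : K.lift S ≤ F.Q := fun _ h => h.1

theorem z_mem_lift (S : AddSubgroup U) : F.z ∈ K.lift S :=
  ⟨F.zQ, by rw [K.ν_z]; exact S.zero_mem⟩

theorem card_lift (S : AddSubgroup U) : Nat.card ↥(K.lift S) = 2 * Nat.card ↥S := by
  let f : ↥(K.lift S) →* Multiplicative ↥S :=
    MonoidHom.mk' (fun a => .ofAdd ⟨K.ν a, a.2.2⟩) fun a b => by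
      rw [← ofAdd_add]; congr 1; exact Subtype.ext (K.ν_mul _ a.2.1 _ b.2.1)
  have hsurj : Function.Surjective f := fun s => by
    obtain ⟨a, ha, e⟩ := K.ν_surj (Multiplicative.toAdd s : ↥S)
    exact ⟨⟨a, ha, by rw [e]; exact Subtype.coe_prop _⟩, congrArg Multiplicative.ofAdd (Subtype.ext e)⟩
  have hker : ∀ a : ↥(K.lift S), a ∈ f.ker ↔ (a : G) = 1 ∨ (a : G) = F.z := fun a => by
    rw [← K.ν_eq_zero _ a.2.1, MonoidHom.mem_ker]
    exact ⟨fun h => congrArg (fun s : Multiplicative ↥S => ((Multiplicative.toAdd s : ↥S) : U)) h,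
      fun h => congrArg Multiplicative.ofAdd (Subtype.ext h)⟩
  have hk2 : Nat.card f.ker = 2 := by
    rw [Nat.card_eq_two_iff' (⟨1, one_mem _⟩ : f.ker)]
    refine ⟨⟨⟨F.z, K.z_mem_lift S⟩, (hker _).2 (Or.inr rfl)⟩,
      fun e => F.z_ne (congrArg (fun u : f.ker => ((u : ↥(K.lift S)) : G)) e), ?_⟩
    rintro ⟨b, hb⟩ hb1
    rcases (hker b).1 hb with e | e
    · exact absurd (Subtype.ext (Subtype.ext e)) hb1
    · exact Subtype.ext (Subtype.ext e)
  rw [← card_mul_index f.ker, hk2, index_ker, MonoidHom.range_eq_top.mpr hsurj, card_top]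
  rfl

theorem card_perp (S : AddSubgroup U) :
    Nat.card ↥(F2Forms.perp K.B S) * Nat.card ↥S = 256 := by
  classical
  rw [F2Forms.card_perp K.B (fun w hw => K.quad.nondeg w hw) S, K.card_U]

theorem mem_perp_zmultiples {v u : U} :
    u ∈ F2Forms.perp K.B (AddSubgroup.zmultiples v) ↔ K.B u v = 0 := by
  rw [F2Forms.mem_perp]
  refine ⟨fun h => h v (AddSubgroup.mem_zmultiples v), fun h w hw => ?_⟩
  obtain ⟨k, rfl⟩ := AddSubgroup.mem_zmultiples_iff.1 hw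
  rw [map_zsmul, h, smul_zero]

/-- An isotropic subgroup has at most sixteen elements. -/
theorem card_isotropic {S : AddSubgroup U} (h : ∀ a ∈ S, ∀ b ∈ S, K.B a b = 0) :
    Nat.card ↥S ≤ 16 := by
  have h1 := K.card_perp S
  have h2 : Nat.card ↥S ≤ Nat.card ↥(F2Forms.perp K.B S) :=
    AddSubgroup.card_le_of_le fun a ha => F2Forms.mem_perp.2 (h a ha)
  nlinarith

/-- The image in the space of a subgroup of `Q`. -/
def imgU (R : Subgroup G) (hR : R ≤ F.Q) : AddSubgroup U where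
  carrier := {u | ∃ a ∈ R, K.ν a = u}
  zero_mem' := ⟨1, one_mem _, K.ν_one⟩
  add_mem' := fun {u v} ⟨a, ha, hau⟩ ⟨b, hb, hbv⟩ =>
    ⟨a * b, mul_mem ha hb, by rw [K.ν_mul a (hR ha) b (hR hb), hau, hbv]⟩
  neg_mem' := fun {u} ⟨a, ha, hau⟩ => ⟨a, ha, by rw [K.neg_eq, hau]⟩

/-! ### A conjugate of `z` inside `Q` -/

section Inside

variable {g : G}

theorem ν_ne (hu : g * F.z * g⁻¹ ∈ F.Q) (hne : g * F.z * g⁻¹ ≠ F.z) :
    K.ν (g * F.z * g⁻¹) ≠ 0 := by
  intro h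
  rcases (K.ν_eq_zero _ hu).1 h with e | e
  · exact F.z_ne ((conj_eq_one_iff (a := g) (b := F.z)).1 e)
  · exact hne e

theorem q_conj (hu : g * F.z * g⁻¹ ∈ F.Q) : K.q (K.ν (g * F.z * g⁻¹)) = 0 := by
  rw [← K.sq_iff hu, show g * F.z * g⁻¹ * (g * F.z * g⁻¹) = g * (F.z * F.z) * g⁻¹ by group, F.z_sq]
  group

/-- An element of `Q` moving the conjugate. -/
theorem exists_moving (hu : g * F.z * g⁻¹ ∈ F.Q) (hne : g * F.z * g⁻¹ ≠ F.z) :
    ∃ y ∈ F.Q, y * (g * F.z * g⁻¹) * y⁻¹ = F.z * (g * F.z * g⁻¹) := by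
  obtain ⟨w, hw⟩ : ∃ w, K.B w (K.ν (g * F.z * g⁻¹)) ≠ 0 := by
    by_contra h
    push Not at h
    exact K.ν_ne hu hne (K.quad.nondeg _ h)
  obtain ⟨y, hy, rfl⟩ := K.ν_surj w
  exact ⟨y, hy, K.conj_swap hy hu ((two_cases _).resolve_left hw)⟩

/-- The stabiliser lifts to the centraliser of the conjugate. -/
theorem lift_stab (hu : g * F.z * g⁻¹ ∈ F.Q) (hne : g * F.z * g⁻¹ ≠ F.z) {m : M}
    (hm : m ∈ K.stab (K.ν (g * F.z * g⁻¹))) :
    ∃ (h : G) (hh : h ∈ F.H), F.π ⟨h, hh⟩ = m ∧ Commute h (g * F.z * g⁻¹) := by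
  obtain ⟨⟨h, hh⟩, rfl⟩ := F.π_surj m
  set u := g * F.z * g⁻¹ with hu0
  have h1 : K.ν u = K.ν (h * u * h⁻¹) := by rw [K.ν_conj h hh u hu]; exact hm.symm
  rcases K.eq_or_eq hu (F.conj_mem hh hu) h1 with e | e
  · exact ⟨h, hh, rfl, mul_inv_eq_iff_eq_mul.1 e⟩
  · obtain ⟨y, hy, hyu⟩ := K.exists_moving hu hne
    refine ⟨y * h, mul_mem (F.Q_le hy) hh, ?_, ?_⟩
    · rw [show (⟨y * h, mul_mem (F.Q_le hy) hh⟩ : ↥(centralizer ({F.z} : Set G))) =
        ⟨y, F.Q_le hy⟩ * ⟨h, hh⟩ from rfl, map_mul, (F.π_ker ⟨y, F.Q_le hy⟩).2 hy, one_mul]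
    · refine mul_inv_eq_iff_eq_mul.1 ?_
      calc y * h * u * (y * h)⁻¹ = y * (h * u * h⁻¹) * y⁻¹ := by group
        _ = (y * u * y⁻¹) * (y * F.z * y⁻¹) := by rw [e]; group
        _ = F.z * u * F.z := by
          rw [hyu, (F.mem_H.1 (F.Q_le hy)).eq, mul_inv_cancel_right]
        _ = u := by
          rw [mul_assoc, (F.mem_H.1 (F.Q_le hu)).eq, ← mul_assoc, F.z_sq, one_mul]

/-- The intersection of `Q` with its conjugate is isotropic in the space. -/
theorem B_inter (hne : g * F.z * g⁻¹ ≠ F.z) {a b : G} (ha : a ∈ F.Q ⊓ F.Qc g)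
    (hb : b ∈ F.Q ⊓ F.Qc g) : K.B (K.ν a) (K.ν b) = 0 := by
  rw [← K.commute_iff ha.1 hb.1, ← commutatorElement_eq_one_iff_commute]
  rcases F.comm_Q ha.1 hb.1 with h | h
  · exact h
  have h' : ⁅g⁻¹ * a * g, g⁻¹ * b * g⁆ = g⁻¹ * F.z * g := by
    rw [← h]; simp only [commutatorElement_def]; group
  rcases F.comm_Q (F.mem_Qc.1 ha.2) (F.mem_Qc.1 hb.2) with h1 | h1
  · have e : F.z = g * ⁅g⁻¹ * a * g, g⁻¹ * b * g⁆ * g⁻¹ := by rw [h']; group
    exact absurd (by rw [e, h1]; group) F.z_ne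
  · refine absurd ?_ hne
    have e : F.z = g * ⁅g⁻¹ * a * g, g⁻¹ * b * g⁆ * g⁻¹ := by rw [h']; group
    rw [h1] at e
    exact e.symm

theorem card_inter (hne : g * F.z * g⁻¹ ≠ F.z) :
    Nat.card ↥(F.Q ⊓ F.Qc g) ≤ 32 := by
  let S := K.imgU (F.Q ⊓ F.Qc g) inf_le_left
  have hS : Nat.card ↥S ≤ 16 := by
    refine K.card_isotropic ?_
    rintro _ ⟨a, ha, rfl⟩ _ ⟨b, hb, rfl⟩
    exact K.B_inter hne ha hb
  refine (card_le_of_le (K := K.lift S) fun (a : G) (ha : a ∈ F.Q ⊓ F.Qc g) => ⟨ha.1, a, ha, rfl⟩).trans ?_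
  rw [K.card_lift]
  omega

theorem trace_le (hu : g * F.z * g⁻¹ ∈ F.Q) :
    F.trace g ≤ K.stab (K.ν (g * F.z * g⁻¹)) := by
  rintro _ ⟨⟨k, hk⟩, hkc, rfl⟩
  rw [K.mem_stab, ← K.ν_conj k hk _ hu]
  congr 1
  have h1 : Commute (g⁻¹ * k * g) F.z := F.mem_H.1 (F.Q_le (F.mem_Qc.1 hkc))
  calc k * (g * F.z * g⁻¹) * k⁻¹ = g * ((g⁻¹ * k * g) * F.z * (g⁻¹ * k * g)⁻¹) * g⁻¹ := by group
    _ = g * F.z * g⁻¹ := by rw [h1.eq, mul_inv_cancel_right]

theorem trace_normal (hu : g * F.z * g⁻¹ ∈ F.Q) (hne : g * F.z * g⁻¹ ≠ F.z) {m : M}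
    (hm : m ∈ K.stab (K.ν (g * F.z * g⁻¹))) {x : M} (hx : x ∈ F.trace g) :
    m * x * m⁻¹ ∈ F.trace g := by
  obtain ⟨⟨k, hk⟩, hkc, rfl⟩ := hx
  obtain ⟨h, hh, rfl, hc⟩ := K.lift_stab hu hne hm
  exact ⟨⟨h, hh⟩ * ⟨k, hk⟩ * ⟨h, hh⟩⁻¹, F.Qc_conj hc hkc, by rw [map_mul, map_mul, map_inv]⟩

theorem card_trace (hu : g * F.z * g⁻¹ ∈ F.Q) (hne : g * F.z * g⁻¹ ≠ F.z) :
    8 ≤ Nat.card ↥(F.trace g) := by
  let A := (F.Qc g).comap (centralizer ({F.z} : Set G)).subtype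
  have hw := F.inv_mem_Q hu
  have hwne : g⁻¹ * F.z * g ≠ F.z := fun e => hne (by
    calc g * F.z * g⁻¹ = g * (g⁻¹ * F.z * g) * g⁻¹ := by rw [e]
      _ = F.z := by group)
  have hsize : 256 ≤ Nat.card ↥A := by
    have h1 : Nat.card ↥(K.lift (F2Forms.perp K.B (AddSubgroup.zmultiples (K.ν (g⁻¹ * F.z * g))))) = 256 := by
      have hv := K.ν_ne (g := g⁻¹) (by simpa using hw) (by simpa using hwne)
      have h2 : Nat.card ↥(AddSubgroup.zmultiples (K.ν (g⁻¹ * F.z * g))) = 2 := by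
        rw [Nat.card_zmultiples]
        exact addOrderOf_eq_prime (by rw [two_nsmul, K.add_self]) (by simpa using hv)
      have h3 := K.card_perp (AddSubgroup.zmultiples (K.ν (g⁻¹ * F.z * g)))
      rw [K.card_lift]
      rw [h2] at h3
      omega
    rw [← h1]
    refine Nat.card_le_card_of_injective
      (fun a => ⟨⟨g * a.1 * g⁻¹, ?_⟩, F.mem_Qc.2 (by simpa [mul_assoc] using a.2.1)⟩) ?_
    · have hc : Commute a.1 (g⁻¹ * F.z * g) :=
        (K.commute_iff a.2.1 hw).2 (K.mem_perp_zmultiples.1 a.2.2)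
      rw [F.mem_H]
      calc g * a.1 * g⁻¹ * F.z = g * (a.1 * (g⁻¹ * F.z * g)) * g⁻¹ := by group
        _ = g * ((g⁻¹ * F.z * g) * a.1) * g⁻¹ := by rw [hc.eq]
        _ = F.z * (g * a.1 * g⁻¹) := by group
    · intro a b h
      have := congrArg (fun t : ↥A => ((t : ↥(centralizer ({F.z} : Set G))) : G)) h
      exact Subtype.ext (mul_left_cancel (mul_right_cancel this))
  let f := F.π.comp A.subtype
  have hrange : f.range = F.trace g := by
    rw [MonoidHom.range_comp, Subgroup.range_subtype]; rfl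
  have hker : Nat.card f.ker ≤ 32 := by
    refine le_trans ?_ (K.card_inter hne)
    refine Nat.card_le_card_of_injective
      (fun a => ⟨((a : ↥A) : ↥(centralizer ({F.z} : Set G))), (F.π_ker _).1 a.2, (a : ↥A).2⟩)
      fun a b h => Subtype.ext (Subtype.ext (Subtype.ext (congrArg Subtype.val h :)))
  have hmul : Nat.card f.ker * Nat.card f.range = Nat.card ↥A := by
    rw [← index_ker, card_mul_index]
  rw [← hrange]
  nlinarith

end Inside

end Coord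

end Frame

end Cfsg.Agent.H47.Ex9
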