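import Cfsg.Agent.H47.Ex9.Small
import Mathlib.GroupTheory.SpecificGroups.Alternating.Simple
import Mathlib.GroupTheory.Perm.Cycle.Type

/-!
A quotient with a subgroup `S₃ × A₆`: the elements of order three of the first factor act without
fixed points unless the parity criterion applies.
-/

set_option autoImplicit false

namespace Cfsg.Agent.H47.Ex9.Frame.Coord

open Subgroup Cfsg.Agent.H92 Equiv

universe u v

variable {G : Type u} [Group G] [Finite G] {M : Type v} [Group M] [Finite M] {F : Frame G M}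
  {U : Type} [AddCommGroup U] [Fintype U] (K : F.Coord U)

set_option linter.unusedSectionVars false

theorem two_pow_mod_five {i j : ℕ} (hi : i ≤ j) (hj : j ≤ 6) (h : 2 ^ i % 5 = 2 ^ j % 5) :
    i = j ∨ (j = i + 4) := by
  interval_cases j <;> interval_cases i <;> omega

/-- The quotient contains `S₃ × A₆` and `2`-subgroups normalised by the `A₆` are small. -/
structure Sub (M : Type v) [Group M] where
  /-- The embedding. -/
  ι : Perm (Fin 3) × ↥(alternatingGroup (Fin 6)) →* M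
  ι_inj : Function.Injective ι
  small : ∀ X : Subgroup M, IsPGroup 2 ↥X →
    (∀ s, ∀ x ∈ X, ι (1, s) * x * (ι (1, s))⁻¹ ∈ X) → Nat.card ↥X < 8

/-- A five-cycle. -/
def five : ↥(alternatingGroup (Fin 6)) :=
  ⟨swap 0 1 * swap 1 2 * swap 2 3 * swap 3 4, by rw [Equiv.Perm.mem_alternatingGroup]; decide⟩

theorem five_pow : (five : ↥(alternatingGroup (Fin 6))) ^ 5 = 1 := by decide

theorem five_ne : (five : ↥(alternatingGroup (Fin 6))) ≠ 1 := by decide

include K

/-- The form restricted to a subgroup. -/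
def restrict (T : AddSubgroup U) : ↥T →+ ↥T →+ ZMod 2 :=
  AddMonoidHom.mk' (fun a => (K.B a).comp T.subtype) fun a b => by ext; simp

/-- A subgroup on which the form is nondegenerate. -/
def Nondeg' (T : AddSubgroup U) : Prop := ∀ w ∈ T, (∀ v ∈ T, K.B w v = 0) → w = 0

theorem restrict_nondeg {T : AddSubgroup U} (hT : K.Nondeg' T) :
    ∀ w : ↥T, (∀ v, K.restrict T v w = 0) → w = 0 := fun w hw =>
  Subtype.ext (hT w w.2 fun v hv => by rw [K.B_comm]; exact hw ⟨v, hv⟩)

theorem isotropic_sq_le {T R : AddSubgroup U} (hT : K.Nondeg' T) (hRT : R ≤ T)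
    (h : ∀ a ∈ R, ∀ b ∈ R, K.B a b = 0) : Nat.card ↥R * Nat.card ↥R ≤ Nat.card ↥T := by
  classical
  have h1 := F2Forms.card_perp (K.restrict T) (K.restrict_nondeg hT) (R.addSubgroupOf T)
  rw [Nat.card_congr (AddSubgroup.addSubgroupOfEquivOfLe hRT).toEquiv] at h1
  refine le_trans (Nat.mul_le_mul_right _ ?_) h1.le
  rw [← Nat.card_congr (AddSubgroup.addSubgroupOfEquivOfLe hRT).toEquiv]
  exact AddSubgroup.card_le_of_le fun a ha => F2Forms.mem_perp.2 fun b hb => h _ ha _ hb

/-- The zeros of the form on a four-dimensional nondegenerate subgroup. -/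
theorem card_singular {T : AddSubgroup U} (hT : K.Nondeg' T) (h16 : Nat.card ↥T = 16) :
    Nat.card {v : ↥T // v ≠ 0 ∧ K.q v = 0} = 5 ∨ Nat.card {v : ↥T // v ≠ 0 ∧ K.q v = 0} = 9 := by
  classical
  set S : ℤ := ∑ v : ↥T, F2Forms.chi (K.q v) with hS
  have hsq : S * S = 16 := by
    have hshift : ∀ v : ↥T, ∑ u : ↥T, F2Forms.chi (K.q u) =
        ∑ u : ↥T, F2Forms.chi (K.q ((u + v : ↥T) : U)) := fun v =>
      (Fintype.sum_equiv (Equiv.addRight v) (fun u => F2Forms.chi (K.q ((u + v : ↥T) : U)))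
        (fun u => F2Forms.chi (K.q u)) fun u => rfl).symm
    calc S * S = ∑ v : ↥T, F2Forms.chi (K.q v) * ∑ u : ↥T, F2Forms.chi (K.q ((u + v : ↥T) : U)) := by
          rw [hS, Finset.sum_mul]
          exact Finset.sum_congr rfl fun v _ => by rw [← hshift v]
      _ = ∑ u : ↥T, F2Forms.chi (K.q u) * ∑ v : ↥T, F2Forms.chi (K.restrict T u v) := by
          simp only [Finset.mul_sum]
          rw [Finset.sum_comm]
          refine Finset.sum_congr rfl fun u _ => Finset.sum_congr rfl fun v _ => ?_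
          rw [AddSubgroup.coe_add, K.quad.add, F2Forms.chi_add, F2Forms.chi_add]
          show _ = F2Forms.chi (K.q u) * F2Forms.chi (K.B u v)
          have hv : F2Forms.chi (K.q v) * F2Forms.chi (K.q v) = 1 := by
            rw [← F2Forms.chi_add, CharTwo.add_self_eq_zero]; rfl
          linear_combination F2Forms.chi (K.q u) * F2Forms.chi (K.B u v) * hv
      _ = ∑ u : ↥T, F2Forms.chi (K.q u) * if u = 0 then 16 else 0 := by
          refine Finset.sum_congr rfl fun u _ => ?_
          congr 1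
          by_cases hu : u = 0
          · subst hu
            rw [if_pos rfl]
            simp [F2Forms.chi, ← Nat.card_eq_fintype_card, h16]
          · rw [if_neg hu]
            have hne : ¬ ∀ v ∈ (⊤ : AddSubgroup ↥T), K.restrict T u v = 0 := fun h =>
              hu (K.restrict_nondeg hT u fun v =>
                (K.B_comm _ _).trans (h v (AddSubgroup.mem_top v)))
            have := F2Forms.sum_chi_hom (⊤ : AddSubgroup ↥T) (K.restrict T u)
            rw [if_neg hne] at this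
            rw [← this]
            exact Fintype.sum_equiv AddSubgroup.topEquiv.symm.toEquiv _ _ (fun v => rfl)
      _ = 16 := by simp [K.q_zero, F2Forms.chi]
  have hsum : S = 2 * (Nat.card {v : ↥T // v ≠ 0 ∧ K.q v = 0} : ℤ) + 2 - 16 := by
    have h1 : Nat.card {v : ↥T // v ≠ 0 ∧ K.q v = 0} + 1 =
        (Finset.univ.filter fun v : ↥T => K.q v = 0).card := by
      rw [Nat.card_eq_fintype_card, Fintype.card_subtype,
        show (Finset.univ.filter fun v : ↥T => v ≠ 0 ∧ K.q v = 0) =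
          (Finset.univ.filter fun v : ↥T => K.q v = 0).erase 0 by ext; simp,
        Finset.card_erase_add_one (by simp [K.q_zero])]
    have h2 : ∀ v : ↥T, F2Forms.chi (K.q v) = 2 * (if K.q v = 0 then 1 else 0) - 1 := by
      intro v; simp only [F2Forms.chi]; split_ifs <;> norm_num
    rw [hS, Finset.sum_congr rfl fun v _ => h2 v, Finset.sum_sub_distrib, ← Finset.mul_sum,
      Finset.sum_boole, Finset.sum_const, Finset.card_univ, ← Nat.card_eq_fintype_card, h16, ← h1]
    push_cast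
    ring
  have hS4 : S = 4 ∨ S = -4 := sq_eq_sq_iff_eq_or_eq_neg.1 (show S ^ 2 = 4 ^ 2 by rw [pow_two, hsq]; norm_num)
  omega

theorem card_eq_two_pow (T : AddSubgroup U) : ∃ k ≤ 8, Nat.card ↥T = 2 ^ k := by
  refine (Nat.dvd_prime_pow Nat.prime_two).1 ?_
  have := AddSubgroup.card_addSubgroup_dvd_card T
  rwa [K.card_U] at this

/-- The fixed vectors of `n` inside `T`. -/
def fixIn (T : AddSubgroup U) (n : M) : AddSubgroup U := T ⊓ K.fix n

theorem mem_fixIn {T : AddSubgroup U} {n : M} {v : U} :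
    v ∈ K.fixIn T n ↔ v ∈ T ∧ K.φ n v = v := Iff.rfl

theorem card_fixIn_modEq {T : AddSubgroup U} {n : M} {p : ℕ} (hp : p.Prime) (hn : n ^ p = 1)
    (hT : ∀ v ∈ T, K.φ n v ∈ T) : Nat.card ↥(K.fixIn T n) % p = Nat.card ↥T % p := by
  classical
  haveI := Fact.mk hp
  have hT' : ∀ v, K.φ n v ∈ T ↔ v ∈ T := fun v => ⟨fun h => by
    have : ∀ i : ℕ, K.φ (n ^ (i + 1)) v ∈ T := by
      intro i
      induction i with
      | zero => simpa using h
      | succ i ih => rw [pow_succ' n (i + 1), K.φ_mul]; exact hT _ ih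
    have h1 := this (p - 1)
    rwa [Nat.sub_add_cancel hp.one_le, hn, map_one] at h1, hT v⟩
  let σ : Perm ↥T := (K.φ n).subtypePerm hT'
  have hσ : σ ^ p = 1 := by
    refine Equiv.ext fun v => Subtype.ext ?_
    rw [Perm.subtypePerm_pow]
    show (K.φ n ^ p) v = v
    rw [← map_pow, hn, map_one]; rfl
  have h := Perm.card_compl_support_modEq (p := p) (n := 1) (σ := σ) (by rwa [pow_one])
  have e : Nat.card ↥(K.fixIn T n) = σ.supportᶜ.card := by
    rw [← Nat.card_eq_finsetCard]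
    refine Nat.card_congr
      { toFun := fun v => ⟨⟨v, v.2.1⟩, by
          rw [Finset.mem_compl, Perm.notMem_support]; exact Subtype.ext v.2.2⟩
        invFun := fun v => ⟨v.1, v.1.2, by
          have := v.2
          rw [Finset.mem_compl, Perm.notMem_support] at this
          exact congrArg Subtype.val this⟩
        left_inv := fun v => rfl
        right_inv := fun v => rfl }
  rw [e, Nat.card_eq_fintype_card]
  exact h

/-- The sum over the powers of `n`. -/
def avg (n : M) (k : ℕ) : U →+ U :=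
  AddMonoidHom.mk' (fun v => ∑ i ∈ Finset.range k, K.φ (n ^ i) v) fun a b => by
    rw [Finset.sum_congr rfl fun i _ => K.φ_add (n ^ i) a b, Finset.sum_add_distrib]

theorem avg_apply (n : M) (k : ℕ) (v : U) : K.avg n k v = ∑ i ∈ Finset.range k, K.φ (n ^ i) v :=
  rfl

theorem φ_avg {n : M} {k : ℕ} (hn : n ^ k = 1) (v : U) : K.φ n (K.avg n k v) = K.avg n k v := by
  let f : U →+ U := AddMonoidHom.mk' (fun u => K.φ n u) (K.φ_add n)
  show f (∑ i ∈ Finset.range k, K.φ (n ^ i) v) = _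
  rw [map_sum]
  show ∑ i ∈ Finset.range k, K.φ n (K.φ (n ^ i) v) = _
  simp only [← K.φ_mul, ← pow_succ']
  apply add_right_cancel (b := K.φ (n ^ 0) v)
  rw [← Finset.sum_range_succ' (fun i => K.φ (n ^ i) v), Finset.sum_range_succ, hn, pow_zero]
  rfl

theorem avg_of_fixed {n : M} {k : ℕ} (hk : k % 2 = 1) {v : U} (hv : K.φ n v = v) :
    K.avg n k v = v := by
  have h : ∀ i, K.φ (n ^ i) v = v := by
    intro i
    induction i with
    | zero => rw [pow_zero, map_one]; rfl
    | succ i ih => rw [pow_succ, K.φ_mul, hv, ih]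
  rw [K.avg_apply, Finset.sum_congr rfl fun i _ => h i, Finset.sum_const, Finset.card_range,
    ← Nat.div_add_mod k 2, hk, add_nsmul, mul_comm, mul_nsmul', two_nsmul, K.add_self, smul_zero,
    zero_add, one_nsmul]

theorem B_avg {n : M} {k : ℕ} (hn : n ^ k = 1) (hk : k % 2 = 1) (u v : U) :
    K.B (K.avg n k u) v = K.B u (K.avg n k v) := by
  have key : ∀ u v, K.B (K.avg n k u) v = K.B (K.avg n k u) (K.avg n k v) := by
    intro u v
    have h : ∀ i, K.B (K.avg n k u) (K.φ (n ^ i) v) = K.B (K.avg n k u) v := by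
      intro i
      induction i with
      | zero => rw [pow_zero, map_one]; rfl
      | succ i ih => rw [pow_succ', K.φ_mul, ← K.φ_avg hn u, K.φ_B, ih, K.φ_avg hn u]
    rw [K.avg_apply n k v, map_sum, Finset.sum_congr rfl fun i _ => h i, Finset.sum_const,
      Finset.card_range, ← Nat.div_add_mod k 2, hk, add_nsmul, mul_comm, mul_nsmul', two_nsmul,
      CharTwo.add_self_eq_zero, smul_zero, zero_add, one_nsmul]
  rw [key u v, K.B_comm u, key v u, K.B_comm]

/-- The vectors of `T` killed by the average. -/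
def coinv (T : AddSubgroup U) (n : M) (k : ℕ) : AddSubgroup U := T ⊓ (K.avg n k).ker

theorem mem_coinv {T : AddSubgroup U} {n : M} {k : ℕ} {v : U} :
    v ∈ K.coinv T n k ↔ v ∈ T ∧ K.avg n k v = 0 := Iff.rfl

theorem avg_mem {T : AddSubgroup U} {n : M} {k : ℕ} (hT : ∀ v ∈ T, K.φ n v ∈ T) {v : U}
    (hv : v ∈ T) : K.avg n k v ∈ T := by
  rw [K.avg_apply]
  refine T.sum_mem fun i _ => ?_
  clear * - hT hv
  induction i with
  | zero => rw [pow_zero, map_one]; exact hv
  | succ i ih => rw [pow_succ', K.φ_mul]; exact hT _ ih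

theorem card_split {T : AddSubgroup U} {n : M} {k : ℕ} (hn : n ^ k = 1) (hk : k % 2 = 1)
    (hT : ∀ v ∈ T, K.φ n v ∈ T) :
    Nat.card ↥(K.fixIn T n) * Nat.card ↥(K.coinv T n k) = Nat.card ↥T := by
  rw [← Nat.card_prod]
  refine (Nat.card_congr (β := ↥(K.fixIn T n) × ↥(K.coinv T n k))
    { toFun := fun v : ↥T => (⟨K.avg n k v, K.avg_mem hT v.2, K.φ_avg hn v⟩,
        ⟨v + K.avg n k v, T.add_mem v.2 (K.avg_mem hT v.2), ?_⟩)
      invFun := fun p => ⟨(p.1 : U) + p.2, T.add_mem p.1.2.1 p.2.2.1⟩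
      left_inv := fun v => Subtype.ext ?_
      right_inv := fun p => ?_ }).symm
  · show K.avg n k (v + K.avg n k v) = 0
    rw [map_add, K.avg_of_fixed hk (K.φ_avg hn v), K.add_self]
  · show K.avg n k v + (v + K.avg n k v) = v
    rw [add_comm, K.add_cancel]
  · have h1 : K.avg n k ((p.1 : U) + p.2) = p.1 := by
      rw [map_add, K.avg_of_fixed hk p.1.2.2, (K.mem_coinv.1 p.2.2).2, add_zero]
    refine Prod.ext (Subtype.ext h1) (Subtype.ext ?_)
    show (p.1 : U) + p.2 + K.avg n k ((p.1 : U) + p.2) = p.2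
    rw [h1, add_comm (p.1 : U) p.2, K.add_cancel]

theorem nondeg_fixIn {T : AddSubgroup U} {n : M} {k : ℕ} (hn : n ^ k = 1) (hk : k % 2 = 1)
    (hT : ∀ v ∈ T, K.φ n v ∈ T) (hTn : K.Nondeg' T) : K.Nondeg' (K.fixIn T n) := by
  intro w hw h
  refine hTn w hw.1 fun v hv => ?_
  rw [← K.avg_of_fixed hk hw.2, K.B_avg hn hk]
  exact h _ ⟨K.avg_mem hT hv, K.φ_avg hn v⟩

theorem nondeg_coinv {T : AddSubgroup U} {n : M} {k : ℕ} (hn : n ^ k = 1) (hk : k % 2 = 1)
    (hT : ∀ v ∈ T, K.φ n v ∈ T) (hTn : K.Nondeg' T) : K.Nondeg' (K.coinv T n k) := by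
  intro w hw h
  refine hTn w hw.1 fun v hv => ?_
  have h1 : K.B w (K.avg n k v) = 0 := by rw [← K.B_avg hn hk, hw.2]; simp
  have h2 := h (v + K.avg n k v) ⟨T.add_mem hv (K.avg_mem hT hv), by
    show K.avg n k (v + K.avg n k v) = 0
    rw [map_add, K.avg_of_fixed hk (K.φ_avg hn v), K.add_self]⟩
  rwa [map_add, h1, add_zero] at h2

variable (f : ↥(alternatingGroup (Fin 6)) →* M)

/-- `S` acts trivially on a subgroup as soon as the five-cycle does. -/
theorem trivial_of_five {T : AddSubgroup U} (hT : ∀ s, ∀ v ∈ T, K.φ (f s) v ∈ T)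
    (h : ∀ v ∈ T, K.φ (f five) v = v) : ∀ s, ∀ v ∈ T, K.φ (f s) v = v := by
  let N : Subgroup ↥(alternatingGroup (Fin 6)) :=
    { carrier := {s | ∀ v ∈ T, K.φ (f s) v = v}
      one_mem' := fun v _ => by rw [map_one, map_one]; rfl
      mul_mem' := fun {a b} ha hb v hv => by rw [map_mul, K.φ_mul, hb v hv, ha v hv]
      inv_mem' := fun {a} ha v hv => by
        conv_lhs => rw [← ha v hv, ← K.φ_mul, ← map_mul, inv_mul_cancel, map_one, map_one]
        rfl }
  have hN : N.Normal := ⟨fun n hn g v hv => by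
    rw [map_mul f, map_mul f, K.φ_mul, K.φ_mul, show K.φ (f n) (K.φ (f g⁻¹) v) = K.φ (f g⁻¹) v from
      hn _ (hT g⁻¹ v hv), ← K.φ_mul, ← map_mul f,
      mul_inv_cancel, map_one, map_one]
    rfl⟩
  haveI := alternatingGroup.isSimpleGroup (α := Fin 6) (by simp)
  rcases hN.eq_bot_or_eq_top with e | e
  · exact absurd (Subgroup.mem_bot.1 (e ▸ (h : five ∈ N) : five ∈ (⊥ : Subgroup _))) five_ne
  · exact fun s => (e ▸ Subgroup.mem_top s : s ∈ N)

theorem five_trivial {T : AddSubgroup U} (hT : ∀ v ∈ T, K.φ (f five) v ∈ T)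
    (h : Nat.card ↥T ≤ 8) : ∀ v ∈ T, K.φ (f five) v = v := by
  have h5 : (f five) ^ 5 = 1 := by rw [← map_pow, five_pow, map_one]
  obtain ⟨j, -, hj⟩ := K.card_eq_two_pow T
  obtain ⟨i, -, hi⟩ := K.card_eq_two_pow (K.fixIn T (f five))
  have h2 := K.card_fixIn_modEq Nat.prime_five h5 hT
  have hle : Nat.card ↥(K.fixIn T (f five)) ≤ Nat.card ↥T :=
    AddSubgroup.card_le_of_le inf_le_left
  rw [hi, hj] at h2 hle
  have hij := (Nat.pow_le_pow_iff_right (by norm_num : 1 < 2)).1 hle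
  rw [hj] at h
  have hj3 := (Nat.pow_le_pow_iff_right (by norm_num : 1 < 2)).1 (h.trans_eq (by norm_num : 8 = 2 ^ 3))
  rcases two_pow_mod_five hij (by omega) h2 with e | e
  · intro v hv
    have := AddSubgroup.eq_of_le_of_card_ge (inf_le_left : K.fixIn T (f five) ≤ T)
      (show Nat.card ↥T ≤ Nat.card ↥(K.fixIn T (f five)) by rw [hi, hj, e])
    exact (this.ge hv).2
  · omega

/-- `S` cannot act fixed-point-freely on a four-dimensional nondegenerate subgroup. -/
theorem false_of_sixteen {T : AddSubgroup U} (hTn : K.Nondeg' T) (h16 : Nat.card ↥T = 16)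
    (hb : ∀ v ∈ T, K.φ (f five) v ∈ T)
    (hfix : ∀ v ∈ T, K.φ (f five) v = v → v = 0)
    (h : (∀ s, ∀ v ∈ T, K.φ (f s) v ∈ T) ∨
      ∃ n : M, n ^ 3 = 1 ∧ (∀ v ∈ T, K.φ n v ∈ T) ∧ ∀ v ∈ T, K.φ n v = v → v = 0) : False := by
  classical
  let α := {v : ↥T // v ≠ 0 ∧ K.q v = 0}
  have hperm : ∀ n : M, (∀ v ∈ T, K.φ n v ∈ T) → ∃ f : α → α, ∀ a, ((f a).1 : U) = K.φ n a.1 := by
    intro n hn
    refine ⟨fun a => ⟨⟨K.φ n a.1, hn _ a.1.2⟩, fun e => a.2.1 (Subtype.ext ?_), by
      rw [K.φ_q]; exact a.2.2⟩, fun a => rfl⟩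
    have := congrArg Subtype.val e
    exact (K.φ n).injective (this.trans (K.φ_zero n).symm)
  have hmod : ∀ (n : M) (p : ℕ), p.Prime → n ^ p = 1 → (∀ v ∈ T, K.φ n v ∈ T) →
      (∀ v ∈ T, K.φ n v = v → v = 0) → Nat.card α % p = 0 := by
    intro n p hp hn hnT hnf
    haveI := Fact.mk hp
    obtain ⟨f, hf⟩ := hperm n hnT
    have hfp : ∀ i a, ((f^[i] a).1 : U) = K.φ (n ^ i) a.1 := by
      intro i
      induction i with
      | zero => intro a; rw [pow_zero, map_one]; rfl
      | succ i ih => intro a; rw [Function.iterate_succ_apply', hf, ih, pow_succ', K.φ_mul]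
    have hfi : Function.Injective f := fun a b e => Subtype.ext (Subtype.ext ((K.φ n).injective
      (by rw [← hf, ← hf, e])))
    let σ : Perm α := Equiv.ofBijective f (Finite.injective_iff_bijective.1 hfi)
    have hσ : σ ^ p ^ 1 = 1 := by
      refine Equiv.ext fun a => Subtype.ext (Subtype.ext ?_)
      rw [pow_one, ← Equiv.Perm.iterate_eq_pow]
      show ((f^[p] a).1 : U) = _
      rw [hfp, hn, map_one]; rfl
    have hsup : σ.supportᶜ = ∅ := Finset.eq_empty_of_forall_notMem fun a ha => a.2.1 (by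
      rw [Finset.mem_compl, Perm.notMem_support] at ha
      exact Subtype.ext (hnf _ a.1.2 ((hf a).symm.trans (congrArg (fun b : α => ((b.1 : ↥T) : U)) ha))))
    have := Perm.card_compl_support_modEq (p := p) (n := 1) hσ
    rw [hsup, Finset.card_empty] at this
    rw [Nat.card_eq_fintype_card]
    exact this.symm
  have h5 : (f five) ^ 5 = 1 := by rw [← map_pow, five_pow, map_one]
  have hα5 := hmod _ 5 Nat.prime_five h5 hb hfix
  have hα : Nat.card α = 5 := by
    rcases K.card_singular hTn h16 with e | e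
    · exact e
    · exact absurd hα5 (by rw [show Nat.card α = 9 from e]; norm_num)
  rcases h with hS | ⟨n, hn, hnT, hnf⟩
  · letI : MulAction ↥(alternatingGroup (Fin 6)) α :=
      { smul := fun s a => ⟨⟨K.φ (f s) a.1, hS s _ a.1.2⟩, fun e => a.2.1 (Subtype.ext
          ((K.φ _).injective ((congrArg Subtype.val e).trans (K.φ_zero _).symm))), by
            rw [K.φ_q]; exact a.2.2⟩
        one_smul := fun a => Subtype.ext (Subtype.ext (by
          show K.φ (f 1) a.1 = a.1
          rw [map_one f, map_one]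
          rfl))
        mul_smul := fun s t a => Subtype.ext (Subtype.ext (by
          show K.φ (f (s * t)) a.1 = K.φ (f s) (K.φ (f t) a.1)
          rw [← K.φ_mul, ← map_mul])) }
    let f := MulAction.toPermHom ↥(alternatingGroup (Fin 6)) α
    haveI := alternatingGroup.isSimpleGroup (α := Fin 6) (by simp)
    rcases f.normal_ker.eq_bot_or_eq_top with e | e
    · have h1 := Nat.card_le_card_of_injective f ((MonoidHom.ker_eq_bot_iff f).1 e)
      rw [Nat.card_perm, hα, nat_card_alternatingGroup, Nat.card_fin] at h1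
      norm_num [Nat.factorial] at h1
    · obtain ⟨a⟩ : Nonempty α := by
        have : 0 < Nat.card α := by omega
        exact (Nat.card_pos_iff.1 this).1
      have h1 : f five a = a := by
        rw [show f five = 1 from MonoidHom.mem_ker.1 (e ▸ Subgroup.mem_top _)]; rfl
      exact a.2.1 (Subtype.ext (hfix _ a.1.2 (congrArg (fun b : α => ((b.1 : ↥T) : U)) h1)))
  · have := hmod n 3 Nat.prime_three hn hnT hnf
    rw [hα] at this
    norm_num at this

/-- The three-cycles of the first factor have no fixed vectors unless the criterion applies. -/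
theorem fix_three_eq_zero (E : Sub M) [IsSimpleGroup G] (M₀ : Subgroup M) (hM₀ : M₀.index = 2)
    (hτ : E.ι (swap 0 1, 1) ∉ M₀) :
    ∀ v, K.φ (E.ι (swap 0 1 * swap 1 2, 1)) v = v → v = 0 := by
  classical
  set a := E.ι (swap 0 1 * swap 1 2, 1) with hadef
  set τ := E.ι (swap 0 1, 1) with hτdef
  set b := E.ι (1, five) with hbdef
  have ha3 : a ^ 3 = 1 := by
    rw [hadef, ← map_pow, Prod.pow_mk, one_pow,
      show (swap 0 1 * swap 1 2 : Perm (Fin 3)) ^ 3 = 1 by decide]
    exact map_one _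
  have ha1 : a ≠ 1 := fun e => by
    have := congrArg Prod.fst (E.ι_inj (e.trans (map_one E.ι).symm))
    exact absurd this (by decide)
  have hb5 : b ^ 5 = 1 := by rw [hbdef, ← map_pow, Prod.pow_mk, one_pow, five_pow]; exact map_one _
  have hb1 : b ≠ 1 := fun e => five_ne (congrArg Prod.snd (E.ι_inj (e.trans (map_one E.ι).symm)))
  have hτ2 : τ * τ = 1 := by rw [hτdef, ← map_mul, Prod.mk_mul_mk, swap_mul_self, one_mul]; exact map_one _
  have hcomm : ∀ (σ : Perm (Fin 3)) s, Commute (E.ι (σ, 1)) (E.ι (1, s)) := fun σ s => by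
    show _ * _ = _ * _
    rw [← map_mul, ← map_mul, Prod.mk_mul_mk, Prod.mk_mul_mk]; simp
  have hτa : τ * a * τ = a * a := by
    rw [hτdef, hadef, ← map_mul, ← map_mul, ← map_mul, Prod.mk_mul_mk, Prod.mk_mul_mk,
      Prod.mk_mul_mk]
    congr 2
    · decide
  let T : AddSubgroup U := ⊤
  set Ua := K.fixIn T a
  set Uc := K.coinv T a 3
  have hTinv : ∀ n : M, ∀ v ∈ T, K.φ n v ∈ T := fun _ v _ => AddSubgroup.mem_top _
  have hTn : K.Nondeg' T := fun w _ h => K.quad.nondeg w fun v => by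
    rw [K.B_comm]; exact h v (AddSubgroup.mem_top v)
  have hUan : K.Nondeg' Ua := K.nondeg_fixIn ha3 rfl (hTinv a) hTn
  have hUcn : K.Nondeg' Uc := K.nondeg_coinv ha3 rfl (hTinv a) hTn
  have hsplit : Nat.card ↥Ua * Nat.card ↥Uc = 256 := by
    rw [K.card_split ha3 rfl (hTinv a), Nat.card_congr AddSubgroup.topEquiv.toEquiv, K.card_U]
  have hUaS : ∀ n : M, Commute a n → ∀ v ∈ Ua, K.φ n v ∈ Ua := fun n hn v hv => by
    refine ⟨AddSubgroup.mem_top _, ?_⟩
    show K.φ a (K.φ n v) = K.φ n v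
    rw [← K.φ_mul, hn.eq, K.φ_mul, show K.φ a v = v from hv.2]
  have havg : ∀ n : M, Commute a n → ∀ v, K.avg a 3 (K.φ n v) = K.φ n (K.avg a 3 v) := by
    intro n hn v
    let f : U →+ U := AddMonoidHom.mk' (fun u => K.φ n u) (K.φ_add n)
    show _ = f (K.avg a 3 v)
    rw [K.avg_apply, K.avg_apply, map_sum]
    refine Finset.sum_congr rfl fun i _ => ?_
    show _ = K.φ n (K.φ (a ^ i) v)
    rw [← K.φ_mul, ← K.φ_mul, (hn.pow_left i).eq]
  have hUcS : ∀ n : M, Commute a n → ∀ v ∈ Uc, K.φ n v ∈ Uc := fun n hn v hv => by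
    refine ⟨AddSubgroup.mem_top _, ?_⟩
    show K.avg a 3 (K.φ n v) = 0
    rw [havg n hn, show K.avg a 3 v = 0 from hv.2, K.φ_zero]
  have haS : ∀ s, Commute a (E.ι (1, s)) := fun s => hcomm _ s
  have hsep : ∀ n : M, (∀ v ∈ Ua, K.φ n v = v) → (∀ v ∈ Uc, K.φ n v = v) → n = 1 := by
    intro n h1 h2
    refine K.φ_inj (Equiv.ext fun v => ?_)
    have e : v = K.avg a 3 v + (v + K.avg a 3 v) := by rw [add_comm, K.add_cancel]
    rw [map_one, e, K.φ_add, h1 _ ⟨AddSubgroup.mem_top _, K.φ_avg ha3 v⟩, h2 _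
      ⟨AddSubgroup.mem_top _, by
        show K.avg a 3 (v + K.avg a 3 v) = 0
        rw [map_add, K.avg_of_fixed rfl (K.φ_avg ha3 v), K.add_self]⟩]
    rfl
  have hUcfix : ∀ v ∈ Uc, K.φ a v = v → v = 0 := fun v hv h => by
    rw [← K.avg_of_fixed (n := a) (k := 3) rfl h]; exact hv.2
  have hUaInv : ∀ s, ∀ v ∈ Ua, K.φ (E.ι (1, s)) v ∈ Ua := fun s => hUaS _ (haS s)
  have hUcInv : ∀ s, ∀ v ∈ Uc, K.φ (E.ι (1, s)) v ∈ Uc := fun s => hUcS _ (haS s)
  have hfixb : ∀ T' : AddSubgroup U, (∀ v ∈ T', K.φ b v ∈ T') →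
      ∀ j, Nat.card ↥T' = 2 ^ j → j ≤ 6 → (∀ v ∈ T', K.φ b v = v) ∨
        ∃ i, j = i + 4 ∧ Nat.card ↥(K.fixIn T' b) = 2 ^ i := by
    intro T' hT' j hj hj6
    obtain ⟨i, -, hi⟩ := K.card_eq_two_pow (K.fixIn T' b)
    have h2 := K.card_fixIn_modEq Nat.prime_five hb5 hT'
    have hle : Nat.card ↥(K.fixIn T' b) ≤ Nat.card ↥T' := AddSubgroup.card_le_of_le inf_le_left
    rw [hi, hj] at h2 hle
    have hij := (Nat.pow_le_pow_iff_right (by norm_num : 1 < 2)).1 hle
    rcases two_pow_mod_five hij hj6 h2 with e | e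
    · left
      intro v hv
      have := AddSubgroup.eq_of_le_of_card_ge (inf_le_left : K.fixIn T' b ≤ T')
        (show Nat.card ↥T' ≤ Nat.card ↥(K.fixIn T' b) by rw [hi, hj, e])
      exact (this.ge hv).2
    · exact Or.inr ⟨i, e, hi⟩
  have hzero : ∀ T' : AddSubgroup U, Nat.card ↥(K.fixIn T' b) = 2 ^ 0 →
      ∀ v ∈ T', K.φ b v = v → v = 0 := by
    intro T' h v hv hbv
    have := AddSubgroup.eq_bot_of_card_eq (K.fixIn T' b) (by simpa using h)
    exact AddSubgroup.mem_bot.1 (this ▸ (⟨hv, hbv⟩ : v ∈ K.fixIn T' b))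
  obtain ⟨k, hk8, hk⟩ := K.card_eq_two_pow Uc
  have hk3 : 2 ^ k % 3 = 1 := by
    have h2 := K.card_fixIn_modEq (T := Uc) Nat.prime_three ha3 (hUcS a (Commute.refl a))
    have h1 : Nat.card ↥(K.fixIn Uc a) = 1 := by
      rw [AddSubgroup.card_eq_one, AddSubgroup.eq_bot_iff_forall]
      exact fun v hv => hUcfix v hv.1 hv.2
    rw [h1, hk] at h2
    omega
  have hUa : Nat.card ↥Ua * 2 ^ k = 256 := hk ▸ hsplit
  interval_cases k
  · -- `a` would be trivial
    exact absurd (hsep a (fun v hv => hv.2) fun v hv => by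
      have := AddSubgroup.eq_bot_of_card_eq Uc (by simpa using hk)
      rw [AddSubgroup.mem_bot.1 (this ▸ hv : v ∈ (⊥ : AddSubgroup U)), K.φ_zero]) ha1
  · norm_num at hk3
  · -- the parity criterion
    have hUa64 : Nat.card ↥Ua = 2 ^ 6 := by omega
    have hScTriv := K.trivial_of_five (E.ι.comp (MonoidHom.inr _ _)) hUcInv
      (K.five_trivial (E.ι.comp (MonoidHom.inr _ _)) (hUcInv five) (by rw [hk]; norm_num))
    have hτS : ∀ s, Commute τ (E.ι (1, s)) := fun s => hcomm _ s
    have hPτ : ∀ v, K.avg a 3 (K.φ τ v) = K.φ τ (K.avg a 3 v) := by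
      intro v
      let f : U →+ U := AddMonoidHom.mk' (fun u => K.φ τ u) (K.φ_add τ)
      show _ = f (K.avg a 3 v)
      rw [K.avg_apply, K.avg_apply, map_sum]
      show _ = ∑ i ∈ Finset.range 3, K.φ τ (K.φ (a ^ i) v)
      have h1 : a * τ = τ * (a * a) := by rw [← hτa, ← mul_assoc, ← mul_assoc, hτ2, one_mul]
      have h2 : a * a * τ = τ * a := by
        rw [← hτa, mul_assoc (τ * a), hτ2, mul_one]
      simp only [Finset.sum_range_succ, Finset.sum_range_zero, zero_add, pow_zero, pow_one,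
        pow_two, map_one, Perm.one_apply, ← K.φ_mul, h1, h2]
      simp only [mul_one, one_mul]
      abel
    have hUaτ : ∀ v ∈ Ua, K.φ τ v ∈ Ua := by
      intro v hv
      refine ⟨AddSubgroup.mem_top _, ?_⟩
      show K.φ a (K.φ τ v) = K.φ τ v
      have h3 : K.avg a 3 (K.φ τ v) = K.φ τ v := by
        rw [hPτ, K.avg_of_fixed rfl (show K.φ a v = v from hv.2)]
      rw [← h3]
      exact K.φ_avg ha3 _
    have hUcτ : ∀ v ∈ Uc, K.φ τ v ∈ Uc := fun v hv => ⟨AddSubgroup.mem_top _, by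
      show K.avg a 3 (K.φ τ v) = 0
      rw [hPτ, show K.avg a 3 v = 0 from hv.2, K.φ_zero]⟩
    -- images of `1 + τ`
    let N : AddSubgroup U → AddSubgroup U := fun T' =>
      T'.map (AddMonoidHom.mk' (fun u => u + K.φ τ u) fun x y => by rw [K.φ_add]; abel)
    have hNle : ∀ T' : AddSubgroup U, (∀ v ∈ T', K.φ τ v ∈ T') → N T' ≤ T' := by
      rintro T' h _ ⟨w, hw, rfl⟩
      exact T'.add_mem hw (h w hw)
    have hNiso : ∀ T' : AddSubgroup U, ∀ x ∈ N T', ∀ y ∈ N T', K.B x y = 0 := by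
      rintro T' _ ⟨x, hx, rfl⟩ _ ⟨y, hy, rfl⟩
      have hy' : y + K.φ τ y ∈ K.rad τ := ⟨y, rfl⟩
      have hx' : x + K.φ τ x ∈ K.fix τ := K.rad_le_fix hτ2 ⟨x, rfl⟩
      rw [← K.perp_rad hτ2] at hx'
      exact hx' _ hy'
    have hNc : Nat.card ↥(N Uc) ≤ 2 := by
      have := K.isotropic_sq_le hUcn (hNle Uc hUcτ) (hNiso Uc)
      rw [hk] at this
      nlinarith
    have hNa8 : Nat.card ↥(N Ua) ≤ 8 := by
      have := K.isotropic_sq_le hUan (hNle Ua hUaτ) (hNiso Ua)
      rw [hUa64] at this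
      nlinarith
    have hNaInv : ∀ s, ∀ v ∈ N Ua, K.φ (E.ι (1, s)) v ∈ N Ua := by
      rintro s _ ⟨w, hw, rfl⟩
      refine ⟨K.φ (E.ι (1, s)) w, hUaInv s w hw, ?_⟩
      show _ + _ = K.φ (E.ι (1, s)) (w + K.φ τ w)
      rw [K.φ_add, ← K.φ_mul, ← K.φ_mul, (hτS s).eq]
    have hNaTriv := K.trivial_of_five (E.ι.comp (MonoidHom.inr _ _)) hNaInv (K.five_trivial (E.ι.comp (MonoidHom.inr _ _)) (hNaInv five) hNa8)
    have hNa : Nat.card ↥(N Ua) ≤ 2 := by
      rcases hfixb Ua (hUaInv five) 6 hUa64 le_rfl with h | ⟨i, hi, hicard⟩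
      · exact absurd (hsep b h (hScTriv five)) hb1
      · have hsub : N Ua ≤ K.fixIn Ua b := fun v hv => ⟨hNle Ua hUaτ hv, hNaTriv five v hv⟩
        have := K.isotropic_sq_le (K.nondeg_fixIn hb5 rfl (hUaInv five) hUan) hsub (hNiso Ua)
        rw [hicard, show i = 2 by omega] at this
        nlinarith
    have hrad : ∀ v ∈ K.rad τ, ∃ x ∈ N Ua, ∃ y ∈ N Uc, v = x + y := by
      rintro _ ⟨w, rfl⟩
      refine ⟨_, ⟨K.avg a 3 w, ⟨AddSubgroup.mem_top _, K.φ_avg ha3 w⟩, rfl⟩, _,
        ⟨w + K.avg a 3 w, ⟨AddSubgroup.mem_top _, ?_⟩, rfl⟩, ?_⟩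
      · show K.avg a 3 (w + K.avg a 3 w) = 0
        rw [map_add, K.avg_of_fixed rfl (K.φ_avg ha3 w), K.add_self]
      · show w + K.φ τ w = _ + _
        simp only [AddMonoidHom.mk'_apply]
        rw [K.φ_add]
        have e : ∀ p w' q r : U, p + q + (w' + p + (r + q)) = w' + r + ((p + p) + (q + q)) := by
          intros; abel
        rw [e, K.add_self, K.add_self, add_zero, add_zero]
    refine (K.false_of_small M₀ hM₀ hτ2 hτ ?_ ?_).elim
    · choose f hf g hg hfg using hrad
      calc Nat.card ↥(K.rad τ) ≤ Nat.card (↥(N Ua) × ↥(N Uc)) :=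
            Nat.card_le_card_of_injective
              (fun v => (⟨f v v.2, hf v v.2⟩, ⟨g v v.2, hg v v.2⟩)) fun v w h => by
              have e1 := congrArg (fun p : ↥(N Ua) × ↥(N Uc) => (p.1 : U)) h
              have e2 := congrArg (fun p : ↥(N Ua) × ↥(N Uc) => (p.2 : U)) h
              simp only at e1 e2
              exact Subtype.ext (by rw [hfg v v.2, hfg w w.2, e1, e2])
        _ ≤ 4 := by
            rw [Nat.card_prod]
            exact Nat.mul_le_mul hNa hNc
    · intro g hu hne hv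
      exfalso
      obtain ⟨x, hx, y, hy, hxy⟩ := hrad _ hv
      have hstab : ∀ s, E.ι (1, s) ∈ K.stab (K.ν (g * F.z * g⁻¹)) := by
        intro s
        rw [K.mem_stab, hxy, K.φ_add]
        exact congrArg₂ (· + ·) (hNaTriv s x hx) (hScTriv s y (hNle Uc hUcτ hy))
      have := E.small (F.trace g) (F.trace_isPGroup g) fun s x hx =>
        K.trace_normal hu hne (hstab s) hx
      have := K.card_trace hu hne
      omega
  · norm_num at hk3
  · -- four dimensions moved by `a`
    exfalso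
    rcases hfixb Uc (hUcInv five) 4 hk (by norm_num) with h | ⟨i, hi, hicard⟩
    · have hScTriv := K.trivial_of_five (E.ι.comp (MonoidHom.inr _ _)) hUcInv h
      have hUa16 : Nat.card ↥Ua = 2 ^ 4 := by omega
      rcases hfixb Ua (hUaInv five) 4 hUa16 (by norm_num) with h' | ⟨i, hi, hicard⟩
      · exact hb1 (hsep b h' h)
      · rw [show i = 0 by omega] at hicard
        exact K.false_of_sixteen (E.ι.comp (MonoidHom.inr _ _)) hUan hUa16 (hUaInv five) (hzero Ua hicard) (Or.inl hUaInv)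
    · rw [show i = 0 by omega] at hicard
      exact K.false_of_sixteen (E.ι.comp (MonoidHom.inr _ _)) hUcn hk (hUcInv five) (hzero Uc hicard)
        (Or.inr ⟨a, ha3, hUcS a (Commute.refl a), hUcfix⟩)
  · norm_num at hk3
  · -- six dimensions moved by `a`
    exfalso
    have hUa4 : Nat.card ↥Ua = 4 := by omega
    have hSaTriv := K.trivial_of_five (E.ι.comp (MonoidHom.inr _ _)) hUaInv
      (K.five_trivial (E.ι.comp (MonoidHom.inr _ _)) (hUaInv five) (by rw [hUa4]; norm_num))
    rcases hfixb Uc (hUcInv five) 6 hk le_rfl with h | ⟨i, hi, hicard⟩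
    · exact hb1 (hsep b (hSaTriv five) h)
    · set Y := K.coinv Uc b 5
      have hY : Nat.card ↥Y = 16 := by
        have := K.card_split (k := 5) hb5 rfl (hUcInv five)
        rw [hicard, hk, show i = 2 by omega] at this
        change 2 ^ 2 * Nat.card ↥Y = 2 ^ 6 at this
        omega
      have hba : ∀ v, K.avg b 5 (K.φ a v) = K.φ a (K.avg b 5 v) := by
        intro v
        let f : U →+ U := AddMonoidHom.mk' (fun u => K.φ a u) (K.φ_add a)
        show _ = f (K.avg b 5 v)
        rw [K.avg_apply, K.avg_apply, map_sum]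
        refine Finset.sum_congr rfl fun j _ => ?_
        show _ = K.φ a (K.φ (b ^ j) v)
        rw [← K.φ_mul, ← K.φ_mul, ((haS five).pow_right j).eq]
      refine K.false_of_sixteen (E.ι.comp (MonoidHom.inr _ _)) (K.nondeg_coinv hb5 rfl (hUcInv five) hUcn) hY ?_ ?_
        (Or.inr ⟨a, ha3, ?_, fun v hv => hUcfix v hv.1⟩)
      · intro v hv
        refine ⟨hUcInv five v hv.1, ?_⟩
        show K.avg b 5 (K.φ b v) = 0
        have h1 : K.B 0 0 = 0 := by simp
        rw [K.avg_apply]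
        have h2 : K.avg b 5 v = 0 := hv.2
        rw [K.avg_apply] at h2
        rw [← h2]
        simp only [← K.φ_mul, ← pow_succ]
        apply add_right_cancel (b := K.φ (b ^ 0) v)
        rw [← Finset.sum_range_succ' (fun j => K.φ (b ^ j) v), Finset.sum_range_succ, hb5, pow_zero]
      · intro v hv h
        rw [← K.avg_of_fixed (n := b) (k := 5) rfl h]; exact hv.2
      · intro v hv
        refine ⟨hUcS a (Commute.refl a) v hv.1, ?_⟩
        show K.avg b 5 (K.φ a v) = 0
        rw [hba, show K.avg b 5 v = 0 from hv.2, K.φ_zero]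
  · norm_num at hk3
  · -- all of the space
    intro v hv
    have h1 : Nat.card ↥Ua = 1 := by omega
    exact AddSubgroup.mem_bot.1 (AddSubgroup.card_eq_one.1 h1 ▸
      (⟨AddSubgroup.mem_top v, hv⟩ : v ∈ Ua))

end Cfsg.Agent.H47.Ex9.Frame.Coord
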