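import Mathlib.GroupTheory.Perm.Cycle.Type
import Mathlib.GroupTheory.Perm.Sign
import Mathlib.GroupTheory.GroupAction.Quotient
import Mathlib.GroupTheory.PGroup
import Mathlib.GroupTheory.Coset.Card
import Mathlib.Tactic.IntervalCases

/-!
A parity criterion for a subgroup of index two: the sign of an element with `x ^ 4 = 1` on the
cosets of a subgroup of index two in a subgroup of odd index.
-/

set_option autoImplicit false

namespace Cfsg.Agent.H47.Ex9

open Subgroup Equiv

/-- A permutation of exponent four is odd as soon as the stated count is odd. -/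
theorem sign_eq_neg_one {α : Type*} [Fintype α] [DecidableEq α] (σ : Perm α) (h4 : σ ^ 4 = 1)
    (f1 f2 : ℕ) (hf1 : Nat.card {a : α // σ a = a} = f1) (hf2 : Nat.card {a : α // σ (σ a) = a} = f2)
    (hodd : ∃ k n, f2 = f1 + 2 * k ∧ Fintype.card α = f2 + 4 * n ∧ (k + n) % 2 = 1) :
    Perm.sign σ = -1 := by
  obtain ⟨k, n, hk, hn, hkn⟩ := hodd
  have h4' : ∀ a, σ (σ (σ (σ a))) = a := fun a => by
    simpa [pow_succ, pow_zero] using Equiv.ext_iff.1 h4 a
  let p : α → Prop := fun a => σ (σ a) = a
  have hp : ∀ a, p (σ a) ↔ p a := fun a =>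
    ⟨fun h => σ.injective h, fun h => congrArg σ h⟩
  have hp' : ∀ a, ¬ p (σ a) ↔ ¬ p a := fun a => not_congr (hp a)
  let s : Perm {a // p a} := σ.subtypePerm hp
  let t : Perm {a // ¬ p a} := σ.subtypePerm hp'
  have hσ : σ = Perm.ofSubtype s * Perm.ofSubtype t := by
    refine Equiv.ext fun a => ?_
    rw [Perm.mul_apply]
    by_cases ha : p a
    · rw [Perm.ofSubtype_apply_of_not_mem t (not_not.2 ha), Perm.ofSubtype_apply_of_mem s ha]; rfl
    · rw [Perm.ofSubtype_apply_of_mem t ha]
      exact (Perm.ofSubtype_apply_of_not_mem s (show ¬ p (σ a) from (hp' a).2 ha)).symm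
  have hs2 : s ^ 2 = 1 := Equiv.ext fun a => Subtype.ext (by
    rw [pow_two]; exact a.2)
  have ht4 : t ^ 4 = 1 := Equiv.ext fun a => Subtype.ext (by
    simp only [pow_succ, pow_zero, one_mul]; exact h4' a)
  have hsc : ∀ c ∈ s.cycleType, c = 2 := fun c hc =>
    ((Nat.dvd_prime Nat.prime_two).1 ((Perm.dvd_of_mem_cycleType hc).trans
      (orderOf_dvd_of_pow_eq_one hs2))).resolve_left (Perm.one_lt_of_mem_cycleType hc).ne'
  have htc : ∀ c ∈ t.cycleType, c = 4 := by
    intro c hc
    have hd : c ∣ 4 := (Perm.dvd_of_mem_cycleType hc).trans (orderOf_dvd_of_pow_eq_one ht4)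
    have h1 := Perm.one_lt_of_mem_cycleType hc
    have hle := Nat.le_of_dvd (by norm_num) hd
    interval_cases c
    · exfalso
      rw [Perm.cycleType_def, Multiset.mem_map] at hc
      obtain ⟨γ, hγ, hγc⟩ := hc
      have hγ' : γ ∈ t.cycleFactorsFinset := hγ
      obtain ⟨hcyc, happ⟩ := Perm.mem_cycleFactorsFinset_iff.1 hγ'
      have hγc' : γ.support.card = 2 := hγc
      obtain ⟨a, b, hab, rfl⟩ := Perm.card_support_eq_two.1 hγc'
      have ha := happ a (by simp [Perm.support_swap hab])
      have hb := happ b (by simp [Perm.support_swap hab])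
      rw [swap_apply_left] at ha
      rw [swap_apply_right] at hb
      refine a.2 ?_
      show σ (σ (a : α)) = a
      have e1 : σ (a : α) = b := congrArg Subtype.val ha.symm
      have e2 : σ (b : α) = a := congrArg Subtype.val hb.symm
      rw [e1, e2]
    · omega
    · rfl
  have hsr := Multiset.eq_replicate_card.2 hsc
  have htr := Multiset.eq_replicate_card.2 htc
  have hs_supp : 2 * Multiset.card s.cycleType = s.support.card := by
    have h := Perm.sum_cycleType s
    rw [hsr, Multiset.sum_replicate, smul_eq_mul] at h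
    omega
  have ht_supp : 4 * Multiset.card t.cycleType = t.support.card := by
    have h := Perm.sum_cycleType t
    rw [htr, Multiset.sum_replicate, smul_eq_mul] at h
    omega
  have ht_all : t.support.card = Fintype.card {a // ¬ p a} := by
    rw [← Finset.card_univ]
    congr 1
    refine Finset.eq_univ_of_forall fun a => Perm.mem_support.2 fun h => a.2 ?_
    have e : σ (a : α) = a := congrArg Subtype.val h
    show σ (σ (a : α)) = a
    rw [e, e]
  have hs_fix : s.support.card + f1 = f2 := by
    have hsupp : s.support = Finset.univ.filter fun a => ¬ s a = a := by ext a; simp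
    have h := Finset.card_filter_add_card_filter_not (s := (Finset.univ : Finset {a // p a})) (fun a => s a = a)
    rw [← hsupp, Finset.card_univ, ← Nat.card_eq_fintype_card (α := {a // p a}),
      ← Fintype.card_subtype, ← Nat.card_eq_fintype_card] at h
    have he : Nat.card {a : {a // p a} // s a = a} = f1 := by
      rw [← hf1]
      refine Nat.card_congr ⟨fun a => ⟨a.1.1, congrArg Subtype.val a.2⟩,
        fun a => ⟨⟨a.1, ?_⟩, Subtype.ext a.2⟩, fun a => rfl, fun a => rfl⟩
      show σ (σ (a : α)) = a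
      rw [a.2, a.2]
    rw [he, show Nat.card {a // p a} = f2 from hf2] at h
    omega
  have hrest : Fintype.card {a // ¬ p a} + f2 = Fintype.card α := by
    have h1 : Fintype.card {a // p a} = f2 := by rw [← Nat.card_eq_fintype_card]; exact hf2
    have := Fintype.card_subtype_le p
    rw [Fintype.card_subtype_compl]
    omega
  rw [hσ, map_mul, Perm.sign_ofSubtype, Perm.sign_ofSubtype, Perm.sign_of_cycleType,
    Perm.sign_of_cycleType, hsr, htr]
  simp only [Multiset.sum_replicate, Multiset.card_replicate, smul_eq_mul, ← pow_add]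
  exact (Nat.odd_iff.2 (by omega)).neg_one_pow

variable {G : Type*} [Group G] [Finite G]

/-- Fixed points of `e` on the cosets of `K`, counted on the cosets of `H`. -/
theorem card_fixed (H K : Subgroup G) (e : G) (hKH : K ≤ H) (hK : K.relIndex H = 2)
    (hconj : ∀ h ∈ H, ∀ x ∈ K, h * x * h⁻¹ ∈ K) :
    Nat.card {a : G ⧸ K // e • a = a} = 2 * Nat.card {q : G ⧸ H // q.out⁻¹ * e * q.out ∈ K} := by
  let E := Subgroup.quotientEquivProdOfLE hKH
  have hP : ∀ a : G ⧸ K, e • a = a ↔ (E a).1.out⁻¹ * e * (E a).1.out ∈ K := by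
    intro a
    induction a using QuotientGroup.induction_on with
    | H g =>
      have hE : (E (g : G ⧸ K)).1 = (g : G ⧸ H) := rfl
      rw [hE]
      obtain ⟨⟨h, hh⟩, ho⟩ := QuotientGroup.mk_out_eq_mul H g
      rw [ho, eq_comm, MulAction.Quotient.smul_mk, QuotientGroup.eq]
      simp only [smul_eq_mul]
      rw [show g⁻¹ * (e * g) = g⁻¹ * e * g from (mul_assoc _ _ _).symm]
      constructor
      · intro hm
        simpa [mul_assoc] using hconj h⁻¹ (H.inv_mem hh) _ hm
      · intro hm
        simpa [mul_assoc] using hconj h hh _ hm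
  rw [mul_comm, ← hK, relIndex, index_eq_card, ← Nat.card_prod]
  exact Nat.card_congr ((E.subtypeEquiv (q := fun p : (G ⧸ H) × (H ⧸ K.subgroupOf H) =>
      p.1.out⁻¹ * e * p.1.out ∈ K) hP).trans
    { toFun := fun a => (⟨a.1.1, a.2⟩, a.1.2)
      invFun := fun a => ⟨(a.1.1, a.2), a.1.2⟩
      left_inv := fun a => rfl
      right_inv := fun a => rfl })

/-- The parity criterion. -/
theorem exists_index_two (H K : Subgroup G) (x : G) (hx4 : x ^ 4 = 1) (hKH : K ≤ H)
    (hK : K.relIndex H = 2) (hodd : ¬ 2 ∣ H.index) (hconj : ∀ h ∈ H, ∀ y ∈ K, h * y * h⁻¹ ∈ K)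
    (ha : 2 ∣ Nat.card {q : G ⧸ H // q.out⁻¹ * x * q.out ∈ K})
    (hb : Nat.card {q : G ⧸ H // q.out⁻¹ * (x * x) * q.out ∈ K} % 4 = H.index % 4) :
    ∃ M : Subgroup G, M.Normal ∧ M.index = 2 := by
  classical
  have := Fintype.ofFinite (G ⧸ K)
  let f : G →* ℤˣ := Perm.sign.comp (MulAction.toPermHom G (G ⧸ K))
  set a := Nat.card {q : G ⧸ H // q.out⁻¹ * x * q.out ∈ K} with ha0
  set b := Nat.card {q : G ⧸ H // q.out⁻¹ * (x * x) * q.out ∈ K} with hb0
  have hbm : b ≤ H.index := by rw [index_eq_card]; exact Finite.card_subtype_le _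
  have hab : a ≤ b := by
    refine Nat.card_le_card_of_injective (fun q => ⟨q.1, ?_⟩) fun q r h => Subtype.ext (congrArg Subtype.val h :)
    have := K.mul_mem q.2 q.2
    simpa [mul_assoc] using this
  have hcard : Fintype.card (G ⧸ K) = 2 * H.index := by
    rw [← Nat.card_eq_fintype_card, ← index_eq_card, ← relIndex_mul_index hKH, hK]
  set π := MulAction.toPermHom G (G ⧸ K) x with hπ
  have h1 : Nat.card {c : G ⧸ K // π c = c} = 2 * a := card_fixed H K x hKH hK hconj
  have h2 : Nat.card {c : G ⧸ K // π (π c) = c} = 2 * b := by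
    rw [hb0, ← card_fixed H K (x * x) hKH hK hconj]
    exact Nat.card_congr (Equiv.subtypeEquivRight fun c => by simp [hπ, smul_smul])
  have hm : H.index % 2 = 1 := by omega
  have hfx : f x = -1 := by
    refine sign_eq_neg_one π (by rw [hπ, ← map_pow, hx4, map_one]) _ _ h1 h2
      ⟨b - a, (H.index - b) / 2, by omega, by omega, by omega⟩
  refine ⟨f.ker, inferInstance, ?_⟩
  rw [index_ker, MonoidHom.range_eq_top.mpr, card_top, Nat.card_eq_fintype_card,
    Fintype.card_units_int]
  intro u
  rcases Int.units_eq_one_or u with rfl | rfl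
  · exact ⟨1, map_one f⟩
  · exact ⟨x, hfx⟩

/-- Orbits of size at least four add up to a multiple of four. -/
theorem four_dvd_card {P α : Type*} [Group P] [Finite P] [MulAction P α] [Finite α]
    (hP : IsPGroup 2 P) (h : ∀ a : α, 4 ≤ (MulAction.stabilizer P a).index) : 4 ∣ Nat.card α := by
  classical
  have := Fintype.ofFinite (MulAction.orbitRel.Quotient P α)
  rw [Nat.card_congr (MulAction.selfEquivSigmaOrbits P α), Nat.card_sigma]
  refine Finset.dvd_sum fun ω _ => ?_
  rw [← Nat.card_congr (MulAction.orbitEquivQuotientStabilizer P ω.out).symm, ← index_eq_card]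
  obtain ⟨k, hk⟩ := hP.index (MulAction.stabilizer P ω.out)
  have := h ω.out
  rw [hk] at this ⊢
  rcases k with _ | _ | k
  · norm_num at this
  · norm_num at this
  · exact ⟨2 ^ k, by ring⟩

end Cfsg.Agent.H47.Ex9
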