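import Cfsg.Prelude.Def_Transfer
import Cfsg.Agent.H47.Ex9.Parity
import Cfsg.Agent.PGroups.Extraspecial
import Cfsg.Agent.H92.LargeBasic
import Mathlib.GroupTheory.Sylow

/-!
An involution centraliser with an extraspecial `O₂` of order `2 ^ 9` over a group whose 2-subgroups
have order at most 32: conjugates of the involution, and a parity criterion against simplicity.
-/

set_option autoImplicit false

namespace Cfsg.Agent.H47.Ex9

open Subgroup
open scoped commutatorElement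

universe u v

/-- The data of the centraliser. -/
structure Frame (G : Type u) [Group G] (M : Type v) [Group M] where
  /-- The involution. -/
  z : G
  /-- The extraspecial subgroup. -/
  Q : Subgroup G
  /-- The map of the centraliser onto the quotient. -/
  π : ↥(centralizer ({z} : Set G)) →* M
  π_surj : Function.Surjective π
  π_ker : ∀ h, π h = 1 ↔ (h : G) ∈ Q
  z_sq : z * z = 1
  z_ne : z ≠ 1
  zQ : z ∈ Q
  Q_le : Q ≤ centralizer ({z} : Set G)
  Q_ex : Cfsg.IsExtraspecial 2 ↥Q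
  Q_card : Nat.card ↥Q = 512
  CQ : ∀ c : G, (∀ a ∈ Q, a * c = c * a) → c = 1 ∨ c = z
  M_two : ∀ X : Subgroup M, IsPGroup 2 ↥X → Nat.card ↥X ≤ 32
  M_center : ∀ X : Subgroup M, IsPGroup 2 ↥X → Nat.card ↥X = 32 → 2 < Nat.card (center ↥X)

namespace Frame

variable {G : Type u} [Group G] [Finite G] {M : Type v} [Group M] [Finite M] (F : Frame G M)

/-- The centraliser. -/
abbrev H : Subgroup G := centralizer ({F.z} : Set G)

theorem mem_H {h : G} : h ∈ F.H ↔ Commute h F.z := mem_centralizer_singleton_iff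

theorem z_inv : F.z⁻¹ = F.z := inv_eq_of_mul_eq_one_right F.z_sq

theorem zH : F.z ∈ F.H := F.Q_le F.zQ

theorem conj_mem {h x : G} (hh : h ∈ F.H) (hx : x ∈ F.Q) : h * x * h⁻¹ ∈ F.Q := by
  have := (F.π_ker (⟨h, hh⟩ * ⟨x, F.Q_le hx⟩ * ⟨h, hh⟩⁻¹)).1
    (by rw [map_mul, map_mul, map_inv, (F.π_ker ⟨x, F.Q_le hx⟩).2 hx]; group)
  simpa using this

theorem conj_mem' {h x : G} (hh : h ∈ F.H) (hx : x ∈ F.Q) : h⁻¹ * x * h ∈ F.Q := by
  simpa using F.conj_mem (inv_mem hh) hx

theorem comm_Q {a b : G} (ha : a ∈ F.Q) (hb : b ∈ F.Q) : ⁅a, b⁆ = 1 ∨ ⁅a, b⁆ = F.z := by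
  have hc := PGroups.isSpecial_commutator_le F.Q_ex.1
  have h : (⁅(⟨a, ha⟩ : ↥F.Q), ⟨b, hb⟩⁆ : ↥F.Q) ∈ center ↥F.Q :=
    PGroups.commutatorElement_mem_center hc _ _
  exact F.CQ _ fun c hc' => (congrArg Subtype.val (mem_center_iff.1 h ⟨c, hc'⟩) :)

theorem sq_Q {a : G} (ha : a ∈ F.Q) : a * a = 1 ∨ a * a = F.z := by
  haveI := Fact.mk Nat.prime_two
  have h := PGroups.isSpecial_pow_mem_center F.Q_ex.1 (⟨a, ha⟩ : ↥F.Q)
  rw [pow_two] at h
  exact F.CQ _ fun c hc' => (congrArg Subtype.val (mem_center_iff.1 h ⟨c, hc'⟩) :)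

/-- The conjugate of `Q` by `g`. -/
def Qc (g : G) : Subgroup G := F.Q.map (MulAut.conj g).toMonoidHom

theorem mem_Qc {g x : G} : x ∈ F.Qc g ↔ g⁻¹ * x * g ∈ F.Q := by
  rw [Qc, Subgroup.mem_map_equiv]
  simp [MulAut.conj_symm_apply]

theorem mem_conjH {g y : G} (hy : Commute y (g * F.z * g⁻¹)) : g⁻¹ * y * g ∈ F.H := by
  rw [F.mem_H]
  calc g⁻¹ * y * g * F.z = g⁻¹ * (y * (g * F.z * g⁻¹)) * g := by group
    _ = g⁻¹ * (g * F.z * g⁻¹ * y) * g := by rw [hy.eq]
    _ = F.z * (g⁻¹ * y * g) := by group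

theorem Qc_conj {g a x : G} (ha : Commute a (g * F.z * g⁻¹)) (hx : x ∈ F.Qc g) :
    a * x * a⁻¹ ∈ F.Qc g := by
  rw [F.mem_Qc] at hx ⊢
  have := F.conj_mem (F.mem_conjH ha) hx
  simpa [mul_assoc] using this

/-- The image in `M` of a subgroup centralising a conjugate of `z`. -/
noncomputable def img (g : G) (A : Subgroup G) (hA : ∀ a ∈ A, Commute a (g * F.z * g⁻¹)) : ↥A →* M :=
  MonoidHom.mk' (fun a => F.π ⟨g⁻¹ * a * g, F.mem_conjH (hA a a.2)⟩) fun a b => by
    rw [← map_mul]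
    congr 1
    exact Subtype.ext (by simp [mul_assoc])

theorem img_apply {g : G} {A : Subgroup G} (hA : ∀ a ∈ A, Commute a (g * F.z * g⁻¹)) (a : ↥A) :
    F.img g A hA a = F.π ⟨g⁻¹ * a * g, F.mem_conjH (hA a a.2)⟩ := rfl

theorem mem_ker_img {g : G} {A : Subgroup G} (hA : ∀ a ∈ A, Commute a (g * F.z * g⁻¹)) (a : ↥A) :
    a ∈ (F.img g A hA).ker ↔ (a : G) ∈ F.Qc g := by
  rw [MonoidHom.mem_ker, F.img_apply, F.π_ker, F.mem_Qc]

theorem isPGroup_Q : IsPGroup 2 ↥F.Q := F.Q_ex.1.1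

theorem z_mem_center {A : Subgroup G} (hA : A ≤ F.Q) (hzA : F.z ∈ A) :
    (⟨F.z, hzA⟩ : ↥A) ∈ center ↥A :=
  mem_center_iff.2 fun a => Subtype.ext (F.mem_H.1 (F.Q_le (hA a.2))).eq

/-- A subgroup of `Q` centralising a conjugate of `z` outside whose `O₂` the element `z` lies has
its intersection with that `O₂` in its centre. -/
theorem ker_le_center {g : G} {A : Subgroup G} (hAQ : A ≤ F.Q)
    (hA : ∀ a ∈ A, Commute a (g * F.z * g⁻¹)) (hz : F.z ∉ F.Qc g) :
    (F.img g A hA).ker ≤ center ↥A := by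
  intro k hk
  rw [F.mem_ker_img] at hk
  refine mem_center_iff.2 fun a => ?_
  have h1 : ⁅(a : G), (k : G)⁆ ∈ F.Qc g := by
    rw [commutatorElement_def]
    exact mul_mem (F.Qc_conj (hA a a.2) hk) (inv_mem hk)
  rcases F.comm_Q (hAQ a.2) (hAQ k.2) with h | h
  · exact Subtype.ext (commutatorElement_eq_one_iff_mul_comm.1 h)
  · exact absurd (h ▸ h1) hz

theorem card_ker_mul_two {g : G} {A : Subgroup G} (hAQ : A ≤ F.Q) (hzA : F.z ∈ A)
    (hA : ∀ a ∈ A, Commute a (g * F.z * g⁻¹)) (hz : F.z ∉ F.Qc g) :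
    2 * Nat.card (F.img g A hA).ker ≤ Nat.card (center ↥A) := by
  set N := (F.img g A hA).ker with hN
  have hle : N ≤ center ↥A := F.ker_le_center hAQ hA hz
  have hlt : N < center ↥A := lt_of_le_of_ne hle fun e => hz
    ((F.mem_ker_img hA ⟨F.z, hzA⟩).1 (by rw [← hN, e]; exact F.z_mem_center hAQ hzA))
  obtain ⟨c, hc⟩ := card_dvd_of_le hle
  rw [hc, mul_comm 2]
  refine Nat.mul_le_mul_left _ (Nat.lt_iff_add_one_le.1 ?_)
  rcases c with _ | _ | c
  · exact absurd hc (by simp [Nat.card_pos.ne'])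
  · exact absurd (eq_of_le_of_card_ge hle (by omega)) hlt.ne
  · omega

theorem isPGroup_range {g : G} {A : Subgroup G} (hAQ : A ≤ F.Q)
    (hA : ∀ a ∈ A, Commute a (g * F.z * g⁻¹)) : IsPGroup 2 ↥(F.img g A hA).range :=
  (F.isPGroup_Q.to_le hAQ).of_surjective _ (F.img g A hA).rangeRestrict_surjective

theorem card_range_mul {g : G} {A : Subgroup G} (hA : ∀ a ∈ A, Commute a (g * F.z * g⁻¹)) :
    Nat.card (F.img g A hA).ker * Nat.card (F.img g A hA).range = Nat.card A := by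
  rw [← index_ker, card_mul_index]

/-- A conjugate of `z` lying in `Q` has `z` in its own `O₂`. -/
theorem inv_mem_Q {g : G} (hu : g * F.z * g⁻¹ ∈ F.Q) : g⁻¹ * F.z * g ∈ F.Q := by
  classical
  rw [← F.mem_Qc]
  by_contra hz
  haveI := Fact.mk Nat.prime_two
  set u := g * F.z * g⁻¹ with hu0
  let A : Subgroup G := F.Q ⊓ centralizer ({u} : Set G)
  have hA : ∀ a ∈ A, Commute a u := fun a ha => mem_centralizer_singleton_iff.1 ha.2
  have hzA : F.z ∈ A := ⟨F.zQ, mem_centralizer_singleton_iff.2 (F.mem_H.1 (F.Q_le hu)).symm.eq⟩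
  have huz : u ≠ F.z := by
    intro e
    refine hz (F.mem_Qc.2 ?_)
    have h : g⁻¹ * F.z * g = F.z := by
      calc g⁻¹ * F.z * g = g⁻¹ * u * g := by rw [e]
        _ = F.z := by rw [hu0]; group
    rw [h]
    exact F.zQ
  have hu1 : u ≠ 1 := fun e => F.z_ne (by
    rw [hu0] at e
    exact (conj_eq_one_iff (a := g) (b := F.z)).1 e)
  -- commutation with `u` has index two
  obtain ⟨v, hv, hvu⟩ : ∃ v ∈ F.Q, v * u ≠ u * v := by
    by_contra h
    push Not at h
    rcases F.CQ u h with e | e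
    · exact hu1 e
    · exact huz e
  have hsplit : ∀ w ∈ F.Q, w * u ≠ u * w → v * w ∈ A := by
    intro w hw hwu
    refine ⟨mul_mem hv hw, mem_centralizer_singleton_iff.2 ?_⟩
    have e1 : v * u = F.z * (u * v) := by
      rcases F.comm_Q hv hu with e | e
      · exact absurd (commutatorElement_eq_one_iff_mul_comm.1 e) hvu
      · rw [← e, commutatorElement_def]; group
    have e2 : w * u = F.z * (u * w) := by
      rcases F.comm_Q hw hu with e | e
      · exact absurd (commutatorElement_eq_one_iff_mul_comm.1 e) hwu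
      · rw [← e, commutatorElement_def]; group
    calc v * w * u = v * (F.z * (u * w)) := by rw [mul_assoc, e2]
      _ = F.z * (v * u) * w := by rw [← mul_assoc v, (F.mem_H.1 (F.Q_le hv)).eq]; group
      _ = F.z * F.z * (u * (v * w)) := by rw [e1]; group
      _ = u * (v * w) := by rw [F.z_sq, one_mul]
  have hAcard : 256 ≤ Nat.card A := by
    let f : ↥F.Q → ↥A × Bool := fun w =>
      if h : (w : G) * u = u * w then (⟨w, w.2, mem_centralizer_singleton_iff.2 h⟩, true)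
      else (⟨v * w, hsplit w w.2 h⟩, false)
    have hf : Function.Injective f := by
      intro a b h
      simp only [f] at h
      split_ifs at h with ha hb hb
      · exact Subtype.ext (congrArg (fun p : ↥A × Bool => (p.1 : G)) h)
      · exact absurd (congrArg Prod.snd h) (by simp)
      · exact absurd (congrArg Prod.snd h) (by simp)
      · exact Subtype.ext (mul_left_cancel (congrArg (fun p : ↥A × Bool => (p.1 : G)) h))
    have := Nat.card_le_card_of_injective f hf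
    rw [F.Q_card, Nat.card_prod, Nat.card_eq_fintype_card (α := Bool), Fintype.card_bool] at this
    omega
  -- the centre of `A`
  have hcen : ∀ a : ↥A, a ∈ center ↥A → (a : G) ∈ ({1, F.z, u, u * F.z} : Finset G) := by
    intro a ha
    have haA : ∀ w ∈ A, w * a = a * w := fun w hw =>
      (congrArg Subtype.val (mem_center_iff.1 ha ⟨w, hw⟩) :)
    have huc : ∀ w ∈ F.Q, w * u = u * w → w * a = a * w := fun w hw h =>
      haA w ⟨hw, mem_centralizer_singleton_iff.2 h⟩
    by_cases hva : v * a = a * v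
    · have : ∀ w ∈ F.Q, w * (a : G) = a * w := by
        intro w hw
        by_cases hwu : w * u = u * w
        · exact huc w hw hwu
        · calc w * (a : G) = v⁻¹ * ((v * w) * a) := by group
            _ = v⁻¹ * (a * (v * w)) := by rw [haA _ (hsplit w hw hwu)]
            _ = v⁻¹ * ((a * v) * w) := by group
            _ = a * w := by rw [← hva]; group
      rcases F.CQ a this with e | e <;> simp [e]
    · have e1 : v * u = F.z * (u * v) := by
        rcases F.comm_Q hv hu with e | e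
        · exact absurd (commutatorElement_eq_one_iff_mul_comm.1 e) hvu
        · rw [← e, commutatorElement_def]; group
      have e2 : v * a = F.z * (a * v) := by
        rcases F.comm_Q hv a.2.1 with e | e
        · exact absurd (commutatorElement_eq_one_iff_mul_comm.1 e) hva
        · rw [← e, commutatorElement_def]; group
      have e3 : v * ((a : G) * u) = a * u * v := by
        calc v * ((a : G) * u) = F.z * (a * (v * u)) := by rw [← mul_assoc, e2]; group
          _ = F.z * ((a * F.z) * (u * v)) := by rw [e1]; group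
          _ = F.z * F.z * (a * (u * v)) := by rw [(F.mem_H.1 (F.Q_le a.2.1)).eq]; group
          _ = a * u * v := by rw [F.z_sq, one_mul]; group
      have hcu : ∀ w ∈ F.Q, w * u = u * w → w * ((a : G) * u) = a * u * w := fun w hw h =>
        Commute.mul_right (huc w hw h) h
      have : ∀ w ∈ F.Q, w * ((a : G) * u) = a * u * w := by
        intro w hw
        by_cases hwu : w * u = u * w
        · exact hcu w hw hwu
        · calc w * ((a : G) * u) = v⁻¹ * ((v * w) * (a * u)) := by group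
            _ = v⁻¹ * (a * u * (v * w)) := by
                rw [hcu _ (mul_mem hv hw) (mem_centralizer_singleton_iff.1 (hsplit w hw hwu).2)]
            _ = v⁻¹ * ((a * u * v) * w) := by group
            _ = a * u * w := by rw [← e3]; group
      have huu : u * u = 1 := by rw [hu0]; simp [mul_assoc, F.z_sq]; rw [← mul_assoc F.z, F.z_sq]; simp
      have hau : (a : G) = (a * u) * u := by rw [mul_assoc, huu, mul_one]
      rcases F.CQ _ this with e | e
      · rw [e] at hau; simp [hau]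
      · rw [e] at hau
        rw [hau, (F.mem_H.1 (F.Q_le hu)).eq.symm]
        simp
  have hcard4 : Nat.card (center ↥A) ≤ 4 := by
    let f : ↥(center ↥A) → ↥({1, F.z, u, u * F.z} : Finset G) := fun a => ⟨_, hcen a a.2⟩
    have := Nat.card_le_card_of_injective f fun a b h =>
      Subtype.ext (Subtype.ext (congrArg Subtype.val h :))
    rw [Nat.card_eq_fintype_card (α := ↥({1, F.z, u, u * F.z} : Finset G)), Fintype.card_coe] at this
    exact this.trans Finset.card_le_four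
  have hAQ : A ≤ F.Q := inf_le_left
  have h1 := F.card_ker_mul_two hAQ hzA hA hz
  have h2 := F.M_two _ (F.isPGroup_range hAQ hA)
  have h3 := F.card_range_mul hA
  have h4 : Nat.card (F.img g A hA).ker * Nat.card (F.img g A hA).range ≤ 2 * 32 :=
    Nat.mul_le_mul (by omega) h2
  omega

theorem z_notMem_Qc {g : G} (hp : g * F.z * g⁻¹ ∉ F.Q) : F.z ∉ F.Qc g := fun h => hp (by
  simpa using F.inv_mem_Q (g := g⁻¹) (by simpa using F.mem_Qc.1 h))

/-- No conjugate of `z` outside `Q` centralises a subgroup `A` of `Q` with `|A : Z(A)| ≥ 16`. -/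
theorem no_conjugate {g : G} (hpQ : g * F.z * g⁻¹ ∉ F.Q) {A : Subgroup G} (hAQ : A ≤ F.Q)
    (hzA : F.z ∈ A) (hA : ∀ a ∈ A, Commute a (g * F.z * g⁻¹))
    (h16 : 16 * Nat.card (center ↥A) ≤ Nat.card A) : False := by
  classical
  have hz := F.z_notMem_Qc hpQ
  have h1 := F.card_ker_mul_two hAQ hzA hA hz
  have hp := F.isPGroup_range hAQ hA
  have h2 := F.M_two _ hp
  have h3 := F.card_range_mul hA
  set k := Nat.card (F.img g A hA).ker
  have hk : 0 < k := Nat.card_pos
  have h4 : k * 32 ≤ k * Nat.card (F.img g A hA).range := by omega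
  have h32 : Nat.card (F.img g A hA).range = 32 := le_antisymm h2 (Nat.le_of_mul_le_mul_left h4 hk)
  rw [h32] at h3
  have hc := F.M_center _ hp h32
  -- the centre of the image is the image of the centre
  set f := (F.img g A hA).rangeRestrict with hf
  have hsurj : Function.Surjective f := MonoidHom.rangeRestrict_surjective _
  have hle : ∀ c ∈ center ↥(F.img g A hA).range, ∃ a ∈ center ↥A, f a = c := by
    intro c hc
    obtain ⟨a, ha⟩ := hsurj c
    refine ⟨a, mem_center_iff.2 fun b => ?_, ha⟩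
    have h5 : f ⁅b, a⁆ = 1 := by
      rw [map_commutatorElement, ha, commutatorElement_eq_one_iff_mul_comm]
      exact mem_center_iff.1 hc (f b)
    have h6 : ⁅(b : G), (a : G)⁆ ∈ F.Qc g :=
      (F.mem_ker_img hA ⁅b, a⁆).1 ((MonoidHom.mem_ker).2 (congrArg Subtype.val h5))
    rcases F.comm_Q (hAQ b.2) (hAQ a.2) with h | h
    · exact Subtype.ext (commutatorElement_eq_one_iff_mul_comm.1 h)
    · exact absurd (h ▸ h6) hz
  set fC := f.comp (center ↥A).subtype with hfC
  have hcle : Nat.card (center ↥(F.img g A hA).range) ≤ Nat.card fC.range :=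
    card_le_of_le fun c hc => by obtain ⟨a, ha, e⟩ := hle c hc; exact ⟨⟨a, ha⟩, e⟩
  have h7 : Nat.card fC.ker * Nat.card fC.range = Nat.card (center ↥A) := by
    rw [← index_ker, card_mul_index]
  have h8 : k ≤ Nat.card fC.ker := by
    refine Nat.card_le_card_of_injective
      (fun a => ⟨⟨a.1, F.ker_le_center hAQ hA hz a.2⟩, Subtype.ext a.2⟩) fun a b h => ?_
    exact Subtype.ext (congrArg (fun t : fC.ker => ((t : ↥(center ↥A)) : ↥A)) h)
  have h9 : k * 3 ≤ k * 2 := calc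
    k * 3 ≤ Nat.card fC.ker * Nat.card fC.range := Nat.mul_le_mul h8 (by omega)
    _ = Nat.card (center ↥A) := h7
    _ ≤ k * 2 := by omega
  omega

/-- The index of the centraliser is odd. -/
theorem odd_index : ¬ 2 ∣ F.H.index := by
  haveI := Fact.mk Nat.prime_two
  obtain ⟨S, hS⟩ := F.isPGroup_Q.exists_le_sylow
  have : Nontrivial ↥(S : Subgroup G) :=
    nontrivial_iff.2 ⟨⟨F.z, hS F.zQ⟩, 1, fun e => F.z_ne (congrArg Subtype.val e)⟩
  have hne : Nontrivial ↥(center ↥(S : Subgroup G)) := S.isPGroup'.center_nontrivial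
  obtain ⟨c, hc⟩ := exists_ne (1 : ↥(center ↥(S : Subgroup G)))
  have hcz : ((c : ↥(S : Subgroup G)) : G) = F.z := by
    refine (F.CQ _ fun a ha => (congrArg Subtype.val (mem_center_iff.1 c.2 ⟨a, hS ha⟩) :)).resolve_left ?_
    exact fun e => hc (Subtype.ext (Subtype.ext e))
  have hSH : (S : Subgroup G) ≤ F.H := fun s hs => F.mem_H.2 (by
    rw [← hcz]; exact (congrArg Subtype.val (mem_center_iff.1 c.2 ⟨s, hs⟩) :))
  exact fun h => S.not_dvd_index (h.trans (index_dvd_of_le hSH))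

/-- The preimage of a subgroup of the quotient. -/
def pre (M₀ : Subgroup M) : Subgroup G := (M₀.comap F.π).map (centralizer ({F.z} : Set G)).subtype

theorem mem_pre {M₀ : Subgroup M} {y : G} : y ∈ F.pre M₀ ↔ ∃ h : y ∈ F.H, F.π ⟨y, h⟩ ∈ M₀ := by
  constructor
  · rintro ⟨⟨a, ha⟩, hm, rfl⟩; exact ⟨ha, hm⟩
  · rintro ⟨h, hm⟩; exact ⟨⟨y, h⟩, hm, rfl⟩

theorem Q_le_pre (M₀ : Subgroup M) : F.Q ≤ F.pre M₀ := fun y hy =>
  F.mem_pre.2 ⟨F.Q_le hy, by rw [(F.π_ker ⟨y, F.Q_le hy⟩).2 hy]; exact one_mem _⟩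

/-- The parity criterion, with the fixed conjugates paired by multiplication with `d`. -/
theorem false_of_parity_gen [IsSimpleGroup G] (M₀ : Subgroup M) (hM₀ : M₀.index = 2)
    (x : G) (hxH : x ∈ F.H) (hx0 : F.π ⟨x, hxH⟩ ∉ M₀) (hx2 : x * x = 1 ∨ x * x = F.z)
    (A : Subgroup G) (hAQ : A ≤ F.Q) (hzA : F.z ∈ A) (hxA : ∀ a ∈ A, Commute a x)
    (hxP : IsPGroup 2 ↥(A ⊔ zpowers x))
    (d : G) (hd1 : d ≠ 1) (hd2 : d * d = 1) (hdA : ∀ a ∈ A, Commute a d) (hdx : Commute x d)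
    (hfix : ∀ g : G, g * F.z * g⁻¹ ≠ F.z → Commute x (g * F.z * g⁻¹) →
      (∀ a ∈ A, Commute a (g * F.z * g⁻¹)) → g⁻¹ * x * g ∈ F.pre M₀ →
      ∃ g' : G, g' * F.z * g'⁻¹ = g * F.z * g⁻¹ * d ∧ g'⁻¹ * x * g' ∈ F.pre M₀)
    (hout : x * x = F.z → ∀ g : G, g * F.z * g⁻¹ ∈ F.H → g * F.z * g⁻¹ ∉ F.Q → ∀ B : Subgroup G,
      B ≤ A → B.relIndex A ≤ 2 → F.z ∈ B → (∀ b ∈ B, Commute b (g * F.z * g⁻¹)) →
      ((∀ a ∈ A, Commute a (g * F.z * g⁻¹)) ∨ ∃ a ∈ A, Commute (x * a) (g * F.z * g⁻¹)) →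
      g⁻¹ * F.z * g ∈ F.pre M₀) : False := by
  classical
  haveI := Fact.mk Nat.prime_two
  set K := F.pre M₀ with hKdef
  set P := A ⊔ zpowers x with hPdef
  have hKH : K ≤ F.H := map_subtype_le _
  have hKn : (M₀.comap F.π).Normal := by
    haveI := normal_of_index_eq_two hM₀; infer_instance
  have hK : K.relIndex F.H = 2 := by
    have e : K.subgroupOf F.H = M₀.comap F.π :=
      comap_map_eq_self_of_injective (subtype_injective _) _
    rw [relIndex, e, index_comap_of_surjective _ F.π_surj, hM₀]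
  have hconj : ∀ h ∈ F.H, ∀ y ∈ K, h * y * h⁻¹ ∈ K := by
    rintro h hh y ⟨a, ha, rfl⟩
    exact ⟨⟨h, hh⟩ * a * ⟨h, hh⟩⁻¹, hKn.conj_mem a ha _, rfl⟩
  have hconj' : ∀ h ∈ F.H, ∀ y : G, h⁻¹ * y * h ∈ K ↔ y ∈ K := fun h hh y => by
    refine ⟨fun hy => ?_, fun hy => by simpa using hconj h⁻¹ (inv_mem hh) y hy⟩
    simpa [mul_assoc] using hconj h hh _ hy
  have hx4 : x ^ 4 = 1 := by
    rw [show x ^ 4 = (x * x) * (x * x) by simp only [pow_succ, pow_zero, one_mul, mul_assoc]]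
    rcases hx2 with e | e <;> rw [e] <;> simp [F.z_sq]
  have hxK : x ∉ K := fun h => hx0 (F.mem_pre.1 h).2
  have hAz : ∀ a ∈ A, Commute a F.z := fun a ha => F.mem_H.1 (F.Q_le (hAQ ha))
  have hPx : ∀ w ∈ P, Commute w x := by
    intro w hw
    have : P ≤ centralizer ({x} : Set G) := sup_le
      (fun a ha => mem_centralizer_singleton_iff.2 (hxA a ha))
      (zpowers_le.2 (mem_centralizer_singleton_iff.2 rfl))
    exact mem_centralizer_singleton_iff.1 (this hw)
  have hsmul : ∀ (w : G) (q : G ⧸ F.H), ∃ h ∈ F.H, (w • q).out = w * q.out * h := by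
    intro w q
    obtain ⟨⟨h, hh⟩, e⟩ := QuotientGroup.mk_out_eq_mul F.H (w * q.out)
    refine ⟨h, hh, ?_⟩
    rw [← e]
    congr 1
    conv_lhs => rw [← QuotientGroup.out_eq' q]
    rfl
  have hinv : ∀ (y w : G) (q : G ⧸ F.H), Commute w y →
      ((w • q).out⁻¹ * y * (w • q).out ∈ K ↔ q.out⁻¹ * y * q.out ∈ K) := by
    intro y w q hwy
    obtain ⟨h, hh, e⟩ := hsmul w q
    rw [e, show (w * q.out * h)⁻¹ * y * (w * q.out * h) = h⁻¹ * (q.out⁻¹ * (w⁻¹ * y * w) * q.out) * h by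
      group, hconj' h hh, show w⁻¹ * y * w = y by rw [mul_assoc, ← hwy.eq, inv_mul_cancel_left]]
  have hpt : ∀ (w : G) (q : G ⧸ F.H),
      (w • q).out * F.z * (w • q).out⁻¹ = w * (q.out * F.z * q.out⁻¹) * w⁻¹ := by
    intro w q
    obtain ⟨h, hh, e⟩ := hsmul w q
    rw [e]
    calc w * q.out * h * F.z * (w * q.out * h)⁻¹
        = w * q.out * (h * F.z * h⁻¹) * q.out⁻¹ * w⁻¹ := by group
      _ = w * (q.out * F.z * q.out⁻¹) * w⁻¹ := by
        rw [(F.mem_H.1 hh).eq, mul_inv_cancel_right]; group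
  have hinj : ∀ q r : G ⧸ F.H, q.out * F.z * q.out⁻¹ = r.out * F.z * r.out⁻¹ → q = r := by
    intro q r e
    rw [← QuotientGroup.out_eq' q, ← QuotientGroup.out_eq' r, QuotientGroup.eq, F.mem_H]
    calc q.out⁻¹ * r.out * F.z = q.out⁻¹ * (r.out * F.z * r.out⁻¹) * r.out := by group
      _ = F.z * (q.out⁻¹ * r.out) := by rw [← e]; group
  have hstab : ∀ (w : G) (q : G ⧸ F.H), w • q = q → Commute w (q.out * F.z * q.out⁻¹) := by
    intro w q h
    have e := hpt w q
    rw [h] at e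
    exact (mul_inv_eq_iff_eq_mul.1 e.symm)
  have hHm : ∀ y : G, y ∈ K → y ∈ F.H := fun y hy => hKH hy
  -- the count at `x`
  have ha : 2 ∣ Nat.card {q : G ⧸ F.H // q.out⁻¹ * x * q.out ∈ K} := by
    let α := {q : G ⧸ F.H // q.out⁻¹ * x * q.out ∈ K}
    letI : MulAction ↥P α :=
      { smul := fun w q => ⟨(w : G) • q.1, (hinv x w q.1 (hPx w w.2)).2 q.2⟩
        one_smul := fun q => Subtype.ext (one_smul G q.1)
        mul_smul := fun v w q => Subtype.ext (mul_smul (v : G) (w : G) q.1) }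
    have hmod : Nat.card α ≡ Nat.card (MulAction.fixedPoints ↥P α) [MOD 2] :=
      hxP.card_modEq_card_fixedPoints α
    refine Nat.modEq_zero_iff_dvd.1 (hmod.trans ?_)
    have hfx : ∀ r : α, r ∈ MulAction.fixedPoints ↥P α → ∀ w ∈ P, Commute w (r.1.out * F.z * r.1.out⁻¹) :=
      fun r hr w hw => hstab w r.1 (congrArg Subtype.val (hr ⟨w, hw⟩))
    have hne : ∀ r : α, r.1.out * F.z * r.1.out⁻¹ ≠ F.z := by
      intro r e
      have hH : r.1.out ∈ F.H := F.mem_H.2 (mul_inv_eq_iff_eq_mul.1 e)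
      exact hxK ((hconj' _ hH x).1 r.2)
    have hPd : ∀ w ∈ P, Commute w d := fun w hw => by
      have : P ≤ centralizer ({d} : Set G) := sup_le
        (fun a ha => mem_centralizer_singleton_iff.2 (hdA a ha))
        (zpowers_le.2 (mem_centralizer_singleton_iff.2 hdx))
      exact mem_centralizer_singleton_iff.1 (this hw)
    have hex : ∀ r : ↥(MulAction.fixedPoints ↥P α), ∃ s : ↥(MulAction.fixedPoints ↥P α),
        s.1.1.out * F.z * s.1.1.out⁻¹ = r.1.1.out * F.z * r.1.1.out⁻¹ * d := by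
      rintro ⟨r, hr⟩
      obtain ⟨g', hg', hgK⟩ := hfix r.1.out (hne r) (hfx r hr x ((le_sup_right : zpowers x ≤ P) (mem_zpowers x)))
        (fun a ha => hfx r hr a ((le_sup_left : A ≤ P) ha)) r.2
      obtain ⟨⟨h, hh⟩, e⟩ := QuotientGroup.mk_out_eq_mul F.H g'
      have hp' : (g' : G ⧸ F.H).out * F.z * (g' : G ⧸ F.H).out⁻¹ = r.1.out * F.z * r.1.out⁻¹ * d := by
        rw [e, ← hg']
        show g' * h * F.z * (g' * h)⁻¹ = _
        calc g' * h * F.z * (g' * h)⁻¹ = g' * (h * F.z * h⁻¹) * g'⁻¹ := by group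
          _ = g' * F.z * g'⁻¹ := by rw [(F.mem_H.1 hh).eq, mul_inv_cancel_right]
      have hmem : (g' : G ⧸ F.H).out⁻¹ * x * (g' : G ⧸ F.H).out ∈ K := by
        rw [e, show ((g' * (⟨h, hh⟩ : ↥F.H) : G))⁻¹ * x * (g' * h) = h⁻¹ * (g'⁻¹ * x * g') * h by
          group, hconj' h hh]
        exact hgK
      refine ⟨⟨⟨(g' : G ⧸ F.H), hmem⟩, fun w => Subtype.ext (hinj _ _ ?_)⟩, hp'⟩
      show ((w : G) • (g' : G ⧸ F.H)).out * F.z * ((w : G) • (g' : G ⧸ F.H)).out⁻¹ = _
      rw [hpt (w : G), hp', mul_inv_eq_iff_eq_mul]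
      exact ((hfx r hr w w.2).mul_right (hPd w w.2)).eq
    choose σ hσ using hex
    have : Fintype ↥(MulAction.fixedPoints ↥P α) := Fintype.ofFinite _
    rw [Nat.card_eq_fintype_card, ← ZMod.natCast_eq_natCast_iff, Nat.cast_zero, ← Finset.card_univ,
      Finset.cast_card]
    refine Finset.sum_involution (fun r _ => σ r) (fun r _ => rfl) (fun r _ _ e => hd1 ?_)
      (fun r _ => Finset.mem_univ _) fun r _ => ?_
    · have h1 := hσ r
      rw [e] at h1
      exact mul_eq_left.1 h1.symm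
    · refine Subtype.ext (Subtype.ext (hinj _ _ ?_))
      rw [hσ, hσ, mul_assoc, hd2, mul_one]
  -- the count at `x * x`
  have hb : Nat.card {q : G ⧸ F.H // q.out⁻¹ * (x * x) * q.out ∈ K} % 4 = F.H.index % 4 := by
    rcases hx2 with e | e
    · rw [index_eq_card]
      congr 1
      exact Nat.card_congr (Equiv.subtypeUnivEquiv fun q => by rw [e]; simp)
    let β := {q : G ⧸ F.H // ¬ q.out⁻¹ * (x * x) * q.out ∈ K}
    have hsum : Nat.card β + Nat.card {q : G ⧸ F.H // q.out⁻¹ * (x * x) * q.out ∈ K} = F.H.index := by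
      rw [add_comm, index_eq_card, ← Nat.card_sum]
      exact Nat.card_congr (Equiv.sumCompl _)
    suffices h4 : 4 ∣ Nat.card β by omega
    have hPz : ∀ w ∈ P, Commute w (x * x) := fun w hw => (hPx w hw).mul_right (hPx w hw)
    letI : MulAction ↥P β :=
      { smul := fun w q => ⟨(w : G) • q.1, fun h => q.2 ((hinv (x * x) w q.1 (hPz w w.2)).1 h)⟩
        one_smul := fun q => Subtype.ext (one_smul G q.1)
        mul_smul := fun v w q => Subtype.ext (mul_smul (v : G) (w : G) q.1) }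
    refine four_dvd_card hxP fun q => ?_
    by_contra hlt
    set S := MulAction.stabilizer G q.1 with hS
    have hSP : S.relIndex P ≤ 2 := by
      have h1 : MulAction.stabilizer ↥P q = S.subgroupOf P := by
        ext w
        simp only [MulAction.mem_stabilizer_iff, mem_subgroupOf, hS]
        exact ⟨fun h => congrArg Subtype.val h, fun h => Subtype.ext h⟩
      rw [relIndex, ← h1]
      obtain ⟨k, hk⟩ := hxP.index (MulAction.stabilizer ↥P q)
      rw [hk] at hlt ⊢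
      rcases k with _ | _ | k
      · norm_num
      · norm_num
      · exact absurd (Nat.pow_le_pow_right (by norm_num : 1 ≤ 2) (by omega : 2 ≤ k + 1 + 1)) (by omega)
    have hzS : F.z ∈ S := by
      rw [← e]
      have hxP' : x ∈ P := le_sup_right (a := A) (mem_zpowers x)
      have h0 : S.relIndex P ≠ 0 := index_ne_zero_of_finite
      rcases (show S.relIndex P = 1 ∨ S.relIndex P = 2 by omega) with h1 | h1
      · exact relIndex_eq_one.1 h1 (P.mul_mem hxP' hxP')
      · exact mul_self_mem_of_index_two h1 (⟨x, hxP'⟩ : ↥P)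
    set g := q.1.out with hg
    have hpH : g * F.z * g⁻¹ ∈ F.H := F.mem_H.2 (hstab _ _ hzS).symm
    have hzg : g⁻¹ * F.z * g ∈ F.H := F.mem_conjH (hstab _ _ hzS)
    suffices key : g⁻¹ * F.z * g ∈ K from q.2 ((congrArg (fun t => g⁻¹ * t * g ∈ K) e).mpr key)
    by_cases hpQ : g * F.z * g⁻¹ ∈ F.Q
    · exact F.Q_le_pre M₀ (F.inv_mem_Q hpQ)
    have hxP' : x ∈ P := le_sup_right (a := A) (mem_zpowers x)
    refine hout e g hpH hpQ (A ⊓ S) inf_le_left
      (by
        rw [inf_comm, inf_relIndex_right]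
        exact (relIndex_le_of_le_right (le_sup_left : A ≤ P) index_ne_zero_of_finite).trans hSP)
      ⟨hzA, hzS⟩ (fun w hw => hstab w q.1 hw.2) ?_
    by_cases hxS : x ∈ S
    · exact Or.inr ⟨1, one_mem A, by rw [mul_one]; exact hstab x q.1 hxS⟩
    by_cases hAS : ∀ a ∈ A, a ∈ S
    · exact Or.inl fun a ha => hstab a q.1 (hAS a ha)
    push Not at hAS
    obtain ⟨a, ha, haS⟩ := hAS
    refine Or.inr ⟨a, ha, hstab _ q.1 ?_⟩
    have h2 : S.relIndex P = 2 := by
      have h0 : S.relIndex P ≠ 0 := index_ne_zero_of_finite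
      refine (show S.relIndex P = 1 ∨ S.relIndex P = 2 by omega).resolve_left fun h1 => ?_
      exact hxS (relIndex_eq_one.1 h1 hxP')
    exact (mul_mem_iff_of_index_two h2 (a := (⟨x, hxP'⟩ : ↥P))
      (b := ⟨a, le_sup_left (b := zpowers x) ha⟩)).2 (iff_of_false hxS haS)
  obtain ⟨N, hN, hN2⟩ := exists_index_two F.H K x hx4 hKH hK F.odd_index hconj ha hb
  rcases hN.eq_bot_or_eq_top with h | h
  · have h2 : Nat.card G = 2 := by
      have := card_mul_index N
      rw [h, index_bot] at hN2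
      exact hN2
    have := Nat.le_of_dvd Nat.card_pos (card_subgroup_dvd_card F.Q)
    rw [F.Q_card, h2] at this
    omega
  · rw [h, index_top] at hN2
    omega

/-- The parity criterion in a simple group. -/
theorem false_of_parity [IsSimpleGroup G] (M₀ : Subgroup M) (hM₀ : M₀.index = 2)
    (x : G) (hxH : x ∈ F.H) (hx0 : F.π ⟨x, hxH⟩ ∉ M₀) (hx2 : x * x = 1 ∨ x * x = F.z)
    (A : Subgroup G) (hAQ : A ≤ F.Q) (hzA : F.z ∈ A) (hxA : ∀ a ∈ A, Commute a x)
    (hxP : IsPGroup 2 ↥(A ⊔ zpowers x))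
    (hfix : ∀ g : G, g * F.z * g⁻¹ ≠ F.z → Commute x (g * F.z * g⁻¹) →
      (∀ a ∈ A, Commute a (g * F.z * g⁻¹)) →
      ∃ y ∈ F.Q, y * (g * F.z * g⁻¹) * y⁻¹ = F.z * (g * F.z * g⁻¹) ∧
        g⁻¹ * (x⁻¹ * y⁻¹ * x * y) * g ∈ F.pre M₀)
    (hout : x * x = F.z → ∀ g : G, g * F.z * g⁻¹ ∈ F.H → g * F.z * g⁻¹ ∉ F.Q → ∀ B : Subgroup G,
      B ≤ A → B.relIndex A ≤ 2 → F.z ∈ B → (∀ b ∈ B, Commute b (g * F.z * g⁻¹)) →
      ∃ a ∈ B, ∃ b ∈ B, ¬ Commute a b) : False := by
  have hAz : ∀ a ∈ A, Commute a F.z := fun a ha => F.mem_H.1 (F.Q_le (hAQ ha))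
  refine F.false_of_parity_gen M₀ hM₀ x hxH hx0 hx2 A hAQ hzA hxA hxP F.z F.z_ne F.z_sq hAz
    (F.mem_H.1 hxH) ?_ ?_
  · intro g hne hxc hAc hgK
    obtain ⟨y, -, hyp, hyQ⟩ := hfix g hne hxc hAc
    refine ⟨y * g, ?_, ?_⟩
    · rw [show y * g * F.z * (y * g)⁻¹ = y * (g * F.z * g⁻¹) * y⁻¹ by group, hyp,
        (hAc F.z hzA).eq]
    · rw [show (y * g)⁻¹ * x * (y * g) =
        (g⁻¹ * x * g) * (g⁻¹ * (x⁻¹ * y⁻¹ * x * y) * g) by group]
      exact (F.pre M₀).mul_mem hgK hyQ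
  · intro e g hpH hpQ B hBA hidx hzB hBp _
    obtain ⟨a, ha, b, hb', hab⟩ := hout e g hpH hpQ B hBA hidx hzB hBp
    have hz' : ⁅a, b⁆ = F.z := (F.comm_Q (hAQ (hBA ha)) (hAQ (hBA hb'))).resolve_left fun h1 =>
      hab (commutatorElement_eq_one_iff_commute.1 h1)
    have hzg : g⁻¹ * F.z * g ∈ F.H := F.mem_conjH (hBp F.z hzB)
    refine F.mem_pre.2 ⟨hzg, ?_⟩
    have e2 : (⟨g⁻¹ * F.z * g, hzg⟩ : ↥F.H) =
        ⁅(⟨g⁻¹ * a * g, F.mem_conjH (hBp a ha)⟩ : ↥F.H), ⟨g⁻¹ * b * g, F.mem_conjH (hBp b hb')⟩⁆ := by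
      apply Subtype.ext
      show g⁻¹ * F.z * g = ⁅g⁻¹ * a * g, g⁻¹ * b * g⁆
      rw [← hz']
      simp only [commutatorElement_def]
      group
    rw [e2]
    haveI := normal_of_index_eq_two hM₀
    have h2 : (M₀.comap F.π).index = 2 := by rw [index_comap_of_surjective _ F.π_surj, hM₀]
    rw [← mem_comap, commutatorElement_def, mul_mem_iff_of_index_two h2, mul_mem_iff_of_index_two h2,
      mul_mem_iff_of_index_two h2]
    simp only [inv_mem_iff]
    tauto

end Frame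

end Cfsg.Agent.H47.Ex9
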