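import Mathlib.GroupTheory.SpecificGroups.Alternating.Simple
import Mathlib.Tactic.Abel
import Mathlib.Tactic.Ring
import Mathlib.Data.Fintype.Perm
import Mathlib.Data.Fintype.Prod
import Mathlib.Data.ZMod.Basic
import Mathlib.Algebra.BigOperators.Fin
import Mathlib.SetTheory.Cardinal.Finite
import Mathlib.Tactic.LinearCombination

/-!
The four-dimensional symplectic space over two elements as a module for permutations of six points,
and its tensor product with the natural module for three points.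
-/

set_option autoImplicit false
set_option maxRecDepth 10000

namespace Cfsg.Agent.H47.Ex9.Plane

open Equiv

/-- Four-dimensional vectors over two elements. -/
abbrev W := ZMod 2 × ZMod 2 × ZMod 2 × ZMod 2

/-- The even subset of six points missing the last one. -/
def up (x : W) : Fin 6 → ZMod 2 :=
  ![x.1, x.2.1, x.2.2.1, x.2.2.2, x.1 + x.2.1 + x.2.2.1 + x.2.2.2, 0]

/-- Reduction modulo the whole set. -/
def down (y : Fin 6 → ZMod 2) : W := (y 0 + y 5, y 1 + y 5, y 2 + y 5, y 3 + y 5)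

/-- The symplectic form. -/
def β (x w : W) : ZMod 2 :=
  x.1 * w.1 + x.2.1 * w.2.1 + x.2.2.1 * w.2.2.1 + x.2.2.2 * w.2.2.2 +
    (x.1 + x.2.1 + x.2.2.1 + x.2.2.2) * (w.1 + w.2.1 + w.2.2.1 + w.2.2.2)

/-- The action of a permutation. -/
def act (σ : Perm (Fin 6)) (x : W) : W := down fun i => up x (σ.symm i)

theorem zmod_two : ∀ a : ZMod 2, a + a = 0 := by decide

theorem up_add (x w : W) (i : Fin 6) : up (x + w) i = up x i + up w i := by
  fin_cases i <;> simp [up] <;> ring

theorem sum_up (x : W) : ∑ i, up x i = 0 := by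
  rw [Fin.sum_univ_six]
  simp [up]
  linear_combination zmod_two (x.1 + x.2.1 + x.2.2.1 + x.2.2.2)

theorem β_eq (x w : W) : β x w = ∑ i, up x i * up w i := by
  rw [Fin.sum_univ_six]
  simp [up, β]

theorem up_down (y : Fin 6 → ZMod 2) (hy : ∑ i, y i = 0) (i : Fin 6) :
    up (down y) i = y i + y 5 := by
  rw [Fin.sum_univ_six] at hy
  fin_cases i <;> simp [up, down]
  · linear_combination hy + zmod_two (y 5) - zmod_two (y 4 + y 5) + zmod_two (y 5)
  · exact (zmod_two _).symm

theorem act_add (σ : Perm (Fin 6)) (x w : W) : act σ (x + w) = act σ x + act σ w := by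
  simp only [act, down, up_add, Prod.ext_iff, Prod.fst_add, Prod.snd_add]
  refine ⟨?_, ?_, ?_, ?_⟩ <;> abel

theorem sum_perm (σ : Perm (Fin 6)) (x : W) : ∑ i, up x (σ.symm i) = 0 := by
  rw [Equiv.sum_comp σ.symm (up x), sum_up]

theorem act_mul (σ π : Perm (Fin 6)) (x : W) : act (σ * π) x = act σ (act π x) := by
  have h : ∀ i, up (act π x) i = up x (π.symm i) + up x (π.symm 5) := fun i =>
    up_down (fun i => up x (π.symm i)) (sum_perm π x) i
  have key : ∀ a b c : ZMod 2, a + b = a + c + (b + c) := fun a b c => by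
    linear_combination -zmod_two c
  show down (fun i => up x ((σ * π).symm i)) = down (fun i => up (act π x) (σ.symm i))
  simp only [h]
  simp only [down, Prod.ext_iff]
  exact ⟨key _ _ _, key _ _ _, key _ _ _, key _ _ _⟩

theorem act_one (x : W) : act 1 x = x := by
  simp [act, down, up, show (1 : Perm (Fin 6)).symm = 1 from rfl]

theorem β_act (σ : Perm (Fin 6)) (x w : W) : β (act σ x) (act σ w) = β x w := by
  have h : ∀ (x : W) i, up (act σ x) i = up x (σ.symm i) + up x (σ.symm 5) := fun x i =>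
    up_down (fun i => up x (σ.symm i)) (sum_perm σ x) i
  rw [β_eq, β_eq]
  simp only [h]
  simp only [add_mul, mul_add, Finset.sum_add_distrib, ← Finset.mul_sum, ← Finset.sum_mul,
    sum_perm, zero_mul, mul_zero, add_zero, zero_add, Finset.sum_const, Finset.card_univ,
    Fintype.card_fin]
  rw [Equiv.sum_comp σ.symm (fun i => up x i * up w i)]
  have h6 : ∀ c : ZMod 2, 6 • c = 0 := by decide
  rw [h6, mul_zero, add_zero]

/-- The permutation of the vectors. -/
def rep : Perm (Fin 6) →* Perm W :=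
  MonoidHom.mk' (fun σ => ⟨act σ, act σ⁻¹,
    fun x => by rw [← act_mul, inv_mul_cancel, act_one],
    fun x => by rw [← act_mul, mul_inv_cancel, act_one]⟩)
    fun σ π => Equiv.ext (act_mul σ π)

/-- The basis. -/
def e₀ : W := (1, 1, 0, 0)
/-- The partner of `e₀`. -/
def f₀ : W := (0, 1, 1, 0)
/-- The second basis pair. -/
def g₀ : W := (0, 0, 0, 1)
/-- The partner of `g₀`. -/
def h₀ : W := (1, 1, 1, 1)

/-- Scaling. -/
def sm {A : Type*} [Zero A] (c : ZMod 2) (x : A) : A := if c = 0 then 0 else x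

theorem expand : ∀ x : W,
    sm (β x f₀) e₀ + sm (β x e₀) f₀ + sm (β x h₀) g₀ + sm (β x g₀) h₀ = x := by decide +kernel

theorem β_coord : ∀ x w : W, β x w =
    β x f₀ * β w e₀ + β x e₀ * β w f₀ + β x h₀ * β w g₀ + β x g₀ * β w h₀ := by decide +kernel

theorem β_nondeg : ∀ x : W, x ≠ 0 → ∃ y, β x y ≠ 0 := by decide +kernel

set_option synthInstance.maxSize 2048 in
set_option synthInstance.maxHeartbeats 100000 in
theorem act_inj : ∀ σ : Perm (Fin 6),
    act σ e₀ = e₀ → act σ f₀ = f₀ → act σ g₀ = g₀ → act σ h₀ = h₀ → σ = 1 := by decide +kernel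

theorem count_bases :
    (∑ a : W, ∑ b : W, if β a b = 1 then
      ∑ c : W, if β a c = 0 ∧ β b c = 0 then
        ∑ d : W, if β a d = 0 ∧ β b d = 0 ∧ β c d = 1 then 1 else 0
      else 0 else 0) = 720 := by decide +kernel

/-- Images of the basis. -/
def IsBasis (p : W × W × W × W) : Prop :=
  β p.1 p.2.1 = 1 ∧ (β p.1 p.2.2.1 = 0 ∧ β p.2.1 p.2.2.1 = 0) ∧
    β p.1 p.2.2.2 = 0 ∧ β p.2.1 p.2.2.2 = 0 ∧ β p.2.2.1 p.2.2.2 = 1

instance : DecidablePred IsBasis := fun p => by unfold IsBasis; infer_instance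

theorem card_bases : Nat.card {p : W × W × W × W // IsBasis p} = 720 := by
  rw [Nat.card_eq_fintype_card, Fintype.card_subtype, Finset.card_filter, Fintype.sum_prod_type,
    ← count_bases]
  refine Finset.sum_congr rfl fun a _ => ?_
  rw [Fintype.sum_prod_type]
  refine Finset.sum_congr rfl fun b _ => ?_
  rw [Fintype.sum_prod_type]
  split_ifs with h1
  · refine Finset.sum_congr rfl fun c _ => ?_
    split_ifs with h2
    · exact Finset.sum_congr rfl fun d _ => by simp [IsBasis, h1, h2.1, h2.2]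
    · exact Finset.sum_eq_zero fun d _ => if_neg fun h => h2 h.2.1
  · exact Finset.sum_eq_zero fun c _ => Finset.sum_eq_zero fun d _ => if_neg fun h => h1 h.1

theorem add_sm {A : Type*} [AddMonoid A] (x : A) (hx : x + x = 0) (a b : ZMod 2) :
    sm (a + b) x = sm a x + sm b x := by
  rcases (show ∀ c : ZMod 2, c = 0 ∨ c = 1 by decide) a with rfl | rfl <;>
    rcases (show ∀ c : ZMod 2, c = 0 ∨ c = 1 by decide) b with rfl | rfl <;>
    simp [sm, hx, zmod_two]

/-- Every symplectic additive permutation comes from six points. -/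
theorem exists_perm (g : W →+ W) (hg : ∀ x y, β (g x) (g y) = β x y) : ∃ σ, ∀ x, act σ x = g x := by
  let f : Perm (Fin 6) → {p : W × W × W × W // IsBasis p} := fun σ =>
    ⟨(act σ e₀, act σ f₀, act σ g₀, act σ h₀), by simp only [IsBasis, β_act]; decide⟩
  have hf : Function.Injective f := by
    intro σ π h
    have h' := congrArg Subtype.val h
    simp only [f, Prod.mk.injEq] at h'
    refine inv_mul_eq_one.1 (act_inj _ ?_ ?_ ?_ ?_) |>.symm <;> rw [act_mul]
    · rw [h'.1, ← act_mul, inv_mul_cancel, act_one]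
    · rw [h'.2.1, ← act_mul, inv_mul_cancel, act_one]
    · rw [h'.2.2.1, ← act_mul, inv_mul_cancel, act_one]
    · rw [h'.2.2.2, ← act_mul, inv_mul_cancel, act_one]
  have hb := (Nat.bijective_iff_injective_and_card f).2
    ⟨hf, by rw [card_bases, Nat.card_perm, Nat.card_fin]; rfl⟩
  obtain ⟨σ, hσ⟩ := hb.2 ⟨(g e₀, g f₀, g g₀, g h₀), by simp only [IsBasis, hg]; decide⟩
  have h' := congrArg Subtype.val hσ
  simp only [f, Prod.mk.injEq] at h'
  refine ⟨σ, fun x => ?_⟩
  let A : W →+ W := AddMonoidHom.mk' (act σ) (act_add σ)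
  show A x = g x
  have hs : ∀ (F : W →+ W) (c : ZMod 2) (v : W), F (sm c v) = sm c (F v) := fun F c v => by
    unfold sm; split_ifs <;> simp
  rw [← expand x]
  simp only [map_add, hs]
  show sm _ (act σ e₀) + sm _ (act σ f₀) + sm _ (act σ g₀) + sm _ (act σ h₀) = _
  rw [h'.1, h'.2.1, h'.2.2.1, h'.2.2.2]

/-- The action of permutations of three points. -/
def mix (σ : Perm (Fin 3)) (p : W × W) : W × W :=
  ((if σ 2 = 0 then 0 else p.1) + (if σ 0 = 0 then 0 else p.2),
    (if σ 2 = 2 then 0 else p.1) + (if σ 0 = 2 then 0 else p.2))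

theorem mix_mul (σ π : Perm (Fin 3)) : ∀ p : W × W, mix (σ * π) p = mix σ (mix π p) := by
  have h : ∀ σ π : Perm (Fin 3), ∀ x y : ZMod 2,
      ((if (σ * π) 2 = 0 then 0 else x) + (if (σ * π) 0 = 0 then 0 else y) =
        (if σ 2 = 0 then 0 else ((if π 2 = 0 then 0 else x) + (if π 0 = 0 then 0 else y))) +
          (if σ 0 = 0 then 0 else ((if π 2 = 2 then 0 else x) + (if π 0 = 2 then 0 else y)))) ∧
      ((if (σ * π) 2 = 2 then 0 else x) + (if (σ * π) 0 = 2 then 0 else y) =
        (if σ 2 = 2 then 0 else ((if π 2 = 0 then 0 else x) + (if π 0 = 0 then 0 else y))) +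
          (if σ 0 = 2 then 0 else ((if π 2 = 2 then 0 else x) + (if π 0 = 2 then 0 else y)))) := by
    decide +kernel
  rintro ⟨x, y⟩
  simp only [mix, Prod.ext_iff, Prod.fst_add, Prod.snd_add, apply_ite Prod.fst, apply_ite Prod.snd,
    Prod.fst_zero, Prod.snd_zero]
  exact ⟨⟨(h σ π _ _).1, (h σ π _ _).1, (h σ π _ _).1, (h σ π _ _).1⟩,
    (h σ π _ _).2, (h σ π _ _).2, (h σ π _ _).2, (h σ π _ _).2⟩

/-- The action on the tensor product. -/
def act2 (m : Perm (Fin 3) × Perm (Fin 6)) (p : W × W) : W × W :=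
  mix m.1 (act m.2 p.1, act m.2 p.2)

/-- The polar form. -/
def bil (p r : W × W) : ZMod 2 := β p.1 r.2 + β p.2 r.1

end Cfsg.Agent.H47.Ex9.Plane
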