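import Cfsg.Agent.H47.Ex9.Decomp
import Cfsg.Agent.H47.Ex9.Plane

/-!
Without fixed vectors of the elements of order three of the first factor, the space is the tensor
product of the natural modules of the permutations of three and of six points.
-/

set_option autoImplicit false

namespace Cfsg.Agent.H47.Ex9.Frame.Coord

open Subgroup Cfsg.Agent.H92 Equiv
open Plane (W β sm act act2 bil)

universe u v w

variable {G : Type u} [Group G] [Finite G] {M : Type v} [Group M] [Finite M] {F : Frame G M}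
  {U : Type} [AddCommGroup U] [Fintype U] (K : F.Coord U)

set_option linter.unusedSectionVars false

include K

/-- The automorphism given by an element of the quotient. -/
def φHom (n : M) : U →+ U := AddMonoidHom.mk' (fun u => K.φ n u) (K.φ_add n)

theorem φHom_apply (n : M) (u : U) : K.φHom n u = K.φ n u := rfl

set_option maxHeartbeats 1000000 in
theorem exists_model {P : Type w} [Group P] (ι : Perm (Fin 3) × P →* M)
    (hι : Function.Injective ι) {b : P} (hb5 : b ^ 5 = 1) (hb1 : b ≠ 1)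
    (hfix : ∀ v, K.φ (ι (swap 0 1 * swap 1 2, 1)) v = v → v = 0) :
    ∃ (e : U ≃ W × W) (θ : P →* Perm (Fin 6)), Function.Injective θ ∧
      (∀ u v, e (u + v) = e u + e v) ∧ (∀ u v, K.B u v = bil (e u) (e v)) ∧
      (∀ u, K.q u = β (e u).1 (e u).2) ∧
      ∀ σ p u, e (K.φ (ι (σ, p)) u) = act2 (σ, θ p) (e u) := by
  classical
  set a := ι (swap 0 1 * swap 1 2, 1) with hadef
  set τ := ι (swap 0 1, 1) with hτdef
  have ha3 : a ^ 3 = 1 := by
    rw [hadef, ← map_pow, Prod.pow_mk, one_pow,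
      show (swap 0 1 * swap 1 2 : Perm (Fin 3)) ^ 3 = 1 by decide]
    exact map_one _
  have hτ2 : τ * τ = 1 := by
    rw [hτdef, ← map_mul, Prod.mk_mul_mk, swap_mul_self, one_mul]; exact map_one _
  have hcomm : ∀ (σ : Perm (Fin 3)) p, Commute (ι (σ, 1)) (ι (1, p)) := fun σ p => by
    show _ * _ = _ * _
    rw [← map_mul, ← map_mul, Prod.mk_mul_mk, Prod.mk_mul_mk]; simp
  have hτa : τ * a = a * a * τ := by
    rw [hτdef, hadef, ← map_mul, ← map_mul, ← map_mul, Prod.mk_mul_mk, Prod.mk_mul_mk,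
      Prod.mk_mul_mk]
    refine congrArg ι (Prod.ext ?_ (mul_one _).symm)
    show swap 0 1 * (swap 0 1 * swap 1 2) = swap 0 1 * swap 1 2 * (swap 0 1 * swap 1 2) * swap (0 : Fin 3) 1
    decide
  -- `1 + a + a²` vanishes
  have hsum : ∀ v, K.φ a (K.φ a v) = v + K.φ a v := by
    intro v
    have h := hfix _ (K.φ_avg ha3 v)
    simp only [avg_apply, Finset.sum_range_succ, Finset.sum_range_zero, zero_add, pow_zero, pow_one,
      pow_two, map_one, Perm.one_apply, map_mul, Perm.mul_apply] at h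
    exact (K.eq_of_add h).symm
  set V := K.fix τ with hVdef
  have hτV : ∀ w ∈ V, K.φ τ (K.φ a w) = w + K.φ a w := fun w hw => by
    rw [← K.φ_mul, hτa, K.φ_mul, K.φ_mul, show K.φ τ w = w from hw, hsum]
  have hfr : K.rad τ = V := le_antisymm (K.rad_le_fix hτ2) fun w hw => ⟨K.φ a w, by
    rw [hτV w hw, add_comm w, ← add_assoc, K.add_self, zero_add]⟩
  have hiso : ∀ x ∈ V, ∀ y ∈ V, K.B x y = 0 := fun x hx y hy => by
    rw [hVdef, ← K.perp_rad hτ2] at hx
    exact hx y (hfr ▸ hy)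
  have hV16 : Nat.card ↥V = 16 := by
    have h := K.card_rad_fix hτ2
    rw [hfr] at h
    exact Nat.mul_self_inj.1 (h.trans (by norm_num : 256 = 16 * 16))
  have hpV : ∀ p, ∀ w ∈ V, K.φ (ι (1, p)) w ∈ V := fun p w hw => by
    show K.φ τ (K.φ _ w) = _
    rw [← K.φ_mul, (hcomm _ p).eq, K.φ_mul, show K.φ τ w = w from hw]
  have hzero : ∀ x y, x ∈ V → y ∈ V → x + K.φ a y = 0 → x = 0 ∧ y = 0 := by
    intro x y hx hy h
    have h1 := congrArg (K.φ τ) h
    rw [K.φ_add, hτV y hy, show K.φ τ x = x from hx, K.φ_zero] at h1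
    have h2 : y = 0 := by
      have e : x + (y + K.φ a y) = y + (x + K.φ a y) := by abel
      rwa [e, h, add_zero] at h1
    refine ⟨?_, h2⟩
    rwa [h2, K.φ_zero, add_zero] at h
  -- trivial on the fixed vectors means trivial
  have hfaith : ∀ p, (∀ w ∈ V, K.φ (ι (1, p)) w = w) → p = 1 := by
    intro p hp
    have : ι (1, p) = 1 := K.φ_inj (Equiv.ext fun u => by
      have hy : u + K.φ τ u ∈ V := hfr ▸ (⟨u, rfl⟩ : _ ∈ K.rad τ)
      have hx : u + K.φ a (u + K.φ τ u) ∈ V := by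
        show K.φ τ _ = _
        rw [K.φ_add, hτV _ hy]
        have e : K.φ τ u + (u + K.φ τ u + K.φ a (u + K.φ τ u)) =
            u + K.φ a (u + K.φ τ u) + (K.φ τ u + K.φ τ u) := by abel
        rw [e, K.add_self, add_zero]
      rw [map_one]
      show K.φ (ι (1, p)) u = u
      have e : u = u + K.φ a (u + K.φ τ u) + K.φ a (u + K.φ τ u) := (K.add_cancel _ _).symm
      conv_lhs => rw [e]
      rw [K.φ_add, hp _ hx, ← K.φ_mul, ← (hcomm _ p).eq, K.φ_mul, hp _ hy]
      exact e.symm)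
    exact congrArg Prod.snd (hι (this.trans (map_one ι).symm))
  -- the five-element moves every fixed vector
  have hb5' : ι (1, b) ^ 5 = 1 := by rw [← map_pow, Prod.pow_mk, one_pow, hb5]; exact map_one _
  have hbfix : ∀ w ∈ V, K.φ (ι (1, b)) w = w → w = 0 := by
    obtain ⟨i, -, hi⟩ := K.card_eq_two_pow (K.fixIn V (ι (1, b)))
    have h2 := K.card_fixIn_modEq Nat.prime_five hb5' (hpV b)
    have hle : Nat.card ↥(K.fixIn V (ι (1, b))) ≤ Nat.card ↥V := AddSubgroup.card_le_of_le inf_le_left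
    rw [hi, hV16] at h2 hle
    have hi4 := (Nat.pow_le_pow_iff_right (by norm_num : 1 < 2)).1 (hle.trans_eq (by norm_num : 16 = 2 ^ 4))
    have : i = 0 ∨ i = 4 := by interval_cases i <;> omega
    rcases this with rfl | rfl
    · intro w hw h
      have := AddSubgroup.eq_bot_of_card_eq _ (hi.trans (pow_zero 2))
      exact AddSubgroup.mem_bot.1 (this ▸ (⟨hw, h⟩ : w ∈ K.fixIn V (ι (1, b))))
    · refine absurd (hfaith b fun w hw => ?_) hb1
      have := AddSubgroup.eq_of_le_of_card_ge (inf_le_left : K.fixIn V (ι (1, b)) ≤ V)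
        (show Nat.card ↥V ≤ Nat.card ↥(K.fixIn V (ι (1, b))) by rw [hi, hV16]; norm_num)
      exact (this.ge hw).2
  have hq : ∀ w ∈ V, K.q w = 0 := by
    let f : ↥V → ↥V := fun w => ⟨w + K.φ (ι (1, b)) w, V.add_mem w.2 (hpV b w w.2)⟩
    have hf : Function.Injective f := fun x y h => by
      have h' : (x : U) + K.φ _ x = y + K.φ _ y := congrArg Subtype.val h
      refine Subtype.ext (K.eq_of_add (hbfix _ (V.add_mem x.2 y.2) (K.eq_of_add ?_)))
      rw [K.φ_add]
      have e : K.φ (ι (1, b)) (x : U) + K.φ (ι (1, b)) (y : U) + (x + y) =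
          (x + K.φ (ι (1, b)) x) + (y + K.φ (ι (1, b)) y) := by abel
      rw [e, h', K.add_self]
    intro w hw
    obtain ⟨x, hx⟩ := Finite.surjective_of_injective hf ⟨w, hw⟩
    rw [← show (x : U) + K.φ (ι (1, b)) x = w from congrArg Subtype.val hx, K.quad.add, K.φ_q,
      hiso _ x.2 _ (hpV b x x.2), add_zero, CharTwo.add_self_eq_zero]
  -- the symplectic form on the fixed vectors
  let γ : U → U → ZMod 2 := fun x y => K.B x (K.φ a y)
  have hγc : ∀ x ∈ V, ∀ y ∈ V, γ x y = γ y x := fun x hx y hy => by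
    show K.B x (K.φ a y) = K.B y (K.φ a x)
    rw [K.B_comm y, ← K.φ_B τ (K.φ a x), hτV x hx, show K.φ τ y = y from hy, map_add,
      AddMonoidHom.add_apply, hiso x hx y hy, zero_add]
    have h1 := K.φ_B a (K.φ a x) y
    rw [hsum, map_add, AddMonoidHom.add_apply] at h1
    exact (CharTwo.add_eq_zero.1 (by
      have h2 : K.B (K.φ a x) (K.φ a y) = 0 := (K.φ_B a x y).trans (hiso x hx y hy)
      rw [h2, add_zero] at h1
      rw [h1]; exact CharTwo.add_self_eq_zero _))
  have hγs : ∀ x ∈ V, γ x x = 0 := fun x hx => by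
    show K.B x (K.φ a x) = 0
    have h := K.quad.add x (K.φ a x)
    rw [← hsum, K.φ_q, K.φ_q, hq x hx] at h
    simpa using h.symm
  have hγ0 : ∀ x ∈ V, (∀ y ∈ V, γ x y = 0) → x = 0 := by
    intro x hx h
    refine K.quad.nondeg x fun u => ?_
    have hy : u + K.φ τ u ∈ V := hfr ▸ (⟨u, rfl⟩ : _ ∈ K.rad τ)
    have hx' : u + K.φ a (u + K.φ τ u) ∈ V := by
      show K.φ τ _ = _
      rw [K.φ_add, hτV _ hy]
      have e : K.φ τ u + (u + K.φ τ u + K.φ a (u + K.φ τ u)) =
          u + K.φ a (u + K.φ τ u) + (K.φ τ u + K.φ τ u) := by abel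
      rw [e, K.add_self, add_zero]
    rw [K.B_comm, ← K.add_cancel u (K.φ a (u + K.φ τ u)), map_add, hiso x hx _ hx',
      show K.B x (K.φ a (u + K.φ τ u)) = 0 from h _ hy, add_zero]
  have htwo : ∀ c : ZMod 2, c ≠ 0 → c = 1 := by decide
  -- a symplectic basis
  have hpair : ∀ x ∈ V, x ≠ 0 → ∃ y ∈ V, γ x y = 1 := by
    intro x hx hx0
    by_contra h
    push Not at h
    exact hx0 (hγ0 x hx fun y hy => by
      by_contra h'
      exact h y hy (htwo _ h'))
  haveI : Nontrivial ↥V := Finite.one_lt_card_iff_nontrivial.1 (by rw [hV16]; norm_num)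
  obtain ⟨⟨e, he⟩, he0⟩ := exists_ne (0 : ↥V)
  obtain ⟨f, hf, hef⟩ := hpair e he fun h => he0 (Subtype.ext h)
  let pr : U → U := fun x => x + sm (γ x f) e + sm (γ x e) f
  have hγadd : ∀ x y z, γ (x + y) z = γ x z + γ y z := fun x y z => by
    show K.B (x + y) _ = _
    rw [map_add]; rfl
  have hγsm : ∀ c x z, γ (sm c x) z = c * γ x z := fun c x z => by
    rcases (show ∀ c : ZMod 2, c = 0 ∨ c = 1 by decide) c with rfl | rfl <;> simp [sm, γ]
  have hsmV : ∀ c x, x ∈ V → sm c x ∈ V := fun c x hx => by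
    unfold Plane.sm; split_ifs
    · exact V.zero_mem
    · exact hx
  have hpr : ∀ x ∈ V, pr x ∈ V ∧ γ (pr x) e = 0 ∧ γ (pr x) f = 0 := by
    intro x hx
    refine ⟨V.add_mem (V.add_mem hx (hsmV _ _ he)) (hsmV _ _ hf), ?_, ?_⟩
    · rw [hγadd, hγadd, hγsm, hγsm, hγs e he, hγc f hf e he, hef, mul_zero, add_zero, mul_one,
        CharTwo.add_self_eq_zero]
    · rw [hγadd, hγadd, hγsm, hγsm, hγs f hf, hef, mul_zero, add_zero, mul_one,
        CharTwo.add_self_eq_zero]
  obtain ⟨g, hg, hge, hgf, hg0⟩ : ∃ g ∈ V, γ g e = 0 ∧ γ g f = 0 ∧ g ≠ 0 := by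
    by_contra h
    push Not at h
    have : Nat.card ↥V ≤ Nat.card (ZMod 2 × ZMod 2) := by
      refine Nat.card_le_card_of_injective (fun x : ↥V => (γ x e, γ x f)) fun x y h' => ?_
      rw [Prod.mk.injEq] at h'
      exact Subtype.ext (K.eq_of_add (h _ (V.add_mem x.2 y.2)
        (by rw [hγadd, h'.1, CharTwo.add_self_eq_zero])
        (by rw [hγadd, h'.2, CharTwo.add_self_eq_zero])))
    rw [hV16, Nat.card_prod, Nat.card_zmod] at this
    omega
  obtain ⟨y, hy, hgy⟩ := hpair g hg hg0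
  obtain ⟨k, hk, hke, hkf, hgk⟩ : ∃ k ∈ V, γ k e = 0 ∧ γ k f = 0 ∧ γ g k = 1 := by
    obtain ⟨h1, h2, h3⟩ := hpr y hy
    refine ⟨pr y, h1, h2, h3, ?_⟩
    rw [hγc g hg _ h1, hγadd, hγadd, hγsm, hγsm, hγc e he g hg, hγc f hf g hg, hge, hgf,
      mul_zero, mul_zero, add_zero, add_zero, hγc y hy g hg, hgy]
  -- the coordinates
  let L : W →+ U := AddMonoidHom.mk'
    (fun x => sm (β x Plane.f₀) e + sm (β x Plane.e₀) f + sm (β x Plane.h₀) g + sm (β x Plane.g₀) k)
    (fun x y => by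
      have hβ : ∀ x y z, β (x + y) z = β x z + β y z := by
        intro x y z
        simp only [Plane.β, Prod.fst_add, Prod.snd_add]
        ring
      simp only [hβ, Plane.add_sm _ (K.add_self _)]
      abel)
  have hLV : ∀ x, L x ∈ V := fun x =>
    V.add_mem (V.add_mem (V.add_mem (hsmV _ _ he) (hsmV _ _ hf)) (hsmV _ _ hg)) (hsmV _ _ hk)
  have hLγ : ∀ x y, γ (L x) (L y) = β x y := by
    intro x y
    have hexp : ∀ z ∈ V, γ (L x) z =
        β x Plane.f₀ * γ e z + β x Plane.e₀ * γ f z + β x Plane.h₀ * γ g z + β x Plane.g₀ * γ k z :=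
      fun z _ => by simp [L, hγadd, hγsm]
    have hr : ∀ z ∈ V, γ z (L y) =
        β y Plane.f₀ * γ z e + β y Plane.e₀ * γ z f + β y Plane.h₀ * γ z g + β y Plane.g₀ * γ z k := by
      intro z hz
      rw [hγc z hz _ (hLV y)]
      simp [L, hγadd, hγsm, hγc z hz _ he, hγc z hz _ hf, hγc z hz _ hg, hγc z hz _ hk]
    rw [hexp _ (hLV y), hr e he, hr f hf, hr g hg, hr k hk, hγs e he, hγs f hf, hγs g hg, hγs k hk,
      hγc f hf e he, hef, hγc e he g hg, hγc e he k hk, hγc f hf g hg, hγc f hf k hk,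
      hγc k hk g hg, hge, hgf, hgk, hke, hkf, Plane.β_coord x y]
    ring
  let A := K.φHom a
  let Ψ : W × W →+ U := L.comp (AddMonoidHom.fst W W) + (A.comp L).comp (AddMonoidHom.snd W W)
  have hΨ : ∀ p, Ψ p = L p.1 + K.φ a (L p.2) := fun p => rfl
  have hL0 : ∀ x, L x = 0 → x = 0 := by
    intro x hx
    by_contra hx0
    obtain ⟨y, hy⟩ := Plane.β_nondeg x hx0
    rw [← hLγ, hx] at hy
    exact hy (by simp [γ])
  have hΨinj : Function.Injective Ψ := by
    rw [injective_iff_map_eq_zero]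
    intro p hp
    obtain ⟨h1, h2⟩ := hzero _ _ (hLV _) (hLV _) ((hΨ p).symm.trans hp)
    exact Prod.ext (hL0 _ h1) (hL0 _ h2)
  have hLsurj : ∀ w ∈ V, ∃ x, L x = w := by
    intro w hw
    have hb : Function.Bijective fun x => (⟨L x, hLV x⟩ : ↥V) := by
      refine (Nat.bijective_iff_injective_and_card _).2 ⟨fun x y h => ?_, by rw [hV16]; simp⟩
      have h' : L x = L y := congrArg Subtype.val h
      exact sub_eq_zero.1 (hL0 _ (by rw [map_sub, h', sub_self]))
    obtain ⟨x, hx⟩ := hb.2 ⟨w, hw⟩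
    exact ⟨x, congrArg Subtype.val hx⟩
  have hΨbij : Function.Bijective Ψ :=
    (Nat.bijective_iff_injective_and_card _).2 ⟨hΨinj, by rw [K.card_U]; simp⟩
  let E := Equiv.ofBijective Ψ hΨbij
  have hB : ∀ p r, K.B (Ψ p) (Ψ r) = bil p r := by
    intro p r
    rw [hΨ, hΨ]
    simp only [map_add, AddMonoidHom.add_apply]
    rw [hiso _ (hLV _) _ (hLV _),
      K.φ_B, hiso _ (hLV _) _ (hLV _), K.B_comm (K.φ a (L p.2)),
      show K.B (L p.1) (K.φ a (L r.2)) = β p.1 r.2 from hLγ _ _,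
      show K.B (L r.1) (K.φ a (L p.2)) = β r.1 p.2 from hLγ _ _]
    simp only [Plane.bil, Plane.β]
    ring
  -- the second factor
  have hθ : ∀ p, ∃ σ, ∀ x, L (act σ x) = K.φ (ι (1, p)) (L x) := by
    intro p
    choose g' hg' using fun x => hLsurj _ (hpV p _ (hLV x))
    have hinj : Function.Injective L := (injective_iff_map_eq_zero L).2 hL0
    let gp : W →+ W := AddMonoidHom.mk' g' fun x y => hinj (by
      rw [map_add, hg', hg', hg', map_add, K.φ_add])
    obtain ⟨σ, hσ⟩ := Plane.exists_perm gp fun x y => by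
      rw [← hLγ, ← hLγ]
      show K.B (L (g' x)) (K.φ a (L (g' y))) = K.B _ (K.φ a _)
      rw [hg', hg', ← K.φ_mul, (hcomm _ p).eq, K.φ_mul, K.φ_B]
    exact ⟨σ, fun x => by rw [hσ]; exact hg' x⟩
  choose θ hθ using hθ
  have hLinj : Function.Injective L := (injective_iff_map_eq_zero L).2 hL0
  have huniq : ∀ σ π, (∀ x, act σ x = act π x) → σ = π := fun σ π h =>
    (inv_mul_eq_one.1 (Plane.act_inj _
      (by rw [Plane.act_mul, h, ← Plane.act_mul, inv_mul_cancel, Plane.act_one])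
      (by rw [Plane.act_mul, h, ← Plane.act_mul, inv_mul_cancel, Plane.act_one])
      (by rw [Plane.act_mul, h, ← Plane.act_mul, inv_mul_cancel, Plane.act_one])
      (by rw [Plane.act_mul, h, ← Plane.act_mul, inv_mul_cancel, Plane.act_one]))).symm
  let Θ : P →* Perm (Fin 6) := MonoidHom.mk' θ fun p p' => huniq _ _ fun x => hLinj (by
    rw [hθ, Plane.act_mul, hθ, hθ, ← K.φ_mul, ← map_mul, Prod.mk_mul_mk, one_mul])
  refine ⟨E.symm, Θ, ?_, ?_, ?_, ?_, ?_⟩
  · rw [injective_iff_map_eq_one]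
    intro p hp
    refine hfaith p fun w hw => ?_
    obtain ⟨x, rfl⟩ := hLsurj w hw
    rw [← hθ, show θ p = 1 from hp, Plane.act_one]
  · intro u v
    apply E.injective
    rw [E.apply_symm_apply]
    show u + v = Ψ (E.symm u + E.symm v)
    rw [map_add, show Ψ (E.symm u) = u from E.apply_symm_apply u,
      show Ψ (E.symm v) = v from E.apply_symm_apply v]
  · intro u v
    obtain ⟨p, rfl⟩ := E.surjective u
    obtain ⟨r, rfl⟩ := E.surjective v
    rw [E.symm_apply_apply, E.symm_apply_apply]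
    exact hB p r
  · intro u
    obtain ⟨p, rfl⟩ := E.surjective u
    rw [E.symm_apply_apply]
    show K.q (Ψ p) = _
    rw [hΨ, K.quad.add, K.φ_q, hq _ (hLV _), hq _ (hLV _), zero_add, zero_add]
    exact hLγ _ _
  · intro σ p u
    obtain ⟨r, rfl⟩ := E.surjective u
    rw [E.symm_apply_apply, Equiv.symm_apply_eq]
    show K.φ (ι (σ, p)) (Ψ r) = Ψ _
    have e1 : ι (σ, p) = ι (σ, 1) * ι (1, p) := by
      rw [← map_mul, Prod.mk_mul_mk, mul_one, one_mul]
    have e2 : K.φ (ι (1, p)) (Ψ r) = Ψ (act (θ p) r.1, act (θ p) r.2) := by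
      rw [hΨ, hΨ, K.φ_add, ← K.φ_mul, ← (hcomm _ p).eq, K.φ_mul, hθ, hθ]
    rw [e1, K.φ_mul, e2]
    show K.φ (ι (σ, 1)) (Ψ (act (θ p) r.1, act (θ p) r.2)) =
      Ψ (Plane.mix σ (act (θ p) r.1, act (θ p) r.2))
    generalize (act (θ p) r.1, act (θ p) r.2) = s
    -- the first factor
    have hgen : ∀ σ π : Perm (Fin 3), (∀ s, K.φ (ι (σ, 1)) (Ψ s) = Ψ (Plane.mix σ s)) →
        (∀ s, K.φ (ι (π, 1)) (Ψ s) = Ψ (Plane.mix π s)) →
        ∀ s, K.φ (ι (σ * π, 1)) (Ψ s) = Ψ (Plane.mix (σ * π) s) := fun σ π h1 h2 s => by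
      rw [Plane.mix_mul, ← h1, ← h2, ← K.φ_mul, ← map_mul, Prod.mk_mul_mk, one_mul]
    have hga : ∀ s, K.φ (ι (swap 0 1 * swap 1 2, 1)) (Ψ s) =
        Ψ (Plane.mix (swap 0 1 * swap 1 2) s) := by
      rintro ⟨x, y⟩
      rw [show Plane.mix (swap 0 1 * swap 1 2) (x, y) = (0 + y, x + y) by rfl, zero_add, hΨ, hΨ,
        ← hadef, K.φ_add, hsum, map_add L, K.φ_add]
      abel
    have hgt : ∀ s, K.φ (ι (swap 0 1, 1)) (Ψ s) = Ψ (Plane.mix (swap 0 1) s) := by
      rintro ⟨x, y⟩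
      rw [show Plane.mix (swap 0 1) (x, y) = (x + y, 0 + y) by rfl, zero_add, hΨ, hΨ, ← hτdef,
        K.φ_add, show K.φ τ (L x) = L x from hLV x, hτV _ (hLV y), map_add L]
      abel
    rcases (show ∀ σ : Perm (Fin 3), σ = swap 0 1 * swap 0 1 ∨ σ = swap 0 1 * swap 1 2 ∨
        σ = (swap 0 1 * swap 1 2) * (swap 0 1 * swap 1 2) ∨ σ = swap 0 1 ∨
        σ = swap 0 1 * (swap 0 1 * swap 1 2) ∨
        σ = swap 0 1 * (swap 0 1 * swap 1 2) * (swap 0 1 * swap 1 2) by decide) σ with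
      rfl | rfl | rfl | rfl | rfl | rfl
    · exact hgen _ _ hgt hgt s
    · exact hga s
    · exact hgen _ _ hga hga s
    · exact hgt s
    · exact hgen _ _ hgt hga s
    · exact hgen _ _ (hgen _ _ hgt hga) hga s

end Cfsg.Agent.H47.Ex9.Frame.Coord
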