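import Cfsg.Agent.H47.Ex9.Decomp

/-!
The quotient `(3 × A₆).2` inside `S₃ × S₆`: group facts, the dimensions moved by the normal subgroup
of order three, and general facts about conjugates of the involution.
-/

set_option autoImplicit false
set_option maxRecDepth 10000

namespace Cfsg.Agent.H47.Ex9

open Subgroup Equiv

/-- Pairs of permutations of equal sign. -/
abbrev Msub : Subgroup (Perm (Fin 3) × Perm (Fin 6)) :=
  MonoidHom.ker (Perm.sign.comp (MonoidHom.fst (Perm (Fin 3)) (Perm (Fin 6))) *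
    Perm.sign.comp (MonoidHom.snd (Perm (Fin 3)) (Perm (Fin 6))))

namespace Odd

theorem mem_Msub {p : Perm (Fin 3) × Perm (Fin 6)} : p ∈ Msub ↔ Perm.sign p.1 = Perm.sign p.2 := by
  rw [MonoidHom.mem_ker]
  show Perm.sign p.1 * Perm.sign p.2 = 1 ↔ _
  rcases Int.units_eq_one_or (Perm.sign p.1) with h | h <;>
    rcases Int.units_eq_one_or (Perm.sign p.2) with h' | h' <;> rw [h, h'] <;> decide

theorem sign_eq (m : ↥Msub) : Perm.sign m.1.1 = Perm.sign m.1.2 := mem_Msub.1 m.2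

/-- The alternating factor. -/
def f : ↥(alternatingGroup (Fin 6)) →* ↥Msub :=
  ((MonoidHom.inr (Perm (Fin 3)) (Perm (Fin 6))).comp (alternatingGroup (Fin 6)).subtype).codRestrict
    Msub fun s => mem_Msub.2 (by simp [Perm.mem_alternatingGroup.1 s.2])

theorem f_val (s : ↥(alternatingGroup (Fin 6))) : (f s : Perm (Fin 3) × Perm (Fin 6)) = ((1 : Perm (Fin 3)), (s : Perm (Fin 6))) := rfl

theorem f_inj : Function.Injective f := fun s t h =>
  Subtype.ext (congrArg Prod.snd (congrArg Subtype.val h) :)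

/-- The normal element of order three. -/
def a : ↥Msub := ⟨(swap 0 1 * swap 1 2, 1), mem_Msub.2 (by decide)⟩

theorem a_pow : a ^ 3 = 1 := by decide

theorem a_ne : a ≠ 1 := fun h => absurd (congrArg Prod.fst (congrArg Subtype.val h)) (by decide)

theorem a_comm (m : ↥Msub) (h : Perm.sign m.1.1 = 1) : Commute a m := by
  have key : ∀ σ : Perm (Fin 3), Perm.sign σ = 1 →
      swap 0 1 * swap 1 2 * σ = σ * (swap 0 1 * swap 1 2) := by decide
  exact Subtype.ext (Prod.ext (key _ h) (by show 1 * m.1.2 = m.1.2 * 1; rw [one_mul, mul_one]))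

theorem a_comm_f (s : ↥(alternatingGroup (Fin 6))) : Commute a (f s) := a_comm _ (by simp [f_val])

theorem a_normal (m : ↥Msub) : m * a * m⁻¹ = a ∨ m * a * m⁻¹ = a * a := by
  have key : ∀ σ : Perm (Fin 3), σ * (swap 0 1 * swap 1 2) * σ⁻¹ = swap 0 1 * swap 1 2 ∨
      σ * (swap 0 1 * swap 1 2) * σ⁻¹ = swap 0 1 * swap 1 2 * (swap 0 1 * swap 1 2) := by decide
  rcases key m.1.1 with h | h
  · exact Or.inl (Subtype.ext (Prod.ext h (by simp [a])))
  · exact Or.inr (Subtype.ext (Prod.ext h (by simp [a])))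

theorem sign_f (s : ↥(alternatingGroup (Fin 6))) : Perm.sign (f s).1.2 = 1 :=
  Perm.mem_alternatingGroup.1 s.2

/-- The subgroup of index two. -/
def M₀ : Subgroup ↥Msub := ((Perm.sign.comp (MonoidHom.snd _ _)).comp Msub.subtype).ker

theorem mem_M₀ {m : ↥Msub} : m ∈ M₀ ↔ Perm.sign m.1.2 = 1 := Iff.rfl

theorem index_M₀ : M₀.index = 2 := by
  rw [M₀, index_ker, MonoidHom.range_eq_top.mpr, card_top, Nat.card_eq_fintype_card,
    Fintype.card_units_int]
  intro u
  rcases Int.units_eq_one_or u with rfl | rfl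
  · exact ⟨1, map_one _⟩
  · exact ⟨⟨(swap 0 1, swap 0 1), mem_Msub.2 (by decide)⟩, by decide⟩

/-- A 2-element of the subgroup of index two lies in the alternating factor. -/
theorem eq_f {m : ↥Msub} (hm : m ∈ M₀) {k : ℕ} (hk : m ^ 2 ^ k = 1) : ∃ s, m = f s := by
  have h6 : Perm.sign m.1.2 = 1 := mem_M₀.1 hm
  refine ⟨⟨m.1.2, Perm.mem_alternatingGroup.2 h6⟩, Subtype.ext (Prod.ext ?_ rfl)⟩
  have key : ∀ σ : Perm (Fin 3), Perm.sign σ = 1 → σ ^ 3 = 1 := by decide
  have h3 := key m.1.1 ((sign_eq m).trans h6)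
  have h2 : m.1.1 ^ 2 ^ k = 1 := by
    have := congrArg Prod.fst (congrArg Subtype.val hk)
    simpa using this
  have hc : Nat.gcd (2 ^ k) 3 = 1 := Nat.Coprime.pow_left k (by decide)
  have := pow_gcd_eq_one.2 ⟨h2, h3⟩
  rwa [hc, pow_one] at this

theorem M₀_eq : ∀ m : ↥Msub, m ∈ M₀ → ∃ i : Fin 3, ∃ s, m = a ^ (i : ℕ) * f s := by
  intro m hm
  have h6 : Perm.sign m.1.2 = 1 := mem_M₀.1 hm
  have key : ∀ σ : Perm (Fin 3), Perm.sign σ = 1 → ∃ i : Fin 3,
      σ = (swap 0 1 * swap 1 2) ^ (i : ℕ) := by decide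
  obtain ⟨i, hi⟩ := key m.1.1 ((sign_eq m).trans h6)
  refine ⟨i, ⟨m.1.2, Perm.mem_alternatingGroup.2 h6⟩, Subtype.ext (Prod.ext ?_ ?_)⟩
  · simp [a, f_val, hi]
  · simp [a, f_val]

/-- The involution inverting the five-cycle. -/
def s₀ : ↥(alternatingGroup (Fin 6)) :=
  ⟨swap 1 4 * swap 2 3, by rw [Perm.mem_alternatingGroup]; decide⟩

/-- An element of order four normalising the five-cycle. -/
def c : ↥Msub := ⟨(swap 0 1, swap 1 2 * swap 2 4 * swap 4 3), mem_Msub.2 (by decide)⟩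

theorem c_spec : c * c = f s₀ ∧ c * c * (c * c) = 1 ∧
    c * f Frame.Coord.five = f Frame.Coord.five * f Frame.Coord.five * c := by decide

theorem s₀_spec : s₀ * s₀ = 1 ∧ s₀ ≠ 1 ∧ s₀ * Frame.Coord.five * s₀ = Frame.Coord.five⁻¹ := by
  decide

theorem card_Msub : Nat.card ↥Msub = 2160 := by
  have h := card_mul_index Msub
  rw [index_ker, MonoidHom.range_eq_top.mpr, card_top, Nat.card_eq_fintype_card (α := ℤˣ),
    Fintype.card_units_int, Nat.card_prod, Nat.card_perm, Nat.card_perm, Nat.card_fin,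
    Nat.card_fin] at h
  · change Nat.card ↥Msub * 2 = 6 * 720 at h
    omega
  intro u
  rcases Int.units_eq_one_or u with rfl | rfl
  · exact ⟨1, map_one _⟩
  · exact ⟨(swap 0 1, 1), by decide⟩

/-- Even involutions are conjugate. -/
theorem exists_conj (s : ↥(alternatingGroup (Fin 6))) (h : s * s = 1) (h1 : s ≠ 1) :
    ∃ m : ↥Msub, m * f s₀ * m⁻¹ = f s := by
  have hp : (s : Perm (Fin 6)) ^ 2 = 1 := by rw [pow_two]; exact congrArg Subtype.val h
  haveI := Fact.mk Nat.prime_two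
  obtain ⟨n, hn⟩ := Perm.cycleType_prime_order (σ := (s : Perm (Fin 6)))
    (by
      rw [orderOf_eq_prime hp fun e => h1 (Subtype.ext e)]
      exact Nat.prime_two)
  rw [orderOf_eq_prime hp fun e => h1 (Subtype.ext e)] at hn
  have hsum := Perm.sum_cycleType (s : Perm (Fin 6))
  rw [hn, Multiset.sum_replicate, smul_eq_mul] at hsum
  have hle : (s : Perm (Fin 6)).support.card ≤ 6 := by
    simpa using Finset.card_le_univ (s : Perm (Fin 6)).support
  have hs := Perm.mem_alternatingGroup.1 s.2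
  rw [Perm.sign_of_cycleType, hn] at hs
  simp only [Multiset.sum_replicate, Multiset.card_replicate, smul_eq_mul] at hs
  have hn1 : n = 1 := by
    have : n ≤ 2 := by omega
    interval_cases n
    · exact absurd hs (by decide)
    · rfl
    · exact absurd hs (by decide)
  have hct : (s : Perm (Fin 6)).cycleType = (s₀ : Perm (Fin 6)).cycleType := by
    rw [hn, hn1]; decide +kernel
  obtain ⟨g, hg⟩ := isConj_iff.1 (Perm.isConj_iff_cycleType_eq.2 hct.symm)
  have hσ : ∃ σ : Perm (Fin 3), Perm.sign σ = Perm.sign g := by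
    rcases Int.units_eq_one_or (Perm.sign g) with e | e
    · exact ⟨1, by rw [e, map_one]⟩
    · exact ⟨swap 0 1, by rw [e]; decide⟩
  obtain ⟨σ, hσ⟩ := hσ
  refine ⟨⟨(σ, g), mem_Msub.2 hσ⟩, Subtype.ext (Prod.ext ?_ hg)⟩
  show σ * 1 * σ⁻¹ = 1
  group

theorem card_cent_s₀ : (Finset.univ.filter fun g : Perm (Fin 6) =>
    g * (s₀ : Perm (Fin 6)) = s₀ * g).card ≤ 16 := by decide +kernel

theorem card_centralizer (s : ↥(alternatingGroup (Fin 6))) (h : s * s = 1) (h1 : s ≠ 1) :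
    Nat.card ↥(centralizer ({f s} : Set ↥Msub)) ≤ 48 := by
  obtain ⟨m, hm⟩ := exists_conj s h h1
  refine le_trans (Nat.card_le_card_of_injective
    (β := ↥(Finset.univ.filter fun g : Perm (Fin 6) => g * (s₀ : Perm (Fin 6)) = s₀ * g) × Fin 3)
    (fun x => (⟨(m⁻¹ * x.1 * m).1.2, ?_⟩, x.1.1.1 0)) ?_) ?_
  · simp only [Finset.mem_filter, Finset.mem_univ, true_and]
    have hc := mem_centralizer_singleton_iff.1 x.2
    have : m⁻¹ * x.1 * m * f s₀ = f s₀ * (m⁻¹ * x.1 * m) := by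
      calc m⁻¹ * x.1 * m * f s₀ = m⁻¹ * (x.1 * (m * f s₀ * m⁻¹)) * m := by group
        _ = m⁻¹ * ((m * f s₀ * m⁻¹) * x.1) * m := by rw [hm, hc]
        _ = f s₀ * (m⁻¹ * x.1 * m) := by group
    exact congrArg (fun t : ↥Msub => t.1.2) this
  · intro x y hxy
    have e1 : (m⁻¹ * x.1 * m).1.2 = (m⁻¹ * y.1 * m).1.2 :=
      congrArg Subtype.val (congrArg Prod.fst hxy)
    have e1' : m.1.2⁻¹ * x.1.1.2 * m.1.2 = m.1.2⁻¹ * y.1.1.2 * m.1.2 := e1
    have e2 := mul_left_cancel (mul_right_cancel e1')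
    have e3 : x.1.1.1 0 = y.1.1.1 0 := congrArg Prod.snd hxy
    have key : ∀ σ π : Perm (Fin 3), Perm.sign σ = Perm.sign π → σ 0 = π 0 → σ = π := by decide
    exact Subtype.ext (Subtype.ext (Prod.ext (key _ _ (by rw [sign_eq, sign_eq, e2]) e3) e2))
  · rw [Nat.card_prod, Nat.card_eq_finsetCard, Nat.card_fin]
    have := card_cent_s₀
    omega

end Odd

namespace Frame.Coord

open Cfsg.Agent.H92
open Cfsg.Agent.H92.ExtraForm (zp zp_inj two_cases)

universe u v

variable {G : Type u} [Group G] [Finite G] {M : Type v} [Group M] [Finite M] {F : Frame G M}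
  {U : Type} [AddCommGroup U] [Fintype U] (K : F.Coord U)

set_option linter.unusedSectionVars false

include K

/-- The intersection of `Q` with the conjugate is totally singular. -/
theorem q_inter {g : G} (hne : g * F.z * g⁻¹ ≠ F.z) {a : G} (ha : a ∈ F.Q ⊓ F.Qc g) :
    K.q (K.ν a) = 0 := by
  rw [← K.sq_iff ha.1]
  rcases F.sq_Q ha.1 with h | h
  · exact h
  exfalso
  have h' : (g⁻¹ * a * g) * (g⁻¹ * a * g) = g⁻¹ * F.z * g := by rw [← h]; group
  rcases F.sq_Q (F.mem_Qc.1 ha.2) with h1 | h1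
  · apply F.z_ne
    have e : F.z = g * ((g⁻¹ * a * g) * (g⁻¹ * a * g)) * g⁻¹ := by rw [h']; group
    rw [e, h1]; group
  · apply hne
    have e : F.z = g * ((g⁻¹ * a * g) * (g⁻¹ * a * g)) * g⁻¹ := by rw [h']; group
    rw [h1] at e
    exact e.symm

/-- The commutators of the trace with the orthogonal vectors are singular. -/
theorem q_moved {g : G} (hu : g * F.z * g⁻¹ ∈ F.Q) (hne : g * F.z * g⁻¹ ≠ F.z) {n : M}
    (hn : n ∈ F.trace g) {y : U} (hy : K.B y (K.ν (g * F.z * g⁻¹)) = 0) :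
    K.q (y + K.φ n y) = 0 := by
  obtain ⟨⟨k, hk⟩, hkc, rfl⟩ := hn
  obtain ⟨b, hb, rfl⟩ := K.ν_surj y
  have hbu : Commute b (g * F.z * g⁻¹) := (K.commute_iff hb hu).2 hy
  have h1 : k * b * k⁻¹ * b⁻¹ ∈ F.Q := mul_mem (F.conj_mem hk hb) (inv_mem hb)
  have h2 : k * b * k⁻¹ * b⁻¹ ∈ F.Qc g := by
    rw [show k * b * k⁻¹ * b⁻¹ = k * (b * k⁻¹ * b⁻¹) by group]
    exact mul_mem hkc (F.Qc_conj hbu ((F.Qc g).inv_mem hkc))
  have h := K.q_inter hne (Subgroup.mem_inf.2 ⟨h1, h2⟩)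
  rwa [K.ν_mul _ (F.conj_mem hk hb) _ (inv_mem hb), K.ν_inv hb, K.ν_conj k hk b hb, add_comm] at h

/-- A lift of an involution commutes with at least half of the preimage of its fixed vectors. -/
theorem card_commuting {m : M} {x : G} (hx : x ∈ F.H) (hxm : F.π ⟨x, hx⟩ = m) :
    Nat.card ↥(K.fix m) ≤ Nat.card ↥(F.Q ⊓ centralizer ({x} : Set G)) := by
  classical
  let A := K.lift (K.fix m)
  let χ : ↥A → ZMod 2 := fun a => if Commute (a : G) x then 0 else 1
  have hA : Nat.card ↥A = 2 * Nat.card ↥(K.fix m) := K.card_lift _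
  have hcase : ∀ a : ↥A, x * a * x⁻¹ = a ∨ x * a * x⁻¹ = a * F.z := fun a => by
    refine K.eq_or_eq a.2.1 (F.conj_mem hx a.2.1) ?_
    rw [K.ν_conj x hx _ a.2.1, hxm]
    exact (show K.φ m (K.ν a) = K.ν a from a.2.2).symm
  let C : Subgroup ↥A := (centralizer ({x} : Set G)).comap A.subtype
  have hC : C.index ≤ 2 := by
    refine le_trans (Nat.card_le_card_of_injective
      (fun q : ↥A ⧸ C => χ q.out) fun p q h => ?_) (le_of_eq (Nat.card_zmod 2))
    rw [← QuotientGroup.out_eq' p, ← QuotientGroup.out_eq' q, QuotientGroup.eq]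
    show ((p.out⁻¹ * q.out : ↥A) : G) ∈ centralizer ({x} : Set G)
    rw [mem_centralizer_singleton_iff]
    by_cases h1 : Commute ((p.out : ↥A) : G) x <;> by_cases h2 : Commute ((q.out : ↥A) : G) x
    · exact (h1.inv_left.mul_left h2).eq
    · simp only [χ, if_pos h1, if_neg h2] at h; exact absurd h (by decide)
    · simp only [χ, if_neg h1, if_pos h2] at h; exact absurd h (by decide)
    · have e1 := (hcase p.out).resolve_left fun e => h1 (mul_inv_eq_iff_eq_mul.1 e).symm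
      have e2 := (hcase q.out).resolve_left fun e => h2 (mul_inv_eq_iff_eq_mul.1 e).symm
      have hz : Commute F.z ((p.out : ↥A) : G) := (F.mem_H.1 (F.Q_le p.out.2.1)).symm
      have e : x * ((p.out⁻¹ * q.out : ↥A) : G) * x⁻¹ = ((p.out⁻¹ * q.out : ↥A) : G) := by
        rw [Subgroup.coe_mul, Subgroup.coe_inv,
          show x * (((p.out : ↥A) : G)⁻¹ * ((q.out : ↥A) : G)) * x⁻¹ =
            (x * ((p.out : ↥A) : G) * x⁻¹)⁻¹ * (x * ((q.out : ↥A) : G) * x⁻¹) by group,
          e1, e2, ← hz.eq]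
        calc (F.z * ((p.out : ↥A) : G))⁻¹ * (((q.out : ↥A) : G) * F.z)
            = ((p.out : ↥A) : G)⁻¹ * (F.z⁻¹ * ((q.out : ↥A) : G) * F.z) := by group
          _ = _ := by
            rw [mul_assoc F.z⁻¹, (F.mem_H.1 (F.Q_le q.out.2.1)).eq, inv_mul_cancel_left]
      exact (mul_inv_eq_iff_eq_mul.1 e).symm
  have h1 := card_mul_index C
  have h2 : Nat.card ↥C ≤ Nat.card ↥(F.Q ⊓ centralizer ({x} : Set G)) :=
    Nat.card_le_card_of_injective (fun c => ⟨((c : ↥A) : G), (c : ↥A).2.1, c.2⟩)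
      fun c d h => Subtype.ext (Subtype.ext (congrArg Subtype.val h :))
  have h3 := Nat.mul_le_mul_left (Nat.card ↥C) hC
  omega

/-- Commutation with the normal element of order three commutes with everything. -/
theorem avg_conj {a n : M} (ha : a ^ 3 = 1) (hn : n * a * n⁻¹ = a ∨ n * a * n⁻¹ = a * a) (v : U) :
    K.avg a 3 (K.φ n v) = K.φ n (K.avg a 3 v) := by
  let f : U →+ U := AddMonoidHom.mk' (fun u => K.φ n u) (K.φ_add n)
  show _ = f (K.avg a 3 v)
  rw [K.avg_apply, K.avg_apply, map_sum]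
  show _ = ∑ i ∈ Finset.range 3, K.φ n (K.φ (a ^ i) v)
  simp only [Finset.sum_range_succ, Finset.sum_range_zero, zero_add, pow_zero, pow_one,
    pow_two, map_one, Perm.one_apply, ← K.φ_mul]
  rcases hn with h | h
  · have e1 : n * a = a * n := mul_inv_eq_iff_eq_mul.1 h
    have e2 : n * (a * a) = a * a * n := by rw [← mul_assoc, e1, mul_assoc, e1, ← mul_assoc]
    rw [e1, e2, one_mul, mul_one]
  · have e1 : n * a = a * a * n := mul_inv_eq_iff_eq_mul.1 h
    have ha4 : a * a * (a * a) = a := by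
      rw [show a * a * (a * a) = a ^ 3 * a by simp [pow_succ, mul_assoc], ha, one_mul]
    have e2 : n * (a * a) = a * n := by rw [← mul_assoc, e1, mul_assoc, e1, ← mul_assoc, ha4]
    rw [e1, e2, one_mul, mul_one]
    abel

/-- Three-element dichotomy. -/
theorem moved_dims (f : ↥(alternatingGroup (Fin 6)) →* M) (hf : Function.Injective f) {a : M}
    (ha3 : a ^ 3 = 1) (ha1 : a ≠ 1) (hcomm : ∀ s, Commute a (f s)) :
    (∀ v, K.φ a v = v → v = 0) ∨
      (Nat.card ↥(K.fixIn ⊤ a) = 64 ∧ Nat.card ↥(K.coinv ⊤ a 3) = 4 ∧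
        ∀ s, ∀ v ∈ K.coinv ⊤ a 3, K.φ (f s) v = v) := by
  classical
  set b := f five with hbdef
  have hb5 : b ^ 5 = 1 := by rw [hbdef, ← map_pow, five_pow, map_one]
  have hb1 : b ≠ 1 := fun e => five_ne (hf (e.trans (map_one f).symm))
  let T : AddSubgroup U := ⊤
  set Ua := K.fixIn T a
  set Uc := K.coinv T a 3
  have hTinv : ∀ n : M, ∀ v ∈ T, K.φ n v ∈ T := fun _ v _ => AddSubgroup.mem_top _
  have hTn : K.Nondeg' T := fun w _ h => K.quad.nondeg w fun v => by
    rw [K.B_comm]; exact h v (AddSubgroup.mem_top v)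
  have hUan : K.Nondeg' Ua := K.nondeg_fixIn ha3 rfl (hTinv a) hTn
  have hUcn : K.Nondeg' Uc := K.nondeg_coinv ha3 rfl (hTinv a) hTn
  have hsplit : Nat.card ↥Ua * Nat.card ↥Uc = 256 := by
    rw [K.card_split ha3 rfl (hTinv a), Nat.card_congr AddSubgroup.topEquiv.toEquiv, K.card_U]
  have hUaS : ∀ n : M, Commute a n → ∀ v ∈ Ua, K.φ n v ∈ Ua := fun n hn v hv => by
    refine ⟨AddSubgroup.mem_top _, ?_⟩
    show K.φ a (K.φ n v) = K.φ n v
    rw [← K.φ_mul, hn.eq, K.φ_mul, show K.φ a v = v from hv.2]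
  have hUcS : ∀ n : M, Commute a n → ∀ v ∈ Uc, K.φ n v ∈ Uc := fun n hn v hv => by
    refine ⟨AddSubgroup.mem_top _, ?_⟩
    show K.avg a 3 (K.φ n v) = 0
    rw [K.avg_conj ha3 (Or.inl (by rw [← hn.eq, mul_inv_cancel_right])) v,
      show K.avg a 3 v = 0 from hv.2, K.φ_zero]
  have hsep : ∀ n : M, (∀ v ∈ Ua, K.φ n v = v) → (∀ v ∈ Uc, K.φ n v = v) → n = 1 := by
    intro n h1 h2
    refine K.φ_inj (Equiv.ext fun v => ?_)
    have e : v = K.avg a 3 v + (v + K.avg a 3 v) := by rw [add_comm, K.add_cancel]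
    rw [map_one, e, K.φ_add, h1 _ ⟨AddSubgroup.mem_top _, K.φ_avg ha3 v⟩, h2 _
      ⟨AddSubgroup.mem_top _, by
        show K.avg a 3 (v + K.avg a 3 v) = 0
        rw [map_add, K.avg_of_fixed rfl (K.φ_avg ha3 v), K.add_self]⟩]
    rfl
  have hUcfix : ∀ v ∈ Uc, K.φ a v = v → v = 0 := fun v hv h => by
    rw [← K.avg_of_fixed (n := a) (k := 3) rfl h]; exact hv.2
  have hUaInv : ∀ s, ∀ v ∈ Ua, K.φ (f s) v ∈ Ua := fun s => hUaS _ (hcomm s)
  have hUcInv : ∀ s, ∀ v ∈ Uc, K.φ (f s) v ∈ Uc := fun s => hUcS _ (hcomm s)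
  have hfixb : ∀ T' : AddSubgroup U, (∀ v ∈ T', K.φ b v ∈ T') →
      ∀ j, Nat.card ↥T' = 2 ^ j → j ≤ 6 → (∀ v ∈ T', K.φ b v = v) ∨
        ∃ i, j = i + 4 ∧ Nat.card ↥(K.fixIn T' b) = 2 ^ i := by
    intro T' hT' j hj hj6
    obtain ⟨i, -, hi⟩ := K.card_eq_two_pow (K.fixIn T' b)
    have h2 := K.card_fixIn_modEq Nat.prime_five hb5 hT'
    have hle : Nat.card ↥(K.fixIn T' b) ≤ Nat.card ↥T' := AddSubgroup.card_le_of_le inf_le_left
    rw [hi, hj] at h2 hle
    have hij := (Nat.pow_le_pow_iff_right (by norm_num : 1 < 2)).1 hle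
    rcases two_pow_mod_five hij hj6 h2 with e | e
    · left
      intro v hv
      have := AddSubgroup.eq_of_le_of_card_ge (inf_le_left : K.fixIn T' b ≤ T')
        (show Nat.card ↥T' ≤ Nat.card ↥(K.fixIn T' b) by rw [hi, hj, e])
      exact (this.ge hv).2
    · exact Or.inr ⟨i, e, hi⟩
  have hzero : ∀ T' : AddSubgroup U, Nat.card ↥(K.fixIn T' b) = 2 ^ 0 →
      ∀ v ∈ T', K.φ b v = v → v = 0 := by
    intro T' h v hv hbv
    have := AddSubgroup.eq_bot_of_card_eq (K.fixIn T' b) (by simpa using h)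
    exact AddSubgroup.mem_bot.1 (this ▸ (⟨hv, hbv⟩ : v ∈ K.fixIn T' b))
  obtain ⟨k, hk8, hk⟩ := K.card_eq_two_pow Uc
  have hk3 : 2 ^ k % 3 = 1 := by
    have h2 := K.card_fixIn_modEq (T := Uc) Nat.prime_three ha3 (hUcS a (Commute.refl a))
    have h1 : Nat.card ↥(K.fixIn Uc a) = 1 := by
      rw [AddSubgroup.card_eq_one, AddSubgroup.eq_bot_iff_forall]
      exact fun v hv => hUcfix v hv.1 hv.2
    rw [h1, hk] at h2
    omega
  have hUa : Nat.card ↥Ua * 2 ^ k = 256 := hk ▸ hsplit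
  interval_cases k
  · exact absurd (hsep a (fun v hv => hv.2) fun v hv => by
      have := AddSubgroup.eq_bot_of_card_eq Uc (by simpa using hk)
      rw [AddSubgroup.mem_bot.1 (this ▸ hv : v ∈ (⊥ : AddSubgroup U)), K.φ_zero]) ha1
  · norm_num at hk3
  · exact Or.inr ⟨by omega, by rw [hk]; norm_num,
      K.trivial_of_five f hUcInv (K.five_trivial f (hUcInv five) (by rw [hk]; norm_num))⟩
  · norm_num at hk3
  · exfalso
    rcases hfixb Uc (hUcInv five) 4 hk (by norm_num) with h | ⟨i, hi, hicard⟩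
    · have hUa16 : Nat.card ↥Ua = 2 ^ 4 := by omega
      rcases hfixb Ua (hUaInv five) 4 hUa16 (by norm_num) with h' | ⟨i, hi, hicard⟩
      · exact hb1 (hsep b h' h)
      · rw [show i = 0 by omega] at hicard
        exact K.false_of_sixteen f hUan hUa16 (hUaInv five) (hzero Ua hicard) (Or.inl hUaInv)
    · rw [show i = 0 by omega] at hicard
      exact K.false_of_sixteen f hUcn hk (hUcInv five) (hzero Uc hicard)
        (Or.inr ⟨a, ha3, hUcS a (Commute.refl a), hUcfix⟩)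
  · norm_num at hk3
  · exfalso
    have hUa4 : Nat.card ↥Ua = 4 := by omega
    have hSaTriv := K.trivial_of_five f hUaInv
      (K.five_trivial f (hUaInv five) (by rw [hUa4]; norm_num))
    rcases hfixb Uc (hUcInv five) 6 hk le_rfl with h | ⟨i, hi, hicard⟩
    · exact hb1 (hsep b (hSaTriv five) h)
    · set Y := K.coinv Uc b 5
      have hY : Nat.card ↥Y = 16 := by
        have := K.card_split (k := 5) hb5 rfl (hUcInv five)
        rw [hicard, hk, show i = 2 by omega] at this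
        change 2 ^ 2 * Nat.card ↥Y = 2 ^ 6 at this
        omega
      have hba : ∀ v, K.avg b 5 (K.φ a v) = K.φ a (K.avg b 5 v) := by
        intro v
        let f' : U →+ U := AddMonoidHom.mk' (fun u => K.φ a u) (K.φ_add a)
        show _ = f' (K.avg b 5 v)
        rw [K.avg_apply, K.avg_apply, map_sum]
        refine Finset.sum_congr rfl fun j _ => ?_
        show _ = K.φ a (K.φ (b ^ j) v)
        rw [← K.φ_mul, ← K.φ_mul, ((hcomm five).pow_right j).eq]
      refine K.false_of_sixteen f (K.nondeg_coinv hb5 rfl (hUcInv five) hUcn) hY ?_ ?_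
        (Or.inr ⟨a, ha3, ?_, fun v hv => hUcfix v hv.1⟩)
      · intro v hv
        refine ⟨hUcInv five v hv.1, ?_⟩
        show K.avg b 5 (K.φ b v) = 0
        rw [K.avg_apply]
        have h2 : K.avg b 5 v = 0 := hv.2
        rw [K.avg_apply] at h2
        rw [← h2]
        simp only [← K.φ_mul, ← pow_succ]
        apply add_right_cancel (b := K.φ (b ^ 0) v)
        rw [← Finset.sum_range_succ' (fun j => K.φ (b ^ j) v), Finset.sum_range_succ, hb5, pow_zero]
      · intro v hv h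
        rw [← K.avg_of_fixed (n := b) (k := 5) rfl h]; exact hv.2
      · intro v hv
        refine ⟨hUcS a (Commute.refl a) v hv.1, ?_⟩
        show K.avg b 5 (K.φ a v) = 0
        rw [hba, show K.avg b 5 v = 0 from hv.2, K.φ_zero]
  · norm_num at hk3
  · left
    intro v hv
    have h1 : Nat.card ↥Ua = 1 := by omega
    exact AddSubgroup.mem_bot.1 (AddSubgroup.card_eq_one.1 h1 ▸
      (⟨AddSubgroup.mem_top v, hv⟩ : v ∈ Ua))

end Frame.Coord

end Cfsg.Agent.H47.Ex9
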