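import Cfsg.Agent.H47.Ex9.OddBase
import Cfsg.Agent.H47.Ex9.Plane

/-!
Tools for both shapes of the quotient `(3 × A₆).2` on the space: a symplectic basis, lifts commuting
with a lift of an involution, and the section of the sign map.
-/

set_option autoImplicit false
set_option maxRecDepth 10000

namespace Cfsg.Agent.H47.Ex9

open Subgroup Equiv

namespace Odd

/-- The sign of a permutation of six points as a permutation of three. -/
def ε : Perm (Fin 6) →* Perm (Fin 3) :=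
  MonoidHom.mk' (fun g => if Perm.sign g = 1 then 1 else swap 0 1) fun g h => by
    rw [map_mul]
    rcases Int.units_eq_one_or (Perm.sign g) with a | a <;>
      rcases Int.units_eq_one_or (Perm.sign h) with b | b <;> simp [a, b, swap_mul_self]

theorem ε_apply (g : Perm (Fin 6)) : ε g = if Perm.sign g = 1 then 1 else swap 0 1 := rfl

theorem sign_ε (g : Perm (Fin 6)) : Perm.sign (ε g) = Perm.sign g := by
  rw [ε_apply]
  rcases Int.units_eq_one_or (Perm.sign g) with a | a <;> rw [a]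
  · simp
  · rw [if_neg (by decide), Perm.sign_swap (by decide)]

/-- A section of the projection onto the six points. -/
def κ : Perm (Fin 6) →* ↥Msub :=
  (ε.prod (MonoidHom.id _)).codRestrict Msub fun g => mem_Msub.2 (sign_ε g)

theorem κ_val (g : Perm (Fin 6)) : ((κ g : ↥Msub) : Perm (Fin 3) × Perm (Fin 6)) = (ε g, g) := rfl

theorem κ_even (s : ↥(alternatingGroup (Fin 6))) : κ (s : Perm (Fin 6)) = f s :=
  Subtype.ext (by rw [κ_val, f_val, ε_apply, if_pos (Perm.mem_alternatingGroup.1 s.2)])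

theorem κ_inj : Function.Injective κ := fun g h e =>
  (congrArg Prod.snd (congrArg Subtype.val e) :)

/-- Every element is a power of the three-element times a value of the section. -/
theorem eq_a_κ (m : ↥Msub) : ∃ i : Fin 3, m = a ^ (i : ℕ) * κ m.1.2 := by
  have key : ∀ σ π : Perm (Fin 3), Perm.sign σ = Perm.sign π → (π = 1 ∨ π = swap 0 1) →
      ∃ i : Fin 3, σ = (swap 0 1 * swap 1 2) ^ (i : ℕ) * π := by decide
  obtain ⟨i, hi⟩ := key m.1.1 (ε m.1.2) ((sign_eq m).trans (sign_ε _).symm) (by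
    rw [ε_apply]
    by_cases h : Perm.sign m.1.2 = 1 <;> simp [h])
  exact ⟨i, Subtype.ext (Prod.ext (by simpa [a, κ_val] using hi) (by simp [a, κ_val]))⟩

end Odd

namespace Frame.Coord

open Cfsg.Agent.H92
open Cfsg.Agent.H92.ExtraForm (zp zp_inj two_cases)
open Plane (W β sm)

universe u v

variable {G : Type u} [Group G] [Finite G] {M : Type v} [Group M] [Finite M] {F : Frame G M}
  {U : Type} [AddCommGroup U] [Fintype U] (K : F.Coord U)

set_option linter.unusedSectionVars false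

include K

/-- A four-dimensional symplectic subgroup is the standard one. -/
theorem exists_iso {V : AddSubgroup U} (hV16 : Nat.card ↥V = 16) (γ : U → U → ZMod 2)
    (hγadd : ∀ x y z, γ (x + y) z = γ x z + γ y z)
    (hγc : ∀ x ∈ V, ∀ y ∈ V, γ x y = γ y x) (hγs : ∀ x ∈ V, γ x x = 0)
    (hγ0 : ∀ x ∈ V, (∀ y ∈ V, γ x y = 0) → x = 0) :
    ∃ L : W →+ U, Function.Injective L ∧ (∀ x, L x ∈ V) ∧ (∀ w ∈ V, ∃ x, L x = w) ∧
      ∀ x y, γ (L x) (L y) = β x y := by
  classical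
  have hγz : ∀ z, γ 0 z = 0 := fun z => by
    have h := hγadd 0 0 z
    rw [add_zero, CharTwo.add_self_eq_zero] at h
    exact h
  have hpair : ∀ x ∈ V, x ≠ 0 → ∃ y ∈ V, γ x y = 1 := by
    intro x hx hx0
    by_contra h
    push Not at h
    exact hx0 (hγ0 x hx fun y hy => (two_cases _).resolve_right (h y hy))
  haveI : Nontrivial ↥V := Finite.one_lt_card_iff_nontrivial.1 (by rw [hV16]; norm_num)
  obtain ⟨⟨e, he⟩, he0⟩ := exists_ne (0 : ↥V)
  obtain ⟨f, hf, hef⟩ := hpair e he fun h => he0 (Subtype.ext h)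
  let pr : U → U := fun x => x + sm (γ x f) e + sm (γ x e) f
  have hγsm : ∀ c x z, γ (sm c x) z = c * γ x z := fun c x z => by
    rcases two_cases c with rfl | rfl <;> simp [sm, hγz]
  have hsmV : ∀ c x, x ∈ V → sm c x ∈ V := fun c x hx => by
    unfold Plane.sm; split_ifs
    · exact V.zero_mem
    · exact hx
  have hpr : ∀ x ∈ V, pr x ∈ V ∧ γ (pr x) e = 0 ∧ γ (pr x) f = 0 := by
    intro x hx
    refine ⟨V.add_mem (V.add_mem hx (hsmV _ _ he)) (hsmV _ _ hf), ?_, ?_⟩
    · rw [hγadd, hγadd, hγsm, hγsm, hγs e he, hγc f hf e he, hef, mul_zero, add_zero, mul_one,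
        CharTwo.add_self_eq_zero]
    · rw [hγadd, hγadd, hγsm, hγsm, hγs f hf, hef, mul_zero, add_zero, mul_one,
        CharTwo.add_self_eq_zero]
  obtain ⟨g, hg, hge, hgf, hg0⟩ : ∃ g ∈ V, γ g e = 0 ∧ γ g f = 0 ∧ g ≠ 0 := by
    by_contra h
    push Not at h
    have : Nat.card ↥V ≤ Nat.card (ZMod 2 × ZMod 2) := by
      refine Nat.card_le_card_of_injective (fun x : ↥V => (γ x e, γ x f)) fun x y h' => ?_
      rw [Prod.mk.injEq] at h'
      exact Subtype.ext (K.eq_of_add (h _ (V.add_mem x.2 y.2)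
        (by rw [hγadd, h'.1, CharTwo.add_self_eq_zero])
        (by rw [hγadd, h'.2, CharTwo.add_self_eq_zero])))
    rw [hV16, Nat.card_prod, Nat.card_zmod] at this
    omega
  obtain ⟨y, hy, hgy⟩ := hpair g hg hg0
  obtain ⟨k, hk, hke, hkf, hgk⟩ : ∃ k ∈ V, γ k e = 0 ∧ γ k f = 0 ∧ γ g k = 1 := by
    obtain ⟨h1, h2, h3⟩ := hpr y hy
    refine ⟨pr y, h1, h2, h3, ?_⟩
    rw [hγc g hg _ h1, hγadd, hγadd, hγsm, hγsm, hγc e he g hg, hγc f hf g hg, hge, hgf,
      mul_zero, mul_zero, add_zero, add_zero, hγc y hy g hg, hgy]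
  let L : W →+ U := AddMonoidHom.mk'
    (fun x => sm (β x Plane.f₀) e + sm (β x Plane.e₀) f + sm (β x Plane.h₀) g + sm (β x Plane.g₀) k)
    (fun x y => by
      have hβ : ∀ x y z, β (x + y) z = β x z + β y z := by
        intro x y z
        simp only [Plane.β, Prod.fst_add, Prod.snd_add]
        ring
      simp only [hβ, Plane.add_sm _ (K.add_self _)]
      abel)
  have hLV : ∀ x, L x ∈ V := fun x =>
    V.add_mem (V.add_mem (V.add_mem (hsmV _ _ he) (hsmV _ _ hf)) (hsmV _ _ hg)) (hsmV _ _ hk)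
  have hLγ : ∀ x y, γ (L x) (L y) = β x y := by
    intro x y
    have hexp : ∀ z ∈ V, γ (L x) z =
        β x Plane.f₀ * γ e z + β x Plane.e₀ * γ f z + β x Plane.h₀ * γ g z + β x Plane.g₀ * γ k z :=
      fun z _ => by simp [L, hγadd, hγsm]
    have hr : ∀ z ∈ V, γ z (L y) =
        β y Plane.f₀ * γ z e + β y Plane.e₀ * γ z f + β y Plane.h₀ * γ z g + β y Plane.g₀ * γ z k := by
      intro z hz
      rw [hγc z hz _ (hLV y)]
      simp [L, hγadd, hγsm, hγc z hz _ he, hγc z hz _ hf, hγc z hz _ hg, hγc z hz _ hk]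
    rw [hexp _ (hLV y), hr e he, hr f hf, hr g hg, hr k hk, hγs e he, hγs f hf, hγs g hg, hγs k hk,
      hγc f hf e he, hef, hγc e he g hg, hγc e he k hk, hγc f hf g hg, hγc f hf k hk,
      hγc k hk g hg, hge, hgf, hgk, hke, hkf, Plane.β_coord x y]
    ring
  have hinj : Function.Injective L := by
    rw [injective_iff_map_eq_zero]
    intro x hx
    by_contra hx0
    obtain ⟨y, hy⟩ := Plane.β_nondeg x hx0
    rw [← hLγ, hx, hγz] at hy
    exact hy rfl
  refine ⟨L, hinj, hLV, fun w hw => ?_, hLγ⟩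
  have hb : Function.Bijective fun x => (⟨L x, hLV x⟩ : ↥V) :=
    (Nat.bijective_iff_injective_and_card _).2
      ⟨fun x y h => hinj (congrArg Subtype.val h :), by rw [hV16]; simp⟩
  obtain ⟨x, hx⟩ := hb.2 ⟨w, hw⟩
  exact ⟨x, congrArg Subtype.val hx⟩

variable {m : M} {x : G}

/-- An element over a moved vector commuting with the lift is singular. -/
theorem q_of_commute (hx : x ∈ F.H) (hxm : F.π ⟨x, hx⟩ = m) (hx2 : x * x = 1 ∨ x * x = F.z)
    {a : G} (ha : a ∈ F.Q) (har : K.ν a ∈ K.rad m) (hc : Commute a x) : K.q (K.ν a) = 0 := by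
  obtain ⟨w, hw⟩ := har
  obtain ⟨b, hb, rfl⟩ := K.ν_surj w
  have hxb := F.conj_mem hx hb
  set r := b⁻¹ * (x * b * x⁻¹) with hr
  have hrQ : r ∈ F.Q := mul_mem (inv_mem hb) hxb
  have hrν : K.ν r = K.ν a := by
    rw [K.ν_mul _ (inv_mem hb) _ hxb, K.ν_inv hb, K.ν_conj x hx b hb, hxm, hw]
  have hxxb : (x * x) * b * (x * x)⁻¹ = b := by
    rw [(z_central (F := F) hb hx2).eq, mul_inv_cancel_right]
  have hrx : x * r * x⁻¹ = r⁻¹ := by
    calc x * r * x⁻¹ = (x * b * x⁻¹)⁻¹ * ((x * x) * b * (x * x)⁻¹) := by rw [hr]; group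
      _ = (x * b * x⁻¹)⁻¹ * b := by rw [hxxb]
      _ = r⁻¹ := by rw [hr]; group
  have hrc : Commute r x := by
    rcases K.eq_or_eq ha hrQ hrν.symm with e | e <;> rw [e]
    · exact hc
    · exact hc.mul_left (F.mem_H.1 hx).symm
  rw [← hrν, ← K.sq_iff hrQ]
  rw [← hrc.eq, mul_inv_cancel_right] at hrx
  exact eq_inv_iff_mul_eq_one.1 hrx

/-- A lift either commutes or picks up the central involution. -/
theorem comm_cases (hx : x ∈ F.H) (hxm : F.π ⟨x, hx⟩ = m) {a : G} (ha : a ∈ F.Q)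
    (hc : K.ν a ∈ K.fix m) : Commute a x ∨ x * a * x⁻¹ = a * F.z := by
  rcases K.eq_or_eq ha (F.conj_mem hx ha)
    (by rw [K.ν_conj x hx a ha, hxm]; exact hc.symm) with e | e
  · exact Or.inl (mul_inv_eq_iff_eq_mul.1 e).symm
  · exact Or.inr e

/-- With a nonsingular moved vector, half the fixed vectors lift into the centraliser. -/
theorem exists_commuting (hm : m * m = 1) (hx : x ∈ F.H) (hxm : F.π ⟨x, hx⟩ = m)
    (hx2 : x * x = 1 ∨ x * x = F.z) {c e : U} (hc : c ∈ K.fix m) (he : e ∈ K.rad m)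
    (hqe : K.q e = 1) :
    ∃ a ∈ F.Q ⊓ centralizer ({x} : Set G), K.ν a = c ∨ K.ν a = c + e := by
  obtain ⟨a, ha, rfl⟩ := K.ν_surj c
  obtain ⟨r, hr, rfl⟩ := K.ν_surj e
  rcases K.comm_cases hx hxm ha hc with h | h
  · exact ⟨a, ⟨ha, mem_centralizer_singleton_iff.2 h⟩, Or.inl rfl⟩
  rcases K.comm_cases hx hxm hr (K.rad_le_fix hm he) with h' | h'
  · rw [K.q_of_commute hx hxm hx2 hr he h'] at hqe
    exact absurd hqe (by decide)
  refine ⟨a * r, ⟨mul_mem ha hr, mem_centralizer_singleton_iff.2 ?_⟩,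
    Or.inr (K.ν_mul a ha r hr)⟩
  refine (mul_inv_eq_iff_eq_mul.1 ?_ : x * (a * r) = a * r * x).symm
  rw [show x * (a * r) * x⁻¹ = (x * a * x⁻¹) * (x * r * x⁻¹) by group, h, h', mul_assoc a,
    ← mul_assoc F.z, (F.mem_H.1 (F.Q_le hr)).symm.eq, mul_assoc r, F.z_sq, mul_one]

/-- The preimage of a 2-subgroup of the quotient is a 2-group. -/
theorem isPGroup_sup (hm : m * m = 1) (hx : x ∈ F.H) (hxm : F.π ⟨x, hx⟩ = m) {A : Subgroup G}
    (hA : A ≤ F.Q) : IsPGroup 2 ↥(A ⊔ zpowers x) := by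
  have hle : A ⊔ zpowers x ≤ F.pre (zpowers m) :=
    sup_le (fun a ha => F.Q_le_pre _ (hA ha))
      (zpowers_le.2 (F.mem_pre.2 ⟨hx, by rw [hxm]; exact mem_zpowers m⟩))
  refine IsPGroup.to_le (IsPGroup.map (IsPGroup.comap_of_ker_isPGroup ?_ F.π ?_) _) hle
  · refine IsPGroup.of_card (p := 2) (n := (orderOf m).log 2) ?_
    have hd : orderOf m ∣ 2 := orderOf_dvd_of_pow_eq_one (by rw [pow_two, hm])
    rw [Nat.card_zpowers]
    rcases (Nat.dvd_prime Nat.prime_two).1 hd with e | e <;> rw [e] <;> norm_num [Nat.log_pow]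
  · exact (F.isPGroup_Q.comap_of_injective _ (subtype_injective _)).to_le
      (H := F.π.ker) fun a ha => (F.π_ker a).1 ha

end Frame.Coord

end Cfsg.Agent.H47.Ex9
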