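import Cfsg.Agent.H47.Ex9.OddTwoDim
import Cfsg.Agent.H47.Ex9.OddTools

/-!
The quotient `(3 × A₆).2` when its normal three-group moves four vectors: the space it fixes has a
vector fixed by the whole quotient.
-/

set_option autoImplicit false
set_option maxRecDepth 10000

namespace Cfsg.Agent.H47.Ex9.Frame.Coord

open Subgroup Equiv Cfsg.Agent.H92
open Cfsg.Agent.H92.ExtraForm (two_cases)

universe u

variable {G : Type u} [Group G] [Finite G] {F : Frame G ↥Msub}
  {U : Type} [AddCommGroup U] [Fintype U] (K : F.Coord U)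

set_option linter.unusedSectionVars false

include K

/-- The vectors fixed by the three-element. -/
abbrev Ua : AddSubgroup U := K.fixIn ⊤ Odd.a

/-- The vectors moved by the three-element. -/
abbrev Uc : AddSubgroup U := K.coinv ⊤ Odd.a 3

/-- The vectors fixed by the five-cycle as well. -/
abbrev C₅ : AddSubgroup U := K.fixIn K.Ua (Odd.f five)

/-- The coinvariant part for the five-cycle. -/
abbrev Y₅ : AddSubgroup U := K.coinv K.Ua (Odd.f five) 5

/-- The hypothesis on the shape. -/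
def TwoDim : Prop :=
  Nat.card ↥K.Ua = 64 ∧ Nat.card ↥K.Uc = 4 ∧ ∀ s, ∀ v ∈ K.Uc, K.φ (Odd.f s) v = v

/-- The projection onto the coinvariant part. -/
def pY : U →+ U := AddMonoidHom.id U + K.avg (Odd.f five) 5

theorem pY_apply (u : U) : K.pY u = u + K.avg (Odd.f five) 5 u := rfl

omit K in
theorem b_pow : (Odd.f five : ↥Msub) ^ 5 = 1 := by rw [← map_pow, five_pow, map_one]

omit K in
theorem b_ne : (Odd.f five : ↥Msub) ≠ 1 := fun h => five_ne (Odd.f_inj (h.trans (map_one Odd.f).symm))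

theorem mem_Ua {v : U} : v ∈ K.Ua ↔ K.φ Odd.a v = v :=
  ⟨fun h => h.2, fun h => ⟨AddSubgroup.mem_top _, h⟩⟩

theorem avg_Ua {v : U} (hv : v ∈ K.Ua) : K.avg Odd.a 3 v = v := K.avg_of_fixed rfl hv.2

theorem avg_mem_Ua (v : U) : K.avg Odd.a 3 v ∈ K.Ua :=
  ⟨AddSubgroup.mem_top _, K.φ_avg Odd.a_pow v⟩

theorem sub_mem_Uc (v : U) : v + K.avg Odd.a 3 v ∈ K.Uc :=
  ⟨AddSubgroup.mem_top _, by
    show K.avg Odd.a 3 (v + K.avg Odd.a 3 v) = 0
    rw [map_add, K.avg_Ua (K.avg_mem_Ua v), K.add_self]⟩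

theorem Ua_inv (n : ↥Msub) {v : U} (hv : v ∈ K.Ua) : K.φ n v ∈ K.Ua := by
  have h := K.avg_mem_Ua (K.φ n v)
  rwa [K.avg_conj Odd.a_pow (Odd.a_normal n), K.avg_Ua hv] at h

theorem Uc_inv (n : ↥Msub) {v : U} (hv : v ∈ K.Uc) : K.φ n v ∈ K.Uc :=
  ⟨AddSubgroup.mem_top _, by
    show K.avg Odd.a 3 (K.φ n v) = 0
    rw [K.avg_conj Odd.a_pow (Odd.a_normal n), show K.avg Odd.a 3 v = 0 from hv.2, K.φ_zero]⟩

theorem B_Ua_Uc {v w : U} (hv : v ∈ K.Ua) (hw : w ∈ K.Uc) : K.B v w = 0 := by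
  rw [← K.avg_Ua hv, K.B_avg Odd.a_pow rfl, show K.avg Odd.a 3 w = 0 from hw.2, map_zero]

theorem nondeg_top : K.Nondeg' (⊤ : AddSubgroup U) := fun w _ h => K.quad.nondeg w fun v => by
  rw [K.B_comm]; exact h v (AddSubgroup.mem_top v)

theorem nondeg_Ua : K.Nondeg' K.Ua :=
  K.nondeg_fixIn Odd.a_pow rfl (fun _ _ => AddSubgroup.mem_top _) K.nondeg_top

theorem nondeg_C₅ : K.Nondeg' K.C₅ :=
  K.nondeg_fixIn b_pow rfl (fun _ hv => K.Ua_inv _ hv) K.nondeg_Ua

theorem nondeg_Y₅ : K.Nondeg' K.Y₅ :=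
  K.nondeg_coinv b_pow rfl (fun _ hv => K.Ua_inv _ hv) K.nondeg_Ua

theorem avg_C₅ {v : U} (hv : v ∈ K.C₅) : K.avg (Odd.f five) 5 v = v := K.avg_of_fixed rfl hv.2

theorem avg_mem_C₅ {v : U} (hv : v ∈ K.Ua) : K.avg (Odd.f five) 5 v ∈ K.C₅ :=
  ⟨K.avg_mem (fun _ h => K.Ua_inv _ h) hv, K.φ_avg b_pow v⟩

theorem pY_mem {v : U} (hv : v ∈ K.Ua) : K.pY v ∈ K.Y₅ :=
  ⟨K.Ua.add_mem hv (K.avg_mem_C₅ hv).1, by
    show K.avg (Odd.f five) 5 (v + _) = 0
    rw [map_add, K.avg_C₅ (K.avg_mem_C₅ hv), K.add_self]⟩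

theorem pY_of_mem {v : U} (hv : v ∈ K.Y₅) : K.pY v = v := by
  rw [K.pY_apply, show K.avg (Odd.f five) 5 v = 0 from hv.2, add_zero]

theorem B_C₅_Y₅ {v w : U} (hv : v ∈ K.C₅) (hw : w ∈ K.Y₅) : K.B v w = 0 := by
  rw [← K.avg_C₅ hv, K.B_avg b_pow rfl, show K.avg (Odd.f five) 5 w = 0 from hw.2, map_zero]

theorem b_Y₅ {v : U} (hv : v ∈ K.Y₅) : K.φ (Odd.f five) v ∈ K.Y₅ := by
  refine ⟨K.Ua_inv _ hv.1, ?_⟩
  show K.avg (Odd.f five) 5 (K.φ (Odd.f five) v) = 0
  have h2 : K.avg (Odd.f five) 5 v = 0 := hv.2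
  rw [K.avg_apply] at h2 ⊢
  rw [← h2]
  simp only [← K.φ_mul, ← pow_succ]
  apply add_right_cancel (b := K.φ ((Odd.f five) ^ 0) v)
  rw [← Finset.sum_range_succ' (fun j => K.φ ((Odd.f five) ^ j) v), Finset.sum_range_succ, b_pow,
    pow_zero]

theorem b_fpf {v : U} (hv : v ∈ K.Y₅) (h : K.φ (Odd.f five) v = v) : v = 0 := by
  rw [← K.avg_of_fixed (n := Odd.f five) (k := 5) rfl h]; exact hv.2

variable {K} (h : K.TwoDim)

include h

theorem TwoDim.sep {n : ↥Msub} (h1 : ∀ v ∈ K.Ua, K.φ n v = v) (h2 : ∀ v ∈ K.Uc, K.φ n v = v) :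
    n = 1 := by
  refine K.φ_inj (Equiv.ext fun v => ?_)
  have e : v = K.avg Odd.a 3 v + (v + K.avg Odd.a 3 v) := by rw [add_comm, K.add_cancel]
  rw [map_one, e, K.φ_add, h1 _ (K.avg_mem_Ua v), h2 _ (K.sub_mem_Uc v)]
  rfl

theorem TwoDim.card_parts : Nat.card ↥K.C₅ = 4 ∧ Nat.card ↥K.Y₅ = 16 := by
  have hinv : ∀ v ∈ K.Ua, K.φ (Odd.f five) v ∈ K.Ua := fun v hv => K.Ua_inv _ hv
  obtain ⟨i, -, hi⟩ := K.card_eq_two_pow K.C₅
  have h2 := K.card_fixIn_modEq Nat.prime_five b_pow hinv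
  have hle : Nat.card ↥K.C₅ ≤ Nat.card ↥K.Ua := AddSubgroup.card_le_of_le inf_le_left
  rw [hi, h.1] at hle
  rw [show K.fixIn K.Ua (Odd.f five) = K.C₅ from rfl, hi, h.1, show (64 : ℕ) = 2 ^ 6 by norm_num] at h2
  have hij := (Nat.pow_le_pow_iff_right (by norm_num : 1 < 2)).1 (hle.trans_eq (show (64 : ℕ) = 2 ^ 6 by norm_num))
  have hsplit : Nat.card ↥K.C₅ * Nat.card ↥K.Y₅ = 64 := (K.card_split b_pow rfl hinv).trans h.1
  rcases two_pow_mod_five hij le_rfl h2 with e | e
  · exfalso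
    refine b_ne (h.sep (fun v hv => ?_) (h.2.2 five))
    exact ((AddSubgroup.eq_of_le_of_card_ge (inf_le_left : K.C₅ ≤ K.Ua)
      (by rw [h.1]; show 64 ≤ Nat.card ↥K.C₅; rw [hi, e]; norm_num)).ge hv).2
  · rw [show i = 2 by omega] at hi
    rw [hi] at hsplit ⊢
    exact ⟨rfl, by omega⟩

theorem TwoDim.s₀_fix {v : U} (hv : v ∈ K.C₅) : K.φ (Odd.f Odd.s₀) v = v := by
  classical
  by_cases hv0 : v = 0
  · rw [hv0, K.φ_zero]
  have hc : ∀ w ∈ K.C₅, K.φ Odd.c w ∈ K.C₅ := by
    intro w hw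
    refine ⟨K.Ua_inv _ hw.1, ?_⟩
    show K.φ (Odd.f five) (K.φ Odd.c w) = K.φ Odd.c w
    set b := Odd.f five
    have h1 : K.φ (b * b) (K.φ Odd.c w) = K.φ Odd.c w := by
      rw [← K.φ_mul, ← Odd.c_spec.2.2, K.φ_mul, show K.φ b w = w from hw.2]
    have h2 : b = b * b * (b * b) * (b * b) := by
      have e := b_pow
      calc b = b * b ^ 5 := by rw [e, mul_one]
        _ = _ := by simp only [pow_succ, pow_zero, one_mul, mul_assoc]
    rw [h2, K.φ_mul, K.φ_mul, h1, h1, h1]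
  have h4 : ∀ w, K.φ Odd.c (K.φ Odd.c (K.φ Odd.c (K.φ Odd.c w))) = w := fun w => by
    rw [← K.φ_mul, ← K.φ_mul Odd.c, ← K.φ_mul, show Odd.c * Odd.c * (Odd.c * Odd.c) = 1 from Odd.c_spec.2.1, map_one]
    rfl
  have hs : K.φ (Odd.f Odd.s₀) v = K.φ Odd.c (K.φ Odd.c v) := by
    rw [← K.φ_mul, Odd.c_spec.1]
  set w₁ := K.φ Odd.c v with hw₁
  set w₂ := K.φ Odd.c w₁ with hw₂
  set w₃ := K.φ Odd.c w₂ with hw₃
  rw [hs]
  have m1 : w₁ ∈ K.C₅ := hc _ hv
  have m2 : w₂ ∈ K.C₅ := hc _ m1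
  have m3 : w₃ ∈ K.C₅ := hc _ m2
  have inj : ∀ p q : U, K.φ Odd.c p = K.φ Odd.c q → p = q := fun p q e => (K.φ _).injective e
  have hne : ∀ w : U, w ≠ 0 → K.φ Odd.c w ≠ 0 := fun w hw e => hw (inj _ _ (e.trans (K.φ_zero _).symm))
  by_contra hne2
  have d01 : v ≠ w₁ := fun e => hne2 (by rw [hw₂, ← e, ← hw₁, ← e])
  have d03 : v ≠ w₃ := fun e => d01 (by
    have e' := congrArg (K.φ Odd.c) e
    rw [← hw₁, hw₃, hw₂, hw₁, h4] at e'
    exact e'.symm)
  have d13 : w₁ ≠ w₃ := fun e => hne2 (inj _ _ e).symm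
  have hS : ({0, v, w₁, w₂, w₃} : Finset U) ⊆ Finset.univ.filter fun w => w ∈ K.C₅ := by
    intro w hw
    simp only [Finset.mem_insert, Finset.mem_singleton] at hw
    simp only [Finset.mem_filter, Finset.mem_univ, true_and]
    rcases hw with rfl | rfl | rfl | rfl | rfl
    exacts [K.C₅.zero_mem, hv, m1, m2, m3]
  have hcard := Finset.card_le_card hS
  have h5 : ({0, v, w₁, w₂, w₃} : Finset U).card = 5 := by
    have n1 := hne v hv0
    have n2 := hne w₁ n1
    have n3 := hne w₂ n2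
    have d12 : w₁ ≠ w₂ := fun e => d01 (inj _ _ e)
    have d23 : w₂ ≠ w₃ := fun e => d12 (inj _ _ e)
    have d02 : v ≠ w₂ := fun e => hne2 e.symm
    rw [Finset.card_insert_of_notMem (by
        simp only [Finset.mem_insert, Finset.mem_singleton, not_or]
        exact ⟨Ne.symm hv0, Ne.symm n1, Ne.symm n2, Ne.symm n3⟩),
      Finset.card_insert_of_notMem (by
        simp only [Finset.mem_insert, Finset.mem_singleton, not_or]
        exact ⟨d01, d02, d03⟩),
      Finset.card_insert_of_notMem (by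
        simp only [Finset.mem_insert, Finset.mem_singleton, not_or]
        exact ⟨d12, d13⟩),
      Finset.card_insert_of_notMem (by simpa using d23), Finset.card_singleton]
  rw [h5, ← Fintype.card_subtype, ← Nat.card_eq_fintype_card, show Nat.card {w // w ∈ K.C₅} = 4 from
    h.card_parts.1] at hcard
  omega

/-- The orbit bound. -/
theorem TwoDim.exists_fixed : ∃ v ∈ K.C₅, v ≠ 0 ∧ ∀ s, K.φ (Odd.f s) v = v := by
  classical
  let Hs : U → Subgroup ↥(alternatingGroup (Fin 6)) := fun v => (K.stab v).comap Odd.f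
  have hHs : ∀ v s, s ∈ Hs v ↔ K.φ (Odd.f s) v = v := fun v s => Iff.rfl
  have horb : ∀ v s t, K.φ (Odd.f s) v = K.φ (Odd.f t) v → s⁻¹ * t ∈ Hs v := fun v s t e => by
    rw [hHs, map_mul, map_inv, K.φ_mul, ← e, ← K.φ_mul, inv_mul_cancel, map_one]; rfl
  have hin : ∀ v ∈ K.C₅, five ∈ Hs v ∧ Odd.s₀ ∈ Hs v := fun v hv => ⟨hv.2, h.s₀_fix hv⟩
  let N : Subgroup ↥(alternatingGroup (Fin 6)) :=
    normalizer (zpowers five : Set ↥(alternatingGroup (Fin 6)))
  let D : Subgroup ↥(alternatingGroup (Fin 6)) := zpowers five ⊔ zpowers Odd.s₀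
  haveI := Fact.mk Nat.prime_five
  have ho5 : orderOf (five : ↥(alternatingGroup (Fin 6))) = 5 := orderOf_eq_prime five_pow five_ne
  have ho2 : orderOf Odd.s₀ = 2 :=
    orderOf_eq_prime (by rw [pow_two]; exact Odd.s₀_spec.1) Odd.s₀_spec.2.1
  have hD10 : 10 ≤ Nat.card ↥D := Nat.le_of_dvd Nat.card_pos (by
    have d5 := card_dvd_of_le (show zpowers five ≤ D from le_sup_left)
    have d2 := card_dvd_of_le (show zpowers Odd.s₀ ≤ D from le_sup_right)
    rw [Nat.card_zpowers, ho5] at d5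
    rw [Nat.card_zpowers, ho2] at d2
    omega)
  have hnorm : ∀ g : ↥(alternatingGroup (Fin 6)),
      g * five * g⁻¹ ∈ zpowers (five : ↥(alternatingGroup (Fin 6))) → g ∈ N := by
    intro g hg
    have hmap : (zpowers (five : ↥(alternatingGroup (Fin 6)))).map (MulAut.conj g).toMonoidHom =
        zpowers five := by
      refine eq_of_le_of_card_ge ?_ (le_of_eq
        (card_map_of_injective (MulAut.conj g).injective).symm)
      rw [MonoidHom.map_zpowers, zpowers_le]
      exact hg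
    refine mem_normalizer_iff.2 fun x => ⟨fun hx => ?_, fun hx => ?_⟩
    · show g * x * g⁻¹ ∈ zpowers five
      rw [← hmap]; exact ⟨x, hx, rfl⟩
    · change g * x * g⁻¹ ∈ zpowers five at hx
      rw [← hmap] at hx
      obtain ⟨y, hy, hyx⟩ := hx
      have : g * y * g⁻¹ = g * x * g⁻¹ := hyx
      rwa [mul_left_cancel (mul_right_cancel this)] at hy
  have hDN : D ≤ N := sup_le (zpowers_le.2 (hnorm _ (by group; exact mem_zpowers _)))
    (zpowers_le.2 (hnorm _ (by
      rw [show Odd.s₀⁻¹ = Odd.s₀ from inv_eq_of_mul_eq_one_right Odd.s₀_spec.1, Odd.s₀_spec.2.2]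
      exact inv_mem (mem_zpowers _))))
  have hN10 : Nat.card ↥N ≤ 10 := Odd.card_normalizer_five
  have hNeq : D = N := eq_of_le_of_card_ge hDN (by omega)
  have hA : Nat.card ↥(alternatingGroup (Fin 6)) = 360 := by
    rw [nat_card_alternatingGroup, Nat.card_fin]; decide
  by_cases hbig : ∃ v ∈ K.C₅, v ≠ 0 ∧ 10 < Nat.card ↥(Hs v)
  · obtain ⟨v, hv, hv0, hH⟩ := hbig
    rcases Odd.index_of_big _ (hin v hv).1 (hin v hv).2 hH with e | e
    · exact ⟨v, hv, hv0, fun s => (hHs v s).1 ((index_eq_one.1 e).symm ▸ Subgroup.mem_top s)⟩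
    -- six points
    set H := Hs v with hHdef
    let ψ := MulAction.toPermHom ↥(alternatingGroup (Fin 6)) (↥(alternatingGroup (Fin 6)) ⧸ H)
    have hα : Nat.card (↥(alternatingGroup (Fin 6)) ⧸ H) = 6 := by rw [← index_eq_card, e]
    haveI := Fintype.ofFinite (↥(alternatingGroup (Fin 6)) ⧸ H)
    let r : ↥(alternatingGroup (Fin 6)) ⧸ H ≃ Fin 6 := Finite.equivFinOfCardEq hα
    let χ : ↥(alternatingGroup (Fin 6)) →* Perm (Fin 6) :=
      r.permCongrHom.toMonoidHom.comp ψ
    haveI := alternatingGroup.isSimpleGroup (α := Fin 6) (by simp)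
    have hχr : ∀ s q, χ s (r q) = r (s • q) := fun s q => by simp [χ, ψ, Equiv.permCongrHom]
    have hχ : Function.Injective χ := by
      rcases χ.normal_ker.eq_bot_or_eq_top with e' | e'
      · exact (MonoidHom.ker_eq_bot_iff χ).1 e'
      · exfalso
        have htop : H = ⊤ := eq_top_iff.2 fun s _ => by
          have h1 := hχr s (QuotientGroup.mk 1)
          rw [show χ s = 1 from MonoidHom.mem_ker.1 (e' ▸ Subgroup.mem_top s), Perm.one_apply] at h1
          have h2 := r.injective h1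
          rw [MulAction.Quotient.smul_mk, smul_eq_mul, mul_one, QuotientGroup.eq, inv_one, one_mul] at h2
          exact h2
        rw [htop, index_top] at e
        omega
    have hsgn : ∀ s, Perm.sign (χ s) = 1 := by
      rcases (Perm.sign.comp χ).normal_ker.eq_bot_or_eq_top with e' | e'
      · have := Nat.card_le_card_of_injective _ ((MonoidHom.ker_eq_bot_iff (Perm.sign.comp χ)).1 e')
        rw [hA, Nat.card_eq_fintype_card, Fintype.card_units_int] at this
        omega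
      · exact fun s => MonoidHom.mem_ker.1 (e' ▸ Subgroup.mem_top s : s ∈ (Perm.sign.comp χ).ker)
    have hsurj : ∀ σ : Perm (Fin 6), Perm.sign σ = 1 → ∃ s, χ s = σ := by
      intro σ hσ
      have := eq_of_le_of_card_ge (show χ.range ≤ alternatingGroup (Fin 6) by
        rintro _ ⟨s, rfl⟩; exact Perm.mem_alternatingGroup.2 (hsgn s))
        (Nat.card_congr (MonoidHom.ofInjective hχ).toEquiv).le
      exact this.ge (Perm.mem_alternatingGroup.2 hσ)
    let o : Fin 6 → U := fun i => K.φ (Odd.f (r.symm i).out) v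
    have ho_act : ∀ s i, K.φ (Odd.f s) (o i) = o (χ s i) := by
      intro s i
      obtain ⟨q, rfl⟩ := r.surjective i
      show K.φ _ (K.φ _ v) = K.φ (Odd.f (r.symm (χ s (r q))).out) v
      rw [hχr, r.symm_apply_apply, r.symm_apply_apply, ← K.φ_mul, ← map_mul]
      obtain ⟨⟨t, ht⟩, et⟩ := QuotientGroup.mk_out_eq_mul H (s * q.out)
      have hq : (s • q) = ((s * q.out : ↥(alternatingGroup (Fin 6))) :
          ↥(alternatingGroup (Fin 6)) ⧸ H) := by
        conv_lhs => rw [← QuotientGroup.out_eq' q]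
        rfl
      rw [hq, et, map_mul Odd.f _ t, K.φ_mul, (hHs v t).1 ht]
    have ho_inj : Function.Injective o := fun i j e' => r.symm.injective (by
      rw [← QuotientGroup.out_eq' (r.symm i), ← QuotientGroup.out_eq' (r.symm j), QuotientGroup.eq]
      exact horb v _ _ e')
    have ho_Ua : ∀ i, o i ∈ K.Ua := fun i => K.Ua_inv _ hv.1
    set c := K.B (o 0) (o 1) with hcdef
    have hconst : ∀ i j, i ≠ j → K.B (o i) (o j) = c := by
      intro i j hij
      obtain ⟨σ, h0, h1, h2⟩ := Odd.alt_double i j hij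
      obtain ⟨s, rfl⟩ := hsurj σ h2
      rw [← h0, ← h1, ← ho_act, ← ho_act, K.φ_B]
    rcases two_cases c with hc | hc
    · exfalso
      let T := AddSubgroup.closure (Set.range o)
      have hiso : ∀ i j, K.B (o i) (o j) = 0 := fun i j => by
        by_cases hij : i = j
        · rw [hij]; exact K.B_self _
        · rw [hconst i j hij, hc]
      have hTT : ∀ a ∈ T, ∀ b ∈ T, K.B a b = 0 := by
        intro a ha b hb
        have h1 : ∀ i, ∀ w ∈ T, K.B (o i) w = 0 := fun i w hw =>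
          (show T ≤ (K.B (o i)).ker from (AddSubgroup.closure_le _).2 (by
            rintro _ ⟨j, rfl⟩; exact hiso i j)) hw
        have h2 : T ≤ (K.B b).ker := (AddSubgroup.closure_le _).2 (by
          rintro _ ⟨i, rfl⟩
          show K.B b (o i) = 0
          rw [K.B_comm]; exact h1 i b hb)
        rw [K.B_comm]; exact h2 ha
      have hTUa : T ≤ K.Ua := (AddSubgroup.closure_le _).2 (by rintro _ ⟨i, rfl⟩; exact ho_Ua i)
      have hT8 : Nat.card ↥T ≤ 8 := by
        have := K.isotropic_sq_le K.nondeg_Ua hTUa hTT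
        rw [h.1] at this
        nlinarith
      have hTinv : ∀ s, ∀ w ∈ T, K.φ (Odd.f s) w ∈ T := fun s w hw => by
        let F' : U →+ U := AddMonoidHom.mk' (fun u => K.φ (Odd.f s) u) (K.φ_add _)
        exact (show T ≤ T.comap F' from (AddSubgroup.closure_le _).2 (by
          rintro _ ⟨i, rfl⟩
          exact AddSubgroup.subset_closure ⟨_, (ho_act s i).symm⟩)) hw
      obtain ⟨σ, h0, -, h2⟩ := Odd.alt_double 1 0 (by decide)
      obtain ⟨s, rfl⟩ := hsurj σ h2
      have := K.trivial_of_five Odd.f hTinv (K.five_trivial Odd.f (hTinv five) hT8) s (o 0)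
        (AddSubgroup.subset_closure ⟨0, rfl⟩)
      rw [ho_act, h0] at this
      exact absurd (ho_inj this) (by decide)
    · refine ⟨∑ i, o i, ?_, ?_, ?_⟩
      · refine ⟨K.Ua.sum_mem fun i _ => ho_Ua i, ?_⟩
        show K.φ (Odd.f five) (∑ i, o i) = ∑ i, o i
        let F' : U →+ U := AddMonoidHom.mk' (fun u => K.φ (Odd.f five) u) (K.φ_add _)
        show F' _ = _
        rw [map_sum]
        exact (Finset.sum_congr rfl fun i _ => ho_act five i).trans (Equiv.sum_comp (χ five) o)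
      · intro e'
        have := congrArg (K.B (o 0)) e'
        rw [map_zero, map_sum, Fin.sum_univ_six, K.B_self, hconst 0 1 (by decide),
          hconst 0 2 (by decide), hconst 0 3 (by decide), hconst 0 4 (by decide),
          hconst 0 5 (by decide), hc] at this
        exact absurd this (by decide)
      · intro s
        let F' : U →+ U := AddMonoidHom.mk' (fun u => K.φ (Odd.f s) u) (K.φ_add _)
        show F' _ = _
        rw [map_sum]
        exact (Finset.sum_congr rfl fun i _ => ho_act s i).trans (Equiv.sum_comp (χ s) o)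
  -- all the stabilisers are small
  · exfalso
    push Not at hbig
    have hHeq : ∀ v ∈ K.C₅, v ≠ 0 → Hs v = N := by
      intro v hv hv0
      have hDH : D ≤ Hs v := sup_le (zpowers_le.2 (hin v hv).1) (zpowers_le.2 (hin v hv).2)
      rw [← hNeq]
      exact (eq_of_le_of_card_ge hDH (by have := hbig v hv hv0; omega)).symm
    have hNidx : N.index = 36 := by
      have h1 := card_mul_index N
      rw [hA, ← hNeq] at h1
      have h2 : Nat.card ↥D = 10 := by rw [hNeq] at hD10 ⊢; omega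
      rw [h2] at h1
      rw [← hNeq]
      omega
    haveI : Nontrivial ↥K.C₅ := Finite.one_lt_card_iff_nontrivial.1 (by rw [h.card_parts.1]; norm_num)
    obtain ⟨⟨v, hv⟩, hv0⟩ := exists_ne (0 : ↥K.C₅)
    obtain ⟨⟨v', hv'⟩, hv'0, hne⟩ : ∃ v' : ↥K.C₅, v' ≠ 0 ∧ v' ≠ ⟨v, hv⟩ := by
      by_contra h'
      push Not at h'
      have : Nat.card ↥K.C₅ ≤ 2 := by
        rw [← Nat.card_zmod 2]
        refine Nat.card_le_card_of_injective
          (fun w : ↥K.C₅ => (if w = 0 then 0 else 1 : ZMod 2)) fun w w' e' => ?_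
        by_cases a : w = 0 <;> by_cases b : w' = 0
        · rw [a, b]
        · simp [a, b] at e'
        · simp [a, b] at e'
        · rw [h' w a, h' w' b]
      rw [h.card_parts.1] at this
      omega
    have hv0' : v ≠ 0 := fun e' => hv0 (Subtype.ext e')
    have hv'0' : v' ≠ 0 := fun e' => hv'0 (Subtype.ext e')
    have hne' : v' ≠ v := fun e' => hne (Subtype.ext e')
    -- the two orbits are disjoint
    have hdis : ∀ s t, K.φ (Odd.f s) v ≠ K.φ (Odd.f t) v' := by
      intro s t e'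
      have hg : K.φ (Odd.f (t⁻¹ * s)) v = v' := by
        rw [map_mul, map_inv, K.φ_mul, e', ← K.φ_mul, inv_mul_cancel, map_one]; rfl
      set g := t⁻¹ * s
      have hbN : g * five * g⁻¹ ∈ N := by
        rw [← hHeq v' hv' hv'0', hHs, map_mul, K.φ_mul, map_mul, K.φ_mul]
        conv_lhs => rw [← hg, ← K.φ_mul (Odd.f g⁻¹), ← map_mul, inv_mul_cancel, map_one, map_one]
        show K.φ (Odd.f g) (K.φ (Odd.f five) v) = v'
        rw [(hHs v five).1 (hin v hv).1, hg]
      have hrel : (zpowers (five : ↥(alternatingGroup (Fin 6)))).relIndex N = 2 := by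
        have hle : zpowers (five : ↥(alternatingGroup (Fin 6))) ≤ N :=
          zpowers_le.2 (hNeq.le ((le_sup_left : zpowers five ≤ D) (mem_zpowers _)))
        have h1 := card_mul_index ((zpowers (five : ↥(alternatingGroup (Fin 6)))).subgroupOf N)
        rw [Nat.card_congr (subgroupOfEquivOfLe hle).toEquiv, Nat.card_zpowers, ho5] at h1
        have hN : Nat.card ↥N = 10 := by rw [hNeq] at hD10; omega
        rw [hN] at h1
        show ((zpowers five).subgroupOf N).index = 2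
        omega
      have hsq := mul_self_mem_of_index_two hrel (⟨_, hbN⟩ : ↥N)
      have hmem : g * five * g⁻¹ ∈ zpowers (five : ↥(alternatingGroup (Fin 6))) := by
        have e5 : g * five * g⁻¹ = (g * five * g⁻¹ * (g * five * g⁻¹)) ^ 3 := by
          calc g * five * g⁻¹ = g * (five * five ^ 5) * g⁻¹ := by rw [five_pow, mul_one]
            _ = _ := by simp only [pow_succ, pow_zero, one_mul]; group
        rw [e5]
        exact pow_mem hsq 3
      have hgN := hnorm g hmem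
      rw [← hHeq v hv hv0', hHs, hg] at hgN
      exact hne' hgN
    let S := {w : ↥K.Ua // w ≠ 0}
    have hle : Nat.card ((↥(alternatingGroup (Fin 6)) ⧸ N) ⊕ (↥(alternatingGroup (Fin 6)) ⧸ N)) ≤
        Nat.card ↥K.Ua := by
      refine Nat.card_le_card_of_injective (Sum.elim
        (fun q => ⟨K.φ (Odd.f q.out) v, K.Ua_inv _ hv.1⟩)
        (fun q => ⟨K.φ (Odd.f q.out) v', K.Ua_inv _ hv'.1⟩)) ?_
      rintro (q | q) (q' | q') e' <;> simp only [Sum.elim_inl, Sum.elim_inr, Subtype.mk.injEq] at e'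
      · rw [← QuotientGroup.out_eq' q, ← QuotientGroup.out_eq' q']
        refine congrArg Sum.inl (QuotientGroup.eq.2 ?_)
        exact (hHeq v hv hv0').le (horb v _ _ e')
      · exact absurd e' (hdis _ _)
      · exact absurd e'.symm (hdis _ _)
      · rw [← QuotientGroup.out_eq' q, ← QuotientGroup.out_eq' q']
        refine congrArg Sum.inr (QuotientGroup.eq.2 ?_)
        exact (hHeq v' hv' hv'0').le (horb v' _ _ e')
    rw [Nat.card_sum, ← index_eq_card, hNidx, h.1] at hle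
    omega

omit h in
/-- In the two-dimensional part a vector is orthogonal only to itself. -/
theorem C₅_perp {v w : U} (hcard : Nat.card ↥K.C₅ = 4) (hv : v ∈ K.C₅) (hv0 : v ≠ 0)
    (hwC : w ∈ K.C₅) (hBw : K.B w v = 0) : w = 0 ∨ w = v := by
  classical
  by_cases h0 : w = 0
  · exact Or.inl h0
  by_cases hwv : w = v
  · exact Or.inr hwv
  exfalso
  refine hv0 (K.nondeg_C₅ v hv fun u hu => ?_)
  have hsub : ({0, v, w, v + w} : Finset U) = Finset.univ.filter fun x => x ∈ K.C₅ := by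
    refine Finset.eq_of_subset_of_card_le (fun x hx => ?_) ?_
    · simp only [Finset.mem_insert, Finset.mem_singleton] at hx
      simp only [Finset.mem_filter, Finset.mem_univ, true_and]
      rcases hx with rfl | rfl | rfl | rfl
      exacts [K.C₅.zero_mem, hv, hwC, K.C₅.add_mem hv hwC]
    · rw [← Fintype.card_subtype, ← Nat.card_eq_fintype_card,
        show Nat.card {x // x ∈ K.C₅} = 4 from hcard]
      have a1 : v + w ≠ 0 := fun e => hwv (K.eq_of_add e).symm
      have a2 : v ≠ v + w := fun e => h0 (left_eq_add.1 e)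
      have a3 : w ≠ v + w := fun e => hv0 (right_eq_add.1 e)
      simp [Ne.symm hv0, Ne.symm h0, Ne.symm a1, Ne.symm hwv, a2, a3]
  have hu' : u ∈ ({0, v, w, v + w} : Finset U) := by rw [hsub]; simp [hu]
  simp only [Finset.mem_insert, Finset.mem_singleton] at hu'
  rcases hu' with rfl | rfl | rfl | rfl
  · exact map_zero _
  · exact K.B_self _
  · rw [K.B_comm]; exact hBw
  · rw [map_add, K.B_self, zero_add, K.B_comm]; exact hBw

omit h in
/-- A fixed vector acts on the coinvariant part through the projection. -/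
theorem proj_eq {n : ↥Msub} {v : U} (hcard : Nat.card ↥K.C₅ = 4) (hv : v ∈ K.C₅) (hv0 : v ≠ 0)
    (hn : K.φ n v = v) {y : U} (hy : y ∈ K.Y₅) :
    K.pY (K.φ n y) = K.φ n y ∨ K.pY (K.φ n y) = K.φ n y + v := by
  have hBw : K.B (K.avg (Odd.f five) 5 (K.φ n y)) v = 0 := by
    rw [K.B_avg b_pow rfl, K.avg_C₅ hv]
    conv_lhs => rw [← hn]
    rw [K.φ_B, K.B_comm, K.B_C₅_Y₅ hv hy]
  rw [K.pY_apply]
  rcases C₅_perp hcard hv hv0 (K.avg_mem_C₅ (K.Ua_inv _ hy.1)) hBw with e | e
  · exact Or.inl (by rw [e, add_zero])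
  · exact Or.inr (by rw [e])

/-- The fixed vectors of the alternating group in the centralised part are nonsingular. -/
theorem TwoDim.q_fixed {v : U} (hv : v ∈ K.C₅) (hv0 : v ≠ 0) (hs : ∀ s, K.φ (Odd.f s) v = v) :
    K.q v = 1 := by
  classical
  refine (two_cases _).resolve_left fun hq => ?_
  obtain ⟨hC, hY⟩ := h.card_parts
  let α := {y : ↥K.Y₅ // y ≠ 0 ∧ K.q y = 0}
  have hπq : ∀ s, ∀ y ∈ K.Y₅, K.q (K.pY (K.φ (Odd.f s) y)) = K.q y := by
    intro s y hy
    rcases proj_eq hC hv hv0 (hs s) hy with e | e <;> rw [e]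
    · exact K.φ_q _ _
    · rw [K.quad.add, K.φ_q, hq, add_zero]
      conv_lhs => rw [← hs s, K.φ_B, K.B_comm, K.B_C₅_Y₅ hv hy, add_zero]
  have hπmul : ∀ s t, ∀ y ∈ K.Y₅,
      K.pY (K.φ (Odd.f s) (K.pY (K.φ (Odd.f t) y))) = K.pY (K.φ (Odd.f (s * t)) y) := by
    intro s t y hy
    rcases proj_eq hC hv hv0 (hs t) hy with e | e <;> rw [e, map_mul Odd.f, K.φ_mul]
    rw [K.φ_add, hs s, map_add, show K.pY v = 0 by rw [K.pY_apply, K.avg_C₅ hv, K.add_self], add_zero]
  have hπ0 : ∀ s, ∀ y ∈ K.Y₅, K.pY (K.φ (Odd.f s) y) = 0 → y = 0 := by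
    intro s y hy e
    have := hπmul s⁻¹ s y hy
    rw [e, K.φ_zero, map_zero, inv_mul_cancel, map_one, map_one, Perm.one_apply, K.pY_of_mem hy] at this
    exact this.symm
  letI : MulAction ↥(alternatingGroup (Fin 6)) α :=
    { smul := fun s y => ⟨⟨K.pY (K.φ (Odd.f s) y.1), K.pY_mem (K.Ua_inv _ y.1.2.1)⟩,
        fun e => y.2.1 (Subtype.ext (hπ0 s _ y.1.2 (congrArg Subtype.val e))),
        (hπq s _ y.1.2).trans y.2.2⟩
      one_smul := fun y => Subtype.ext (Subtype.ext (by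
        show K.pY (K.φ (Odd.f 1) y.1) = y.1
        rw [map_one, map_one, Perm.one_apply, K.pY_of_mem y.1.2]))
      mul_smul := fun s t y => Subtype.ext (Subtype.ext (hπmul s t _ y.1.2).symm) }
  have hα5 : Nat.card α = 5 := by
    rcases K.card_singular K.nondeg_Y₅ hY with e | e
    · exact e
    · exfalso
      let ψ := MulAction.toPermHom ↥(alternatingGroup (Fin 6)) α
      haveI := Fact.mk Nat.prime_five
      have hpow : ψ five ^ 5 ^ 1 = 1 := by rw [pow_one, ← map_pow, five_pow, map_one]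
      have hsup : (ψ five).supportᶜ = ∅ := Finset.eq_empty_of_forall_notMem fun y hy => by
        rw [Finset.mem_compl, Perm.notMem_support] at hy
        have e2 : K.pY (K.φ (Odd.f five) y.1) = y.1 :=
          congrArg (fun b : α => ((b.1 : ↥K.Y₅) : U)) hy
        rw [K.pY_of_mem (K.b_Y₅ y.1.2)] at e2
        exact y.2.1 (Subtype.ext (K.b_fpf y.1.2 e2))
      have := Perm.card_compl_support_modEq (p := 5) (n := 1) hpow
      rw [hsup, Finset.card_empty, ← Nat.card_eq_fintype_card, show Nat.card α = 9 from e] at this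
      exact absurd this (by decide)
  let ψ := MulAction.toPermHom ↥(alternatingGroup (Fin 6)) α
  haveI := alternatingGroup.isSimpleGroup (α := Fin 6) (by simp)
  rcases ψ.normal_ker.eq_bot_or_eq_top with e | e
  · have h1 := Nat.card_le_card_of_injective ψ ((MonoidHom.ker_eq_bot_iff ψ).1 e)
    rw [Nat.card_perm, hα5, nat_card_alternatingGroup, Nat.card_fin] at h1
    norm_num [Nat.factorial] at h1
  · obtain ⟨y⟩ : Nonempty α := by
      have : 0 < Nat.card α := by omega
      exact (Nat.card_pos_iff.1 this).1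
    have h1 : ψ five y = y := by
      rw [show ψ five = 1 from MonoidHom.mem_ker.1 (e ▸ Subgroup.mem_top _)]; rfl
    have e2 : K.pY (K.φ (Odd.f five) y.1) = y.1 := congrArg (fun b : α => ((b.1 : ↥K.Y₅) : U)) h1
    rw [K.pY_of_mem (K.b_Y₅ y.1.2)] at e2
    exact y.2.1 (Subtype.ext (K.b_fpf y.1.2 e2))

/-- A nonsingular vector fixed by the whole quotient. -/
theorem TwoDim.exists_axis :
    ∃ v ∈ K.C₅, v ≠ 0 ∧ K.q v = 1 ∧ ∀ n, K.φ n v = v := by
  classical
  obtain ⟨v, hv, hv0, hs⟩ := h.exists_fixed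
  obtain ⟨hC, hY⟩ := h.card_parts
  refine ⟨v, hv, hv0, h.q_fixed hv hv0 hs, fun n => ?_⟩
  set w := K.φ n v with hw
  have hws : ∀ s, K.φ (Odd.f s) w = w := by
    intro s
    obtain ⟨s', hs'⟩ : ∃ s', Odd.f s' = n⁻¹ * Odd.f s * n := by
      refine ⟨⟨(n.1.2)⁻¹ * s * n.1.2, Perm.mem_alternatingGroup.2 (by
        rw [map_mul, map_mul, map_inv, Perm.mem_alternatingGroup.1 s.2, mul_one, inv_mul_cancel])⟩,
        Subtype.ext (Prod.ext ?_ rfl)⟩
      show (1 : Perm (Fin 3)) = n.1.1⁻¹ * 1 * n.1.1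
      group
    rw [hw, ← K.φ_mul, show Odd.f s * n = n * Odd.f s' by rw [hs']; group, K.φ_mul, hs s']
  have hwC : w ∈ K.C₅ := ⟨K.Ua_inv _ hv.1, hws five⟩
  have hw0 : w ≠ 0 := fun e => hv0 ((K.φ n).injective (e.trans (K.φ_zero n).symm))
  by_contra hne
  have hq := h.q_fixed hv hv0 hs
  have hqw := h.q_fixed hwC hw0 hws
  have hne' : v + w ≠ 0 := fun e => hne (K.eq_of_add e).symm
  have hsum := h.q_fixed (K.C₅.add_mem hv hwC) hne' fun s => by rw [K.φ_add, hs, hws]
  rw [K.quad.add, hq, hqw] at hsum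
  have hB : K.B v w = 1 := by
    rcases two_cases (K.B v w) with e | e
    · rw [e] at hsum; exact absurd hsum (by decide)
    · exact e
  -- then all of `C` is fixed and the coinvariant part is invariant
  refine K.false_of_sixteen Odd.f K.nondeg_Y₅ hY (fun y hy => K.b_Y₅ hy) (fun y hy => K.b_fpf hy)
    (Or.inl fun s y hy => ?_)
  have p1 := proj_eq hC hv hv0 (hs s) hy
  have p2 := proj_eq hC hwC hw0 (hws s) hy
  have hmem := K.pY_mem (K.Ua_inv (Odd.f s) hy.1)
  rcases p1 with e1 | e1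
  · rwa [e1] at hmem
  rcases p2 with e2 | e2
  · rwa [e2] at hmem
  exact absurd (add_left_cancel (e1.symm.trans e2)) (Ne.symm hne)

end Cfsg.Agent.H47.Ex9.Frame.Coord
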