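import Cfsg.Agent.H47.Ex9.OddFixed

/-!
The quotient `(3 × A₆).2` when its normal three-group moves four vectors: the parity criterion at a
transvection of the symplectic space.
-/

set_option autoImplicit false
set_option maxRecDepth 10000

namespace Cfsg.Agent.H47.Ex9

open Subgroup Equiv

namespace Odd

set_option synthInstance.maxSize 2048 in
set_option synthInstance.maxHeartbeats 100000 in
theorem fixers_swap : ∀ σ : Perm (Fin 6),
    (∀ x : Plane.W, Plane.act (swap 0 1) x = x → Plane.act σ x = x) → σ = 1 ∨ σ = swap 0 1 := by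
  decide +kernel

theorem even_moves_one : ∀ σ : Perm (Fin 6), σ * σ = 1 → Perm.sign σ = 1 → σ ≠ 1 →
    ∃ x : Plane.W, Plane.β x (Plane.act σ x) = 1 := by decide +kernel

set_option synthInstance.maxSize 2048 in
set_option synthInstance.maxHeartbeats 100000 in
theorem even_moves_four : ∀ σ : Perm (Fin 6), σ * σ = 1 → Perm.sign σ = 1 → σ ≠ 1 →
    (Finset.univ.image fun x : Plane.W => x + Plane.act σ x).card ≤ 4 := by decide +kernel

theorem fixed_eight :
    8 ≤ (Finset.univ.filter fun x : Plane.W => Plane.act (swap 0 1) x = x).card := by decide +kernel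

/-- The five-cycle as a permutation. -/
def p₅ : Perm (Fin 6) := swap 0 1 * swap 1 2 * swap 2 3 * swap 3 4

/-- An element of order four centralising the standard even involution. -/
def w₁ : Perm (Fin 6) := swap 1 2 * swap 2 4 * swap 4 3 * swap 0 5

/-- A second element centralising it. -/
def w₂ : Perm (Fin 6) := swap 1 4 * swap 0 5

theorem center_six' : ∀ g : Perm (Fin 6),
    (∀ i, g (p₅ i) = p₅ (g i)) → (∀ i, g ((swap 3 4 * swap 4 5 : Perm (Fin 6)) i) =
      (swap 3 4 * swap 4 5 : Perm (Fin 6)) (g i)) → g = 1 := by decide +kernel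

theorem center_six (g : Perm (Fin 6))
    (h1 : g * (Frame.Coord.five : Perm (Fin 6)) = Frame.Coord.five * g)
    (h2 : g * (swap 3 4 * swap 4 5) = swap 3 4 * swap 4 5 * g) : g = 1 :=
  center_six' g (fun i => (congrArg (fun t : Perm (Fin 6) => t i) h1 :))
    (fun i => (congrArg (fun t : Perm (Fin 6) => t i) h2 :))

/-- The standard even involution as a permutation. -/
def p₂ : Perm (Fin 6) := swap 1 4 * swap 2 3

theorem cent_p₂ : (Finset.univ.filter fun g : Perm (Fin 6) =>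
      (∀ i, g (p₂ i) = p₂ (g i)) ∧ Perm.sign g = 1).card ≤ 8 := by decide +kernel

theorem cent_cent' : ∀ σ : Perm (Fin 6), (∀ i, σ (w₁ i) = w₁ (σ i)) → (∀ i, σ (w₂ i) = w₂ (σ i)) →
    σ = 1 ∨ σ = p₂ ∨ σ = swap 0 5 ∨ σ = swap 0 5 * p₂ := by decide +kernel

theorem cent_cent (σ : Perm (Fin 6)) (h1 : ∀ i, σ (w₁ i) = w₁ (σ i)) (h2 : ∀ i, σ (w₂ i) = w₂ (σ i))
    (h3 : Perm.sign σ = 1) : σ = 1 ∨ σ = p₂ := by
  rcases cent_cent' σ h1 h2 with e | e | e | e
  · exact Or.inl e
  · exact Or.inr e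
  · rw [e] at h3; exact absurd h3 (by decide)
  · rw [e] at h3; exact absurd h3 (by decide)

theorem witness_s₀ : p₂ * w₁ = w₁ * p₂ ∧ p₂ * w₂ = w₂ * p₂ ∧
    Perm.sign w₁ = 1 ∧ Perm.sign w₂ = 1 ∧ w₁ * w₂ ≠ w₂ * w₁ := by decide +kernel

theorem s₀_val : (s₀ : Perm (Fin 6)) = p₂ := rfl

theorem card_alt : Nat.card ↥(alternatingGroup (Fin 6)) = 2 ^ 3 * 45 := by
  rw [nat_card_alternatingGroup, Nat.card_fin]; decide

/-- A 2-power dividing a number with odd cofactor is at most the 2-part. -/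
theorem two_le {N : Type*} [Group N] [Finite N] {k m : ℕ} (hN : Nat.card N = 2 ^ k * m)
    (hm : ¬ 2 ∣ m) {X : Subgroup N} (hX : IsPGroup 2 ↥X) : Nat.card ↥X ≤ 2 ^ k := by
  haveI := Fact.mk Nat.prime_two
  obtain ⟨j, hj⟩ := IsPGroup.iff_card.1 hX
  rw [hj]
  refine Nat.le_of_dvd (by positivity) ?_
  have hd := card_subgroup_dvd_card X
  rw [hj, hN] at hd
  exact (Nat.Coprime.pow_left j ((Nat.Prime.coprime_iff_not_dvd Nat.prime_two).2 hm)).dvd_of_dvd_mul_right hd

/-- The centraliser of an even involution has eight elements and one central involution. -/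
theorem cent_involution (s : ↥(alternatingGroup (Fin 6))) (hs : s * s = 1) (hs1 : s ≠ 1) :
    Nat.card ↥(centralizer ({s} : Set ↥(alternatingGroup (Fin 6)))) ≤ 8 ∧
      ∀ t, (∀ g, g * s = s * g → g * t = t * g) → t = 1 ∨ t = s := by
  obtain ⟨m, hm⟩ := exists_conj s hs hs1
  set g := m.1.2 with hg
  have hgs : g * (s₀ : Perm (Fin 6)) * g⁻¹ = s := congrArg (fun t : ↥Msub => t.1.2) hm
  refine ⟨?_, fun t ht => ?_⟩
  · refine le_trans (Nat.card_le_card_of_injective (β := ↥(Finset.univ.filter fun x : Perm (Fin 6) =>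
      (∀ i, x (p₂ i) = p₂ (x i)) ∧ Perm.sign x = 1))
      (fun x => ⟨g⁻¹ * ((x : ↥(alternatingGroup (Fin 6))) : Perm (Fin 6)) * g, ?_⟩) ?_)
      ((Nat.card_eq_finsetCard _).trans_le cent_p₂)
    · simp only [Finset.mem_filter, Finset.mem_univ, true_and]
      refine ⟨fun i => Equiv.ext_iff.1 (?_ :
          g⁻¹ * ((x : ↥(alternatingGroup (Fin 6))) : Perm (Fin 6)) * g * (s₀ : Perm (Fin 6)) =
            s₀ * (g⁻¹ * ((x : ↥(alternatingGroup (Fin 6))) : Perm (Fin 6)) * g)) i,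
        by rw [map_mul, map_mul, map_inv, Perm.mem_alternatingGroup.1 x.1.2, mul_one, inv_mul_cancel]⟩
      have hc : ((x : ↥(alternatingGroup (Fin 6))) : Perm (Fin 6)) * s = s * (x : ↥(alternatingGroup (Fin 6))) :=
        congrArg Subtype.val (mem_centralizer_singleton_iff.1 x.2)
      rw [← hgs] at hc
      generalize ((x : ↥(alternatingGroup (Fin 6))) : Perm (Fin 6)) = y at hc ⊢
      calc g⁻¹ * y * g * (s₀ : Perm (Fin 6)) = g⁻¹ * (y * (g * (s₀ : Perm (Fin 6)) * g⁻¹)) * g := by group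
        _ = g⁻¹ * ((g * (s₀ : Perm (Fin 6)) * g⁻¹) * y) * g := by rw [hc]
        _ = _ := by group
    · intro x y e
      exact Subtype.ext (Subtype.ext (mul_left_cancel (mul_right_cancel (congrArg Subtype.val e :))))
  · set t' := g⁻¹ * (t : Perm (Fin 6)) * g with ht'
    have key : ∀ w : Perm (Fin 6), Perm.sign w = 1 → (s₀ : Perm (Fin 6)) * w = w * s₀ →
        t' * w = w * t' := by
      intro w hw hws
      have hmem : g * w * g⁻¹ ∈ alternatingGroup (Fin 6) := Perm.mem_alternatingGroup.2 (by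
        rw [map_mul, map_mul, map_inv, hw, mul_one, mul_inv_cancel])
      have := congrArg Subtype.val (ht ⟨_, hmem⟩ (Subtype.ext (by
        show g * w * g⁻¹ * s = s * (g * w * g⁻¹)
        rw [← hgs]
        calc g * w * g⁻¹ * (g * (s₀ : Perm (Fin 6)) * g⁻¹) = g * (w * s₀) * g⁻¹ := by group
          _ = g * (s₀ * w) * g⁻¹ := by rw [hws]
          _ = _ := by group)))
      simp only [Subgroup.coe_mul] at this
      calc t' * w = g⁻¹ * ((t : Perm (Fin 6)) * (g * w * g⁻¹)) * g := by rw [ht']; group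
        _ = g⁻¹ * ((g * w * g⁻¹) * t) * g := by rw [this]
        _ = w * t' := by rw [ht']; group
    obtain ⟨h1, h2, e1, e2, -⟩ := witness_s₀
    rcases cent_cent t' (fun i => Equiv.ext_iff.1 (key _ e1 h1) i)
      (fun i => Equiv.ext_iff.1 (key _ e2 h2) i)
      (by rw [ht', map_mul, map_mul, map_inv, Perm.mem_alternatingGroup.1 t.2, mul_one, inv_mul_cancel])
      with e | e
    · exact Or.inl (Subtype.ext (conj_eq_one_iff.1 (show g⁻¹ * (t : Perm (Fin 6)) * g⁻¹⁻¹ = 1 by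
        rw [inv_inv]; exact e)))
    · refine Or.inr (Subtype.ext ?_)
      rw [← hgs, s₀_val, ← e, ht']
      group

/-- Commutative 2-subgroups have at most eight elements. -/
theorem card_comm_le {X : Subgroup ↥Msub} (hX : IsPGroup 2 ↥X)
    (hc : ∀ x ∈ X, ∀ y ∈ X, Commute x y) : Nat.card ↥X ≤ 8 := by
  classical
  haveI := Fact.mk Nat.prime_two
  have hM : Nat.card ↥Msub = 2 ^ 4 * 135 := by rw [card_Msub]; norm_num
  obtain ⟨j, hj⟩ := IsPGroup.iff_card.1 hX
  have hle := two_le hM (by norm_num) hX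
  rw [hj] at hle ⊢
  have hj4 := (Nat.pow_le_pow_iff_right (by norm_num : 1 < 2)).1 hle
  by_contra hlt
  have hj' : j = 4 := by
    by_contra hne
    exact hlt ((Nat.pow_le_pow_right (by norm_num) (show j ≤ 3 by omega)).trans (by norm_num))
  obtain ⟨S, hS⟩ := hX.exists_le_sylow
  let C := centralizer ({s₀} : Set ↥(alternatingGroup (Fin 6)))
  obtain ⟨w1, w2, e1, e2, hne⟩ := witness_s₀
  let p : ↥(alternatingGroup (Fin 6)) := ⟨_, Perm.mem_alternatingGroup.2 e1⟩
  let q : ↥(alternatingGroup (Fin 6)) := ⟨_, Perm.mem_alternatingGroup.2 e2⟩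
  have hp : p ∈ C := mem_centralizer_singleton_iff.2 (Subtype.ext (show w₁ * p₂ = p₂ * w₁ from w1.symm))
  have hq : q ∈ C := mem_centralizer_singleton_iff.2 (Subtype.ext (show w₂ * p₂ = p₂ * w₂ from w2.symm))
  have hC : IsPGroup 2 ↥C := by
    have h4 : orderOf p = 2 ^ (1 + 1) := orderOf_eq_prime_pow (p := 2) (n := 1) (fun e => absurd (congrArg Subtype.val e) (show w₁ ^ 2 ^ 1 ≠ 1 by decide +kernel))
      (Subtype.ext (show w₁ ^ 2 ^ (1 + 1) = 1 by decide +kernel))
    have hd : 4 ∣ Nat.card ↥C := by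
      have := orderOf_dvd_natCard (⟨p, hp⟩ : ↥C)
      rwa [← Subgroup.orderOf_coe, h4] at this
    have h8 := (cent_involution s₀ s₀_spec.1 s₀_spec.2.1).1
    rcases hd with ⟨k, hk⟩
    have hk2 : k = 1 ∨ k = 2 := by
      have : 0 < Nat.card ↥C := Nat.card_pos
      change Nat.card ↥C ≤ 8 at h8
      omega
    rcases hk2 with rfl | rfl
    · exact IsPGroup.of_card (n := 2) (by rw [hk]; norm_num)
    · exact IsPGroup.of_card (n := 3) (by rw [hk]; norm_num)
  obtain ⟨T, hT⟩ := (hC.map f).exists_le_sylow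
  have hSX : X = (S : Subgroup ↥Msub) := eq_of_le_of_card_ge hS (by
    rw [hj, hj']; exact two_le hM (by norm_num) S.2)
  obtain ⟨g, hg⟩ := MulAction.exists_smul_eq ↥Msub S T
  have hST : ∀ t ∈ (T : Subgroup ↥Msub), g⁻¹ * t * g ∈ X := by
    intro t ht
    rw [← hg] at ht
    rw [hSX]
    simpa [Sylow.coe_subgroup_smul, mem_pointwise_smul_iff_inv_smul_mem, mul_assoc] using ht
  have := (hc _ (hST _ (hT ⟨p, hp, rfl⟩)) _ (hST _ (hT ⟨q, hq, rfl⟩))).eq
  apply hne
  have e : f p * f q = f q * f p := by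
    calc f p * f q = g * ((g⁻¹ * f p * g) * (g⁻¹ * f q * g)) * g⁻¹ := by group
      _ = g * ((g⁻¹ * f q * g) * (g⁻¹ * f p * g)) * g⁻¹ := by rw [this]
      _ = f q * f p := by group
  exact (congrArg (fun t : ↥Msub => t.1.2) e :)

end Odd

namespace Frame.Coord

open Cfsg.Agent.H92
open Cfsg.Agent.H92.ExtraForm (zp zp_inj two_cases)
open Plane (W β act sm)

universe u

variable {G : Type u} [Group G] [Finite G] {F : Frame G ↥Msub}
  {U : Type} [AddCommGroup U] [Fintype U] {K : F.Coord U} (h : K.TwoDim)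

set_option linter.unusedSectionVars false

include h

/-- The symplectic space and its action. -/
theorem TwoDim.exists_space : ∃ (v₀ : U) (L : W →+ U) (θ : ↥Msub →* Perm (Fin 6)),
    v₀ ∈ K.C₅ ∧ v₀ ≠ 0 ∧ K.q v₀ = 1 ∧ (∀ n, K.φ n v₀ = v₀) ∧
    Function.Injective L ∧ (∀ x, L x ∈ K.Y₅) ∧ (∀ x y, K.B (L x) (L y) = β x y) ∧
    (∀ n x, L (act (θ n) x) = K.pY (K.φ n (L x))) ∧
    θ Odd.a = 1 ∧ Function.Injective (θ.comp Odd.κ) := by
  classical
  obtain ⟨v₀, hv, hv0, hq, hfix⟩ := h.exists_axis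
  obtain ⟨hC, hY⟩ := h.card_parts
  obtain ⟨L, hLi, hLY, hLs, hLβ⟩ := K.exists_iso hY (fun x y => K.B x y)
    (fun x y z => by rw [map_add]; rfl) (fun x _ y _ => K.B_comm x y) (fun x _ => K.B_self x)
    (fun x hx hz => K.nondeg_Y₅ x hx hz)
  have hθ : ∀ n, ∃ σ, ∀ x, L (act σ x) = K.pY (K.φ n (L x)) := by
    intro n
    choose g' hg' using fun x => hLs _ (K.pY_mem (K.Ua_inv n (hLY x).1))
    let gp : W →+ W := AddMonoidHom.mk' g' fun x y => hLi (by
      rw [map_add, hg', hg', hg', map_add, K.φ_add, map_add])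
    obtain ⟨σ, hσ⟩ := Plane.exists_perm gp fun x y => by
      rw [← hLβ, ← hLβ]
      show K.B (L (g' x)) (L (g' y)) = K.B (L x) (L y)
      rw [hg', hg']
      have hBv : ∀ z, K.B (K.φ n (L z)) v₀ = 0 := fun z => by
        conv_lhs => rw [← hfix n]
        rw [K.φ_B, K.B_comm, K.B_C₅_Y₅ hv (hLY z)]
      rcases proj_eq hC hv hv0 (hfix n) (hLY x) with e | e <;>
        rcases proj_eq hC hv hv0 (hfix n) (hLY y) with e' | e' <;> rw [e, e'] <;>
        simp only [map_add, AddMonoidHom.add_apply, K.φ_B, hBv, K.B_self, K.B_comm v₀, add_zero]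
    exact ⟨σ, fun x => by rw [hσ]; exact hg' x⟩
  choose θ hθ using hθ
  have huniq : ∀ σ π, (∀ x, act σ x = act π x) → σ = π := fun σ π he =>
    (inv_mul_eq_one.1 (Plane.act_inj _
      (by rw [Plane.act_mul, he, ← Plane.act_mul, inv_mul_cancel, Plane.act_one])
      (by rw [Plane.act_mul, he, ← Plane.act_mul, inv_mul_cancel, Plane.act_one])
      (by rw [Plane.act_mul, he, ← Plane.act_mul, inv_mul_cancel, Plane.act_one])
      (by rw [Plane.act_mul, he, ← Plane.act_mul, inv_mul_cancel, Plane.act_one]))).symm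
  have hpY0 : K.pY v₀ = 0 := by rw [K.pY_apply, K.avg_C₅ hv, K.add_self]
  let Θ : ↥Msub →* Perm (Fin 6) := MonoidHom.mk' θ fun n n' => huniq _ _ fun x => hLi (by
    rw [hθ, Plane.act_mul, hθ, hθ, K.φ_mul]
    rcases proj_eq hC hv hv0 (hfix n') (hLY x) with e | e <;> rw [e]
    rw [K.φ_add, hfix, map_add, hpY0, add_zero])
  have hone : ∀ n, (∀ x, K.pY (K.φ n (L x)) = L x) → Θ n = 1 := fun n hn =>
    huniq _ _ fun x => hLi (by rw [Plane.act_one]; exact (hθ n x).trans (hn x))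
  have hinj : Function.Injective (Θ.comp Odd.f) := by
    haveI := alternatingGroup.isSimpleGroup (α := Fin 6) (by simp)
    rcases (Θ.comp Odd.f).normal_ker.eq_bot_or_eq_top with e | e
    · exact (MonoidHom.ker_eq_bot_iff _).1 e
    · exfalso
      have h5 : θ (Odd.f five) = 1 :=
        MonoidHom.mem_ker.1 (e ▸ Subgroup.mem_top five : five ∈ (Θ.comp Odd.f).ker)
      have := hθ (Odd.f five) Plane.e₀
      rw [h5, Plane.act_one, K.pY_of_mem (K.b_Y₅ (hLY _))] at this
      exact absurd (hLi ((K.b_fpf (hLY _) this.symm).trans (map_zero L).symm)) (by decide)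
  refine ⟨v₀, L, Θ, hv, hv0, hq, hfix, hLi, hLY, hLβ, hθ, ?_, ?_⟩
  · exact hone _ fun x => by rw [K.mem_Ua.1 (hLY x).1, K.pY_of_mem (hLY x)]
  · rw [injective_iff_map_eq_one]
    intro g hg
    have hcomm : ∀ s : ↥(alternatingGroup (Fin 6)), g * (s : Perm (Fin 6)) = s * g := by
      intro s
      let t : ↥(alternatingGroup (Fin 6)) := ⟨g * s * g⁻¹ * (s : Perm (Fin 6))⁻¹,
        Perm.mem_alternatingGroup.2 (by
          simp only [map_mul, map_inv, Perm.mem_alternatingGroup.1 s.2, mul_one, inv_one,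
            mul_inv_cancel])⟩
      have h1 : t = 1 := hinj (by
        rw [map_one]
        show Θ (Odd.f t) = 1
        rw [← Odd.κ_even]
        show (Θ.comp Odd.κ) (g * s * g⁻¹ * (s : Perm (Fin 6))⁻¹) = 1
        simp [map_mul, map_inv, hg])
      exact mul_inv_eq_iff_eq_mul.1 (mul_inv_eq_one.1 (congrArg Subtype.val h1 :))
    exact Odd.center_six g (hcomm five)
      (hcomm ⟨swap 3 4 * swap 4 5, Perm.mem_alternatingGroup.2 (by decide)⟩)

variable {v₀ : U} {L : W →+ U} {θ : ↥Msub →* Perm (Fin 6)}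
  (hv : v₀ ∈ K.C₅) (hv0 : v₀ ≠ 0) (hq : K.q v₀ = 1) (hfix : ∀ n, K.φ n v₀ = v₀)
  (hLi : Function.Injective L) (hLY : ∀ x, L x ∈ K.Y₅) (hLβ : ∀ x y, K.B (L x) (L y) = β x y)
  (hθ : ∀ n x, L (act (θ n) x) = K.pY (K.φ n (L x)))
  (hκ : Function.Injective (θ.comp Odd.κ))

include hv hv0 hfix hLi hLY hθ hκ

omit hv hv0 hfix hLi hLY hθ h in
theorem θ_involution (s : ↥(alternatingGroup (Fin 6))) (hs : s * s = 1) (hs1 : s ≠ 1) :
    θ (Odd.f s) * θ (Odd.f s) = 1 ∧ θ (Odd.f s) ≠ 1 ∧ Perm.sign (θ (Odd.f s)) = 1 := by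
  refine ⟨by rw [← map_mul, ← map_mul, hs, map_one, map_one], fun e => hs1 (Subtype.ext ?_), ?_⟩
  · refine hκ ?_
    rw [OneMemClass.coe_one, map_one]
    show θ (Odd.κ (s : Perm (Fin 6))) = 1
    rw [Odd.κ_even]
    exact e
  · haveI := alternatingGroup.isSimpleGroup (α := Fin 6) (by simp)
    let χ := Perm.sign.comp (θ.comp Odd.f)
    rcases χ.normal_ker.eq_bot_or_eq_top with e | e
    · have := Nat.card_le_card_of_injective _ ((MonoidHom.ker_eq_bot_iff χ).1 e)
      rw [Odd.card_alt, Nat.card_eq_fintype_card, Fintype.card_units_int] at this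
      omega
    · exact MonoidHom.mem_ker.1 (e ▸ Subgroup.mem_top s : s ∈ χ.ker)

include hLβ

omit hLβ in
/-- Even involutions move at most four vectors. -/
theorem TwoDim.card_fix_even (s : ↥(alternatingGroup (Fin 6))) (hs : s * s = 1) (hs1 : s ≠ 1) :
    64 ≤ Nat.card ↥(K.fix (Odd.f s)) := by
  classical
  obtain ⟨m, hm⟩ := Odd.exists_conj s hs hs1
  have h0 : 64 ≤ Nat.card ↥(K.fix (Odd.f Odd.s₀)) := by
    obtain ⟨hC, hY⟩ := h.card_parts
    have hσ := θ_involution hκ Odd.s₀ Odd.s₀_spec.1 Odd.s₀_spec.2.1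
    have hrad : ∀ v ∈ K.rad (Odd.f Odd.s₀), v ∈
        (Finset.univ.image fun x : W => x + act (θ (Odd.f Odd.s₀)) x).image L := by
      rintro _ ⟨w, rfl⟩
      set s' := Odd.f Odd.s₀
      set wa := K.avg Odd.a 3 w
      have hwa := K.avg_mem_Ua w
      have h1 : w + K.φ s' w = wa + K.φ s' wa := by
        have e := h.2.2 Odd.s₀ _ (K.sub_mem_Uc w)
        rw [K.φ_add] at e
        apply K.eq_of_add
        rw [show w + K.φ s' w + (wa + K.φ s' wa) = (w + wa) + (K.φ s' w + K.φ s' wa) by abel, e,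
          K.add_self]
      have h2 : wa + K.φ s' wa = K.pY wa + K.φ s' (K.pY wa) := by
        rw [K.pY_apply, K.φ_add, h.s₀_fix (K.avg_mem_C₅ hwa)]
        rw [show ∀ p q r : U, p + q + (r + q) = p + r + (q + q) by intros; abel, K.add_self, add_zero]
      have hy := K.pY_mem hwa
      have hsY : K.φ s' (K.pY wa) ∈ K.Y₅ := by
        refine ⟨K.Ua_inv _ hy.1, K.nondeg_C₅ _ (K.avg_mem_C₅ (K.Ua_inv _ hy.1)) fun c hc => ?_⟩
        rw [K.B_avg b_pow rfl, K.avg_C₅ hc]
        conv_lhs => rw [← h.s₀_fix hc]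
        rw [K.φ_B, K.B_comm, K.B_C₅_Y₅ hc hy]
      obtain ⟨x, hx⟩ : ∃ x, L x = K.pY wa := by
        have hLb : Function.Bijective fun x => (⟨L x, hLY x⟩ : ↥K.Y₅) :=
          (Nat.bijective_iff_injective_and_card _).2
            ⟨fun x y e => hLi (congrArg Subtype.val e :), by rw [hY]; simp⟩
        obtain ⟨x, hx⟩ := hLb.2 ⟨_, hy⟩
        exact ⟨x, congrArg Subtype.val hx⟩
      simp only [Finset.mem_image, Finset.mem_univ, true_and]
      refine ⟨_, ⟨x, rfl⟩, ?_⟩
      rw [h1, h2, map_add, hθ, hx, K.pY_of_mem hsY]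
    have h4 : Nat.card ↥(K.rad (Odd.f Odd.s₀)) ≤ 4 := by
      refine le_trans (Nat.card_le_card_of_injective (β := ↥((Finset.univ.image fun x : W =>
        x + act (θ (Odd.f Odd.s₀)) x).image L)) (fun v => ⟨v, hrad v v.2⟩)
        fun a b e => Subtype.ext (congrArg Subtype.val e :)) ?_
      rw [Nat.card_eq_finsetCard]
      exact Finset.card_image_le.trans (Odd.even_moves_four _ hσ.1 hσ.2.2 hσ.2.1)
    have h5 := K.card_rad_fix (m := Odd.f Odd.s₀) (by rw [← map_mul, Odd.s₀_spec.1, map_one])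
    nlinarith
  refine h0.trans (Nat.card_le_card_of_injective (fun v => ⟨K.φ m v, ?_⟩) fun a b e =>
    Subtype.ext ((K.φ m).injective (congrArg Subtype.val e :)))
  show K.φ (Odd.f s) (K.φ m v) = K.φ m v
  rw [← K.φ_mul, show Odd.f s * m = m * Odd.f Odd.s₀ by rw [← hm]; group, K.φ_mul,
    show K.φ (Odd.f Odd.s₀) v = v from v.2]

omit hκ in
theorem B_v₀ (n : ↥Msub) (x : W) : K.B (K.φ n (L x)) v₀ = 0 := by
  conv_lhs => rw [← hfix n]
  rw [K.φ_B, K.B_comm, K.B_C₅_Y₅ hv (hLY x)]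

/-- No conjugate of `z` lies inside `Q`. -/
theorem TwoDim.no_inside {g : G} (hu : g * F.z * g⁻¹ ∈ F.Q) (hne : g * F.z * g⁻¹ ≠ F.z) : False := by
  classical
  haveI := Fact.mk Nat.prime_two
  obtain ⟨hC, hY⟩ := h.card_parts
  set v := K.ν (g * F.z * g⁻¹) with hvdef
  set X := F.trace g
  set X₂ := X.comap Odd.f with hX₂
  have hX₂p : IsPGroup 2 ↥X₂ := (F.trace_isPGroup g).comap_of_injective _ Odd.f_inj
  have hXM : ∀ n ∈ X, n ∈ Odd.M₀ → ∃ s ∈ X₂, n = Odd.f s := fun n hn hnM => by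
    obtain ⟨k, hk⟩ := F.trace_isPGroup g ⟨n, hn⟩
    obtain ⟨s, rfl⟩ := Odd.eq_f hnM (congrArg Subtype.val hk)
    exact ⟨s, hn, rfl⟩
  have hq' : ∀ (s : ↥(alternatingGroup (Fin 6))), s * s = 1 → s ≠ 1 →
      ∃ y ∈ K.Ua, K.q (y + K.φ (Odd.f s) y) = 1 := by
    intro s hs hs1
    obtain ⟨h1, h2, h3⟩ := θ_involution hκ s hs hs1
    obtain ⟨x, hx⟩ := Odd.even_moves_one _ h1 h3 h2
    refine ⟨L x, (hLY x).1, ?_⟩
    rw [← hLβ, hθ] at hx
    rw [K.quad.add, K.φ_q, CharTwo.add_self_eq_zero, zero_add]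
    rcases proj_eq hC hv hv0 (hfix (Odd.f s)) (hLY x) with e | e <;> rw [e] at hx
    · exact hx
    · rwa [map_add, K.B_comm (L x) v₀, K.B_C₅_Y₅ hv (hLY x), add_zero] at hx
  by_cases hvc : v + K.avg Odd.a 3 v = 0
  · -- inside the fixed part
    have hvUa : v ∈ K.Ua := K.eq_of_add hvc ▸ K.avg_mem_Ua v
    set Hv := (K.stab v).comap Odd.f
    have hXM₀ : ∀ n ∈ X, n ∈ Odd.M₀ := by
      intro n hn
      by_contra hnM
      have ha : Odd.a ∈ K.stab v := K.mem_Ua.1 hvUa
      have h1 := X.mul_mem (K.trace_normal hu hne ha hn) (inv_mem hn)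
      have hodd : Perm.sign n.1.1 ≠ 1 := fun e => hnM (Odd.mem_M₀.2 ((Odd.sign_eq n).symm.trans e))
      have key : ∀ σ : Perm (Fin 3), Perm.sign σ ≠ 1 →
          swap 0 1 * swap 1 2 * σ * (swap 0 1 * swap 1 2)⁻¹ * σ⁻¹ ≠ 1 ∧
          (swap 0 1 * swap 1 2 * σ * (swap 0 1 * swap 1 2)⁻¹ * σ⁻¹) ^ 3 = 1 := by decide
      obtain ⟨k1, k3⟩ := key n.1.1 hodd
      obtain ⟨k, hk⟩ := F.trace_isPGroup g ⟨_, h1⟩
      have h2 := congrArg (fun t : ↥Msub => t.1.1) (congrArg Subtype.val hk :)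
      have h2' : (swap 0 1 * swap 1 2 * n.1.1 * (swap 0 1 * swap 1 2)⁻¹ * n.1.1⁻¹) ^ 2 ^ k =
          (1 : Perm (Fin 3)) := by simpa [Odd.a] using h2
      have := pow_gcd_eq_one.2 ⟨h2', k3⟩
      rw [Nat.Coprime.pow_left k (by decide : Nat.Coprime 2 3), pow_one] at this
      exact k1 this
    have h8 : 8 ≤ Nat.card ↥X₂ := by
      refine (K.card_trace hu hne).trans ?_
      choose s hs hs' using fun n : ↥X => hXM n n.2 (hXM₀ n n.2)
      exact Nat.card_le_card_of_injective (fun n => (⟨s n, hs n⟩ : ↥X₂)) fun p q e =>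
        Subtype.ext (by rw [hs' p, hs' q, show s p = s q from congrArg Subtype.val e])
    have hX8 : Nat.card ↥X₂ = 8 :=
      le_antisymm (Odd.two_le Odd.card_alt (by norm_num) hX₂p) h8
    haveI : Nontrivial ↥X₂ := Finite.one_lt_card_iff_nontrivial.1 (by omega)
    haveI := hX₂p.center_nontrivial
    haveI := hX₂p
    obtain ⟨k, hk⟩ := IsPGroup.iff_card.1 (hX₂p.to_subgroup (center ↥X₂))
    obtain ⟨⟨⟨s, hsX⟩, hsc⟩, hs⟩ := exists_prime_orderOf_dvd_card' (G := ↥(center ↥X₂)) 2 (by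
      rw [hk]
      refine dvd_pow_self 2 fun e => ?_
      rw [e, pow_zero] at hk
      exact absurd hk Finite.one_lt_card.ne')
    have hs2 : s * s = 1 := by
      have := hs ▸ pow_orderOf_eq_one (⟨⟨s, hsX⟩, hsc⟩ : ↥(center ↥X₂))
      rw [pow_two] at this
      exact congrArg (fun t : ↥(center ↥X₂) => ((t : ↥X₂) : ↥(alternatingGroup (Fin 6)))) this
    have hs1 : s ≠ 1 := fun e => by
      rw [orderOf_eq_one_iff.2 (show (⟨⟨s, hsX⟩, hsc⟩ : ↥(center ↥X₂)) = 1 from
        Subtype.ext (Subtype.ext e))] at hs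
      omega
    obtain ⟨hc8, hcu⟩ := Odd.cent_involution s hs2 hs1
    have hXC : X₂ = centralizer ({s} : Set _) := eq_of_le_of_card_ge
      (fun x hx => mem_centralizer_singleton_iff.2
        (congrArg Subtype.val (mem_center_iff.1 hsc ⟨x, hx⟩) :))
      (by rw [hX8]; exact hc8)
    have hHC : Hv ≤ centralizer ({s} : Set _) := by
      intro t ht
      have hn : ∀ x ∈ X₂, t * x * t⁻¹ ∈ X₂ := fun x hx => by
        show Odd.f (t * x * t⁻¹) ∈ X
        rw [map_mul, map_mul, map_inv]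
        exact K.trace_normal hu hne ht hx
      rw [mem_centralizer_singleton_iff]
      rcases hcu (t * s * t⁻¹) (fun w hw => by
        have hwX : w ∈ X₂ := hXC.ge (mem_centralizer_singleton_iff.2 hw)
        have hcw : ∀ x ∈ X₂, x * s = s * x := fun x hx => mem_centralizer_singleton_iff.1 (hXC.le hx)
        -- conjugation permutes `X₂`
        have hmap : X₂.map (MulAut.conj t).toMonoidHom = X₂ := eq_of_le_of_card_ge
          (by rintro _ ⟨x, hx, rfl⟩; exact hn x hx)
          (le_of_eq (card_map_of_injective (MulAut.conj t).injective).symm)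
        rw [← hmap] at hwX
        obtain ⟨x, hx, rfl⟩ := hwX
        show t * x * t⁻¹ * (t * s * t⁻¹) = t * s * t⁻¹ * (t * x * t⁻¹)
        calc t * x * t⁻¹ * (t * s * t⁻¹) = t * (x * s) * t⁻¹ := by group
          _ = t * (s * x) * t⁻¹ := by rw [hcw x hx]
          _ = _ := by group) with e | e
      · exact absurd (conj_eq_one_iff.1 e) hs1
      · exact mul_inv_eq_iff_eq_mul.1 e
    have hH8 := (card_le_of_le hHC).trans hc8
    -- the orbit
    let T := {w : U // w ∈ K.Ua ∧ K.B w v₀ = K.B v v₀}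
    have hT : Nat.card T ≤ 32 := by
      let wv := K.avg (Odd.f five) 5 v
      refine le_trans (Nat.card_le_card_of_injective (β := ↥K.Y₅ × ZMod 2)
        (fun w => (⟨K.pY w.1, K.pY_mem w.2.1⟩,
          if K.avg (Odd.f five) 5 w.1 = wv then 0 else 1)) ?_) ?_
      · intro p q e
        rw [Prod.mk.injEq] at e
        have e1 : K.pY p.1 = K.pY q.1 := congrArg Subtype.val e.1
        have hBv : ∀ r : T, K.B (K.avg (Odd.f five) 5 r.1) v₀ = K.B v v₀ := fun r => by
          rw [K.B_avg b_pow rfl, K.avg_C₅ hv]; exact r.2.2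
        have hval : ∀ r : T, K.avg (Odd.f five) 5 r.1 = wv ∨
            K.avg (Odd.f five) 5 r.1 = wv + v₀ := fun r => by
          rcases C₅_perp hC hv hv0 (K.C₅.add_mem (K.avg_mem_C₅ r.2.1) (K.avg_mem_C₅ hvUa)) (by
            rw [map_add, AddMonoidHom.add_apply, hBv, K.B_avg b_pow rfl, K.avg_C₅ hv,
              CharTwo.add_self_eq_zero]) with e | e
          · exact Or.inl (K.eq_of_add e)
          · exact Or.inr ((K.eq_of_add (by
              rw [show K.avg (Odd.f five) 5 r.1 + (wv + v₀) = K.avg (Odd.f five) 5 r.1 + wv + v₀ from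
                (add_assoc _ _ _).symm]
              exact (congrArg (· + v₀) e).trans (K.add_self _))))
        have e2 : K.avg (Odd.f five) 5 p.1 = K.avg (Odd.f five) 5 q.1 := by
          have e3 := e.2
          by_cases a1 : K.avg (Odd.f five) 5 p.1 = wv <;>
            by_cases a2 : K.avg (Odd.f five) 5 q.1 = wv
          · rw [a1, a2]
          · rw [if_pos a1, if_neg a2] at e3; exact absurd e3 zero_ne_one
          · rw [if_neg a1, if_pos a2] at e3; exact absurd e3 one_ne_zero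
          · rw [(hval p).resolve_left a1, (hval q).resolve_left a2]
        rw [K.pY_apply, K.pY_apply, e2] at e1
        exact Subtype.ext (add_right_cancel e1)
      · rw [Nat.card_prod, hY, Nat.card_zmod]
    have hidx : Hv.index ≤ Nat.card T := by
      rw [index_eq_card]
      refine Nat.card_le_card_of_injective (fun q => ⟨K.φ (Odd.f q.out) v, K.Ua_inv _ hvUa, by
        conv_lhs => rw [← hfix (Odd.f q.out)]
        rw [K.φ_B]⟩) fun q q' e => ?_
      rw [← QuotientGroup.out_eq' q, ← QuotientGroup.out_eq' q', QuotientGroup.eq]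
      show K.φ (Odd.f (q.out⁻¹ * q'.out)) v = v
      have e' : K.φ (Odd.f q.out) v = K.φ (Odd.f q'.out) v := congrArg Subtype.val e
      rw [map_mul, map_inv, K.φ_mul, ← e', ← K.φ_mul, inv_mul_cancel, map_one]
      rfl
    have h1 := card_mul_index Hv
    rw [Odd.card_alt] at h1
    have := Nat.mul_le_mul hH8 (hidx.trans hT)
    omega
  · -- a component moved by the three-element
    obtain ⟨s, hsX, hs2, hs1⟩ : ∃ s ∈ X₂, s * s = 1 ∧ s ≠ 1 := by
      let χ : ↥X →* ℤˣ := (Perm.sign.comp ((MonoidHom.snd _ _).comp Msub.subtype)).comp X.subtype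
      have h1 : Nat.card χ.ker * Nat.card χ.range = Nat.card ↥X := by rw [← index_ker, card_mul_index]
      have h2 : Nat.card χ.range ≤ 2 := (Finite.card_subtype_le _).trans_eq (by
        rw [Nat.card_eq_fintype_card, Fintype.card_units_int])
      choose s hs hs' using fun n : χ.ker => hXM _ (n : ↥X).2 (Odd.mem_M₀.2 (MonoidHom.mem_ker.1 n.2))
      have h3 : Nat.card χ.ker ≤ Nat.card ↥X₂ :=
        Nat.card_le_card_of_injective (fun n => (⟨s n, hs n⟩ : ↥X₂)) fun p q e => by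
          refine Subtype.ext (Subtype.ext ?_)
          rw [hs' p, hs' q, show s p = s q from congrArg Subtype.val e]
      have h4 : 8 ≤ Nat.card ↥X := K.card_trace hu hne
      have h5 := Nat.mul_le_mul_left (Nat.card χ.ker) h2
      obtain ⟨j, hj⟩ := IsPGroup.iff_card.1 hX₂p
      obtain ⟨⟨s, hs⟩, ho⟩ := exists_prime_orderOf_dvd_card' (G := ↥X₂) 2 (by
        rw [hj]
        refine dvd_pow_self 2 fun e => ?_
        rw [e, pow_zero] at hj
        omega)
      refine ⟨s, hs, ?_, fun e => ?_⟩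
      · have := ho ▸ pow_orderOf_eq_one (⟨s, hs⟩ : ↥X₂)
        rw [pow_two] at this
        exact congrArg Subtype.val this
      · rw [orderOf_eq_one_iff.2 (show (⟨s, hs⟩ : ↥X₂) = 1 from Subtype.ext e)] at ho
        omega
    obtain ⟨y, hy, hy1⟩ := hq' s hs2 hs1
    set vc := v + K.avg Odd.a 3 v
    obtain ⟨c, hc, hcv⟩ : ∃ c ∈ K.Uc, K.B c vc = 1 := by
      by_contra h'
      push Not at h'
      exact hvc (K.nondeg_coinv Odd.a_pow rfl (fun _ _ => AddSubgroup.mem_top _) K.nondeg_top _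
        (K.sub_mem_Uc v) fun w hw => (K.B_comm _ _).trans ((two_cases _).resolve_right (h' w hw)))
    have hcv' : K.B c v = 1 := by
      have e : v = K.avg Odd.a 3 v + vc := by
        show v = _ + (v + _)
        rw [add_comm, K.add_cancel]
      rw [e, map_add, K.B_comm c, K.B_Ua_Uc (K.avg_mem_Ua v) hc, hcv, zero_add]
    obtain ⟨y', hy', hye⟩ : ∃ y', K.B y' v = 0 ∧ y' + K.φ (Odd.f s) y' = y + K.φ (Odd.f s) y := by
      rcases two_cases (K.B y v) with e | e
      · exact ⟨y, e, rfl⟩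
      · refine ⟨y + c, by rw [map_add, AddMonoidHom.add_apply, e, hcv']; exact CharTwo.add_self_eq_zero _, ?_⟩
        rw [K.φ_add, h.2.2 s c hc,
          show y + c + (K.φ (Odd.f s) y + c) = y + K.φ (Odd.f s) y + (c + c) by abel, K.add_self,
          add_zero]
    have := K.q_moved hu hne (n := Odd.f s) hsX hy'
    rw [hye, hy1] at this
    exact absurd this one_ne_zero

omit h hv hv0 hfix hLi hLY hLβ hθ hκ in
theorem pow_a_swap : ∀ i : Fin 3, ∀ σ : Perm (Fin 3), Perm.sign σ = -1 →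
    (swap 0 1 * swap 1 2) ^ (i : ℕ) * σ * σ = σ * ((swap 0 1 * swap 1 2) ^ (i : ℕ) * σ) →
    (i : ℕ) = 0 := by decide

end Frame.Coord

end Cfsg.Agent.H47.Ex9
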