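import Cfsg.Agent.H47.Ex9.OddSmallCase

/-!
The quotient `(3 × A₆).2` when its normal three-group moves four vectors: the contradiction.
-/

set_option autoImplicit false
set_option maxRecDepth 10000

namespace Cfsg.Agent.H47.Ex9

open Subgroup Equiv

namespace Odd

theorem odd_cases : ∀ i : Fin 3, ∀ σ : Perm (Fin 3), Perm.sign σ = -1 →
    Commute ((swap 0 1 * swap 1 2) ^ (i : ℕ) * σ) σ → (i : ℕ) = 0 := by
  intro i σ h
  show _ * _ = _ * _ → _
  revert i σ
  decide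

theorem even_cases : ∀ i : Fin 3,
    ((swap 0 1 * swap 1 2 : Perm (Fin 3)) ^ (i : ℕ)) * (swap 0 1 * swap 1 2) ^ (i : ℕ) = 1 →
      (i : ℕ) = 0 := by decide

open scoped commutatorElement in
theorem comm_mem (x y : ↥Msub) : ⁅x, y⁆ ∈ M₀ := by
  refine MonoidHom.mem_ker.2 ?_
  rw [map_commutatorElement, commutatorElement_eq_one_iff_commute]
  exact Commute.all _ _

theorem fixed_pair : Plane.act (swap 0 1) Plane.g₀ = Plane.g₀ ∧
    Plane.act (swap 0 1) Plane.h₀ = Plane.h₀ ∧ Plane.β Plane.g₀ Plane.h₀ = 1 := by decide +kernel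

end Odd

namespace Frame.Coord

open Cfsg.Agent.H92
open Cfsg.Agent.H92.ExtraForm (zp zp_inj two_cases)
open Plane (W β act sm)
open scoped commutatorElement

universe u

variable {G : Type u} [Group G] [Finite G] {F : Frame G ↥Msub}
  {U : Type} [AddCommGroup U] [Fintype U] {K : F.Coord U} (h : K.TwoDim)
  {v₀ : U} {L : W →+ U} {θ : ↥Msub →* Perm (Fin 6)}
  (hv : v₀ ∈ K.C₅) (hv0 : v₀ ≠ 0) (hq : K.q v₀ = 1) (hfix : ∀ n, K.φ n v₀ = v₀)
  (hLi : Function.Injective L) (hLY : ∀ x, L x ∈ K.Y₅) (hLβ : ∀ x y, K.B (L x) (L y) = β x y)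
  (hθ : ∀ n x, L (act (θ n) x) = K.pY (K.φ n (L x))) (hθa : θ Odd.a = 1)
  (hκ : Function.Injective (θ.comp Odd.κ))
  {t : Perm (Fin 6)} (ht : θ (Odd.κ t) = swap 0 1) (hts : Perm.sign t = -1)

set_option linter.unusedSectionVars false

include h hv hv0 hq hfix hLi hLY hLβ hθ hθa hκ ht hts

omit h hv hv0 hq hfix hLi hLY hLβ hθ hθa hts in
theorem m_sq : Odd.κ t * Odd.κ t = 1 := by
  have e : t * t = 1 := hκ (by
    show θ (Odd.κ (t * t)) = θ (Odd.κ 1)
    rw [map_mul, map_mul, ht, swap_mul_self, map_one, map_one])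
  rw [← map_mul, e, map_one]

omit h hv hv0 hq hfix hLi hLY hLβ hθ hθa hκ ht in
theorem m_notMem : Odd.κ t ∉ Odd.M₀ := fun e => by
  have := Odd.mem_M₀.1 e
  rw [Odd.κ_val] at this
  rw [show Perm.sign t = 1 from this] at hts
  exact absurd hts (by decide)

omit h hv hv0 hq hfix hLi hLY hLβ hθ hts in
theorem image_cases {n : ↥Msub} (hn : θ n = 1 ∨ θ n = swap 0 1) :
    ∃ i : Fin 3, n = Odd.a ^ (i : ℕ) ∨ n = Odd.a ^ (i : ℕ) * Odd.κ t := by
  obtain ⟨i, hi⟩ := Odd.eq_a_κ n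
  refine ⟨i, ?_⟩
  have e : θ n = θ (Odd.κ n.1.2) := by rw [hi, map_mul, map_pow, hθa, one_pow, one_mul]; rw [← hi]
  rw [e] at hn
  rcases hn with e1 | e1
  · left
    have : n.1.2 = 1 := hκ (by show θ (Odd.κ n.1.2) = θ (Odd.κ 1); rw [e1, map_one, map_one])
    rw [this, map_one, mul_one] at hi
    exact hi
  · right
    have : n.1.2 = t := hκ (by show θ (Odd.κ n.1.2) = θ (Odd.κ t); rw [e1, ht])
    rwa [this] at hi

omit h hv hv0 hq hfix hLi hLY hLβ hθ in
theorem eq_m {n : ↥Msub} (hn : θ n = 1 ∨ θ n = swap 0 1) (h2 : n * n = 1)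
    (hc : Commute n (Odd.κ t)) : n = 1 ∨ n = Odd.κ t := by
  obtain ⟨i, e | e⟩ := image_cases hθa hκ ht hn
  · left
    have h3 := congrArg (fun x : ↥Msub => x.1.1) h2
    rw [e] at h3 ⊢
    rw [Odd.even_cases i (by simpa [Odd.a] using h3), pow_zero]
  · right
    have h3 : Commute (n.1.1) ((Odd.κ t).1.1) := congrArg (fun x : ↥Msub => x.1.1) hc.eq
    rw [e] at h3 ⊢
    have hσ : Perm.sign (Odd.κ t).1.1 = -1 := (Odd.sign_ε t).trans hts
    rw [Odd.odd_cases i _ hσ (by simpa [Odd.a] using h3), pow_zero, one_mul]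

omit hθa hκ hts in
theorem fix_L {x : W} (hx : act (swap 0 1) x = x) : K.φ (Odd.κ t) (L x) = L x := by
  have h1 := hθ (Odd.κ t) x
  rw [ht, hx] at h1
  rcases proj_eq h.card_parts.1 hv hv0 (hfix (Odd.κ t)) (hLY x) with e | e
  · exact (h1.trans e).symm
  · exfalso
    rw [e] at h1
    have h2 : K.φ (Odd.κ t) (L x) = L x + v₀ := by
      conv_rhs => rw [h1]
      rw [K.add_cancel]
    have h3 := K.φ_q (Odd.κ t) (L x)
    rw [h2, K.quad.add, hq, K.B_comm, K.B_C₅_Y₅ hv (hLY x), add_zero] at h3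
    exact one_ne_zero (add_eq_left.1 h3)

omit hv hv0 hq hfix hLi hLY hLβ hθ hθa hκ ht in
theorem exists_e (hm : Odd.κ t * Odd.κ t = 1) :
    ∃ e ∈ K.Uc, e ∈ K.rad (Odd.κ t) ∧ e ∈ K.fix (Odd.κ t) ∧ K.q e = 1 := by
  classical
  have hUc0 : ∀ w ∈ K.Uc, K.φ Odd.a w = w → w = 0 := fun w hw e => by
    rw [← K.avg_of_fixed (n := Odd.a) (k := 3) rfl e]; exact hw.2
  haveI : Nontrivial ↥K.Uc := Finite.one_lt_card_iff_nontrivial.1 (by rw [h.2.1]; norm_num)
  obtain ⟨u, hu, hmu⟩ : ∃ u ∈ K.Uc, K.φ (Odd.κ t) u ≠ u := by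
    by_contra h'
    push Not at h'
    obtain ⟨⟨u, hu⟩, hu0⟩ := exists_ne (0 : ↥K.Uc)
    refine hu0 (Subtype.ext (hUc0 u hu ?_))
    have hσ : ∀ σ : Perm (Fin 3), Perm.sign σ = -1 → σ * (swap 0 1 * swap 1 2) =
        swap 0 1 * swap 1 2 * (swap 0 1 * swap 1 2) * σ := by decide
    have hna : Odd.κ t * Odd.a = Odd.a * Odd.a * Odd.κ t :=
      Subtype.ext (Prod.ext (hσ _ ((Odd.sign_ε t).trans hts)) (by simp [Odd.a]))
    have h1 := congrArg (fun n => K.φ n u) hna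
    simp only [K.φ_mul] at h1
    rw [h' u hu, h' _ (K.Uc_inv _ hu)] at h1
    exact (K.φ Odd.a).injective h1.symm
  set e := u + K.φ (Odd.κ t) u with he
  have heUc : e ∈ K.Uc := K.Uc.add_mem hu (K.Uc_inv _ hu)
  have herad : e ∈ K.rad (Odd.κ t) := ⟨u, rfl⟩
  have he0 : e ≠ 0 := fun h0 => hmu (K.eq_of_add h0).symm
  refine ⟨e, heUc, herad, K.rad_le_fix hm herad, ?_⟩
  refine (two_cases _).resolve_left fun hqe => ?_
  have e1 := K.Uc_inv Odd.a heUc
  have e2 := K.Uc_inv Odd.a e1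
  have hq1 : K.q (K.φ Odd.a e) = 0 := by rw [K.φ_q, hqe]
  have hq2 : K.q (K.φ Odd.a (K.φ Odd.a e)) = 0 := by rw [K.φ_q, hq1]
  have hsum : e + K.φ Odd.a e + K.φ Odd.a (K.φ Odd.a e) = 0 := by
    have := heUc.2
    change K.avg Odd.a 3 e = 0 at this
    simpa [K.avg_apply, Finset.sum_range_succ, pow_two, K.φ_mul] using this
  have hB : K.B e (K.φ Odd.a e) = 0 := by
    have h1 := K.eq_of_add hsum
    have h2 := K.quad.add e (K.φ Odd.a e)
    rw [h1, hq2, hqe, hq1, zero_add, zero_add] at h2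
    exact h2.symm
  refine he0 (K.nondeg_coinv Odd.a_pow rfl (fun _ _ => AddSubgroup.mem_top _) K.nondeg_top e heUc
    fun w hw => ?_)
  have d1 : K.φ Odd.a e ≠ e := fun d => he0 (hUc0 e heUc d)
  have d2 : K.φ Odd.a e ≠ 0 := fun d => he0 ((K.φ _).injective (d.trans (K.φ_zero _).symm))
  have d3 : e + K.φ Odd.a e ≠ 0 := fun d => d1 (K.eq_of_add d).symm
  have d4 : e ≠ e + K.φ Odd.a e := fun d => d2 (left_eq_add.1 d)
  have d5 : K.φ Odd.a e ≠ e + K.φ Odd.a e := fun d => he0 (right_eq_add.1 d)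
  have hsub : ({0, e, K.φ Odd.a e, e + K.φ Odd.a e} : Finset U) =
      Finset.univ.filter fun x => x ∈ K.Uc := by
    refine Finset.eq_of_subset_of_card_le (fun x hx => ?_) ?_
    · simp only [Finset.mem_insert, Finset.mem_singleton] at hx
      simp only [Finset.mem_filter, Finset.mem_univ, true_and]
      rcases hx with rfl | rfl | rfl | rfl
      exacts [K.Uc.zero_mem, heUc, e1, K.Uc.add_mem heUc e1]
    · rw [← Fintype.card_subtype, ← Nat.card_eq_fintype_card,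
        show Nat.card {x // x ∈ K.Uc} = 4 from h.2.1]
      simp [Ne.symm he0, Ne.symm d2, Ne.symm d3, Ne.symm d1, d4, d5]
  have hw' : w ∈ ({0, e, K.φ Odd.a e, e + K.φ Odd.a e} : Finset U) := by rw [hsub]; simp [hw]
  simp only [Finset.mem_insert, Finset.mem_singleton] at hw'
  rcases hw' with rfl | rfl | rfl | rfl
  · exact map_zero _
  · exact K.B_self _
  · exact hB
  · rw [map_add, K.B_self, hB, add_zero]

omit hθa hκ hts in
theorem card_fix {e : U} (heUc : e ∈ K.Uc) (he : e ∈ K.fix (Odd.κ t)) (he0 : e ≠ 0) :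
    32 ≤ Nat.card ↥(K.fix (Odd.κ t)) := by
  classical
  let S := Finset.univ.filter fun x : W => act (swap 0 1) x = x
  have hS : ∀ x : ↥S, K.φ (Odd.κ t) (L (x : W)) = L (x : W) := fun x =>
    fix_L h hv hv0 hq hfix hLi hLY hLβ hθ ht (Finset.mem_filter.1 x.2).2
  have hsm : ∀ (c : ZMod 2) (w : U), w ∈ K.fix (Odd.κ t) → sm c w ∈ K.fix (Odd.κ t) := fun c w hw => by
    unfold Plane.sm; split_ifs
    · exact AddSubgroup.zero_mem _
    · exact hw
  let f : ↥S × ZMod 2 × ZMod 2 → ↥(K.fix (Odd.κ t)) := fun p =>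
    ⟨L (p.1 : W) + sm p.2.1 v₀ + sm p.2.2 e, AddSubgroup.add_mem _
      (AddSubgroup.add_mem _ (hS p.1) (hsm _ _ (hfix _))) (hsm _ _ he)⟩
  have hf : Function.Injective f := by
    rintro ⟨x, c, d⟩ ⟨x', c', d'⟩ hxy
    have h0 : L (x : W) + sm c v₀ + sm d e = L (x' : W) + sm c' v₀ + sm d' e :=
      congrArg Subtype.val hxy
    have he' : K.avg Odd.a 3 e = 0 := heUc.2
    have hv' : K.avg Odd.a 3 v₀ = v₀ := K.avg_Ua hv.1
    have havg : ∀ (c d : ZMod 2) (x : W), K.avg Odd.a 3 (L x + sm c v₀ + sm d e) = L x + sm c v₀ := by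
      intro c d x
      rcases two_cases c with rfl | rfl <;> rcases two_cases d with rfl | rfl <;>
        simp [sm, map_add, K.avg_Ua (hLY x).1, he', hv']
    have h1 : L (x : W) + sm c v₀ = L (x' : W) + sm c' v₀ := by
      rw [← havg c d x, ← havg c' d' x', h0]
    have hpv : K.pY v₀ = 0 := by rw [K.pY_apply, K.avg_C₅ hv, K.add_self]
    have hp : ∀ (c : ZMod 2) (x : W), K.pY (L x + sm c v₀) = L x := by
      intro c x
      rcases two_cases c with rfl | rfl <;> simp [sm, map_add, K.pY_of_mem (hLY x), hpv]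
    have h2 : (x : W) = x' := hLi (by rw [← hp c x, ← hp c' x', h1])
    have hsinj : ∀ w : U, w ≠ 0 → ∀ c c' : ZMod 2, sm c w = sm c' w → c = c' := by
      intro w hw c c'
      rcases two_cases c with rfl | rfl <;> rcases two_cases c' with rfl | rfl <;>
        simp [sm, hw, Ne.symm hw]
    rw [← h2] at h1 h0
    have h3 := hsinj v₀ hv0 _ _ (add_left_cancel h1)
    rw [← h3] at h0
    exact Prod.ext (Subtype.ext h2) (Prod.ext h3 (hsinj e he0 _ _ (add_left_cancel h0)))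
  have := Nat.card_le_card_of_injective f hf
  rw [Nat.card_prod, Nat.card_prod, Nat.card_zmod, Nat.card_eq_finsetCard] at this
  have := Nat.mul_le_mul_right (2 * 2) (show 8 ≤ S.card from Odd.fixed_eight)
  omega

/-- No conjugate of `z` lies over the transvection. -/
theorem no_outside {g : G} (hp : g * F.z * g⁻¹ ∈ F.H)
    (hpm : F.π ⟨g * F.z * g⁻¹, hp⟩ = Odd.κ t) : False := by
  classical
  set m := Odd.κ t with hmdef
  have hm : m * m = 1 := m_sq hκ ht
  have hmM : m ∉ Odd.M₀ := m_notMem hts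
  set p := g * F.z * g⁻¹ with hpdef
  have hp2 : p * p = 1 ∨ p * p = F.z := Or.inl (by
    rw [hpdef, show g * F.z * g⁻¹ * (g * F.z * g⁻¹) = g * (F.z * F.z) * g⁻¹ by group, F.z_sq]
    group)
  have hm1 : m ≠ 1 := fun e => hmM (e ▸ one_mem _)
  have hpQ : p ∉ F.Q := fun e => hm1 (by rw [← hpm]; exact (F.π_ker _).2 e)
  have hzp : F.z ∉ F.Qc g := F.z_notMem_Qc hpQ
  obtain ⟨e, heUc, herad, hefix, hqe⟩ := exists_e h hts hm
  have he0 : e ≠ 0 := fun d => by rw [d, K.q_zero] at hqe; exact zero_ne_one hqe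
  have h32 : 32 ≤ Nat.card ↥(K.fix m) :=
    card_fix h hv hv0 hq hfix hLi hLY hLβ hθ ht heUc hefix he0
  -- a noncommuting pair
  obtain ⟨hg0, hh0, hgh⟩ := Odd.fixed_pair
  obtain ⟨a, ⟨ha, hac⟩, hae⟩ := K.exists_commuting hm hp hpm hp2
    (fix_L h hv hv0 hq hfix hLi hLY hLβ hθ ht hg0) herad hqe
  obtain ⟨b, ⟨hb, hbc⟩, hbe⟩ := K.exists_commuting hm hp hpm hp2
    (fix_L h hv hv0 hq hfix hLi hLY hLβ hθ ht hh0) herad hqe
  have hab : ⁅a, b⁆ = F.z := by
    refine (F.comm_Q ha hb).resolve_left fun h1 => ?_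
    have h2 := (K.commute_iff ha hb).1 (commutatorElement_eq_one_iff_commute.1 h1)
    have z1 : ∀ x, K.B (L x) e = 0 := fun x => K.B_Ua_Uc (hLY x).1 heUc
    have z2 : ∀ x, K.B e (L x) = 0 := fun x => (K.B_comm _ _).trans (z1 x)
    rcases hae with e1 | e1 <;> rcases hbe with e2 | e2 <;> rw [e1, e2] at h2 <;>
      simp [z1, z2, K.B_self, hLβ, hgh] at h2
  have hac' : Commute a p := mem_centralizer_singleton_iff.1 hac
  have hbc' : Commute b p := mem_centralizer_singleton_iff.1 hbc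
  -- the other side
  have hzH : g⁻¹ * F.z * g ∈ F.H := F.mem_conjH (F.mem_H.1 hp).symm
  set n := F.π ⟨g⁻¹ * F.z * g, hzH⟩ with hndef
  have hn1 : n ≠ 1 := fun e => hzp (F.mem_Qc.2 ((F.π_ker ⟨g⁻¹ * F.z * g, hzH⟩).1 e))
  have hnM : n ∈ Odd.M₀ := by
    have e2 : (⟨g⁻¹ * F.z * g, hzH⟩ : ↥F.H) =
        ⁅(⟨g⁻¹ * a * g, F.mem_conjH hac'⟩ : ↥F.H), ⟨g⁻¹ * b * g, F.mem_conjH hbc'⟩⁆ := by
      apply Subtype.ext
      show g⁻¹ * F.z * g = ⁅g⁻¹ * a * g, g⁻¹ * b * g⁆
      rw [← hab]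
      simp only [commutatorElement_def]
      group
    rw [hndef, e2, map_commutatorElement]
    exact Odd.comm_mem _ _
  have hz'2 : (g⁻¹ * F.z * g) * (g⁻¹ * F.z * g) = 1 := by
    rw [show (g⁻¹ * F.z * g) * (g⁻¹ * F.z * g) = g⁻¹ * (F.z * F.z) * g by group, F.z_sq]; group
  have hn2 : n * n = 1 := by
    rw [hndef, ← map_mul, show (⟨g⁻¹ * F.z * g, hzH⟩ : ↥F.H) * ⟨g⁻¹ * F.z * g, hzH⟩ = 1 from
      Subtype.ext hz'2, map_one]
  obtain ⟨s, hs⟩ := Odd.eq_f hnM (k := 1) (by rw [pow_one, pow_two, hn2])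
  have hs2 : s * s = 1 := Odd.f_inj (by rw [map_mul, ← hs, hn2, map_one])
  have hs1 : s ≠ 1 := fun e => hn1 (by rw [hs, e, map_one])
  have h64 := h.card_fix_even hv hv0 hfix hLi hLY hθ hκ s hs2 hs1
  rw [← hs] at h64
  have h64' := h64.trans (K.card_commuting hzH (m := n) rfl)
  -- transported
  let B := F.Qc g ⊓ centralizer ({F.z} : Set G)
  have hB : 64 ≤ Nat.card ↥B := by
    refine h64'.trans (Nat.card_le_card_of_injective (fun q => ⟨g * q.1 * g⁻¹, ?_⟩) ?_)
    · refine ⟨F.mem_Qc.2 (by simpa [mul_assoc] using q.2.1), mem_centralizer_singleton_iff.2 ?_⟩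
      have hq' : (q : G) * (g⁻¹ * F.z * g) = g⁻¹ * F.z * g * q := mem_centralizer_singleton_iff.1 q.2.2
      calc g * (q : G) * g⁻¹ * F.z = g * ((q : G) * (g⁻¹ * F.z * g)) * g⁻¹ := by group
        _ = g * (g⁻¹ * F.z * g * q) * g⁻¹ := by rw [hq']
        _ = _ := by group
    · intro q q' e
      exact Subtype.ext (mul_left_cancel (mul_right_cancel (congrArg Subtype.val e :)))
  have hBp : ∀ y ∈ B, Commute y p := fun y hy => by
    have h1 := F.mem_H.1 (F.Q_le (F.mem_Qc.1 hy.1))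
    show y * p = p * y
    rw [hpdef]
    calc y * (g * F.z * g⁻¹) = g * ((g⁻¹ * y * g) * F.z) * g⁻¹ := by group
      _ = g * (F.z * (g⁻¹ * y * g)) * g⁻¹ := by rw [h1.eq]
      _ = _ := by group
  let fB : ↥B →* ↥Msub := F.π.comp (Subgroup.inclusion inf_le_right)
  have hcomm : ∀ x y : ↥B, Commute (fB x) (fB y) := by
    intro x y
    rw [← commutatorElement_eq_one_iff_commute, ← map_commutatorElement]
    have hx' := F.mem_Qc.1 x.2.1
    have hy' := F.mem_Qc.1 y.2.1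
    rcases F.comm_Q hx' hy' with e1 | e1
    · have : ⁅x, y⁆ = 1 := Subtype.ext (by
        show ⁅(x : G), (y : G)⁆ = 1
        rw [show ⁅(x : G), (y : G)⁆ = g * ⁅g⁻¹ * x * g, g⁻¹ * y * g⁆ * g⁻¹ by
          simp only [commutatorElement_def]; group, e1]
        group)
      rw [this, map_one]
    · exfalso
      have e3 : ((⁅x, y⁆ : ↥B) : G) = p := by
        show ⁅(x : G), (y : G)⁆ = p
        rw [show ⁅(x : G), (y : G)⁆ = g * ⁅g⁻¹ * x * g, g⁻¹ * y * g⁆ * g⁻¹ by
          simp only [commutatorElement_def]; group, e1, hpdef]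
      have e4 : fB ⁅x, y⁆ = m := by
        rw [← hpm]
        exact congrArg F.π (Subtype.ext e3)
      apply hmM
      rw [← e4, map_commutatorElement]
      exact Odd.comm_mem _ _
  have hBP : IsPGroup 2 ↥B := (F.isPGroup_Q.map _).to_le inf_le_left
  have himg : Nat.card fB.range ≤ 8 := Odd.card_comm_le
    (hBP.of_surjective fB.rangeRestrict fB.rangeRestrict_surjective)
    (by rintro _ ⟨x, rfl⟩ _ ⟨y, rfl⟩; exact hcomm x y)
  -- the kernel
  let R : Finset U := Finset.univ.filter fun r => r ∈ K.rad m ∧ K.q r = 0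
  have hker : ∀ x : ↥fB.ker, K.ν (x : G) ∈ R := by
    intro x
    have hxQ : ((x : ↥B) : G) ∈ F.Q := (F.π_ker _).1 x.2
    have hxp : Commute (x : G) p := hBp _ (x : ↥B).2
    have hrad : K.ν (x : G) ∈ K.rad m := by
      rw [← K.perp_fix hm, F2Forms.mem_perp]
      have hAx : ∀ a ∈ F.Q, Commute a p → K.B (K.ν a) (K.ν (x : G)) = 0 := by
        intro a ha hap
        refine (K.commute_iff ha hxQ).1 ?_
        rcases F.comm_Q ha hxQ with e1 | e1
        · exact commutatorElement_eq_one_iff_commute.1 e1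
        · exfalso
          refine hzp (e1 ▸ ?_)
          rw [commutatorElement_def]
          exact mul_mem (F.Qc_conj hap (x : ↥B).2.1) (inv_mem (x : ↥B).2.1)
      have hfixx : K.ν (x : G) ∈ K.fix m := by
        rw [K.mem_fix, ← hpm, ← K.ν_conj p hp _ hxQ, hxp.symm.eq, mul_inv_cancel_right]
      intro c hc
      obtain ⟨q', ⟨hq'Q, hq'c⟩, hq'e⟩ := K.exists_commuting hm hp hpm hp2 hc herad hqe
      have h1 := hAx q' hq'Q (mem_centralizer_singleton_iff.1 hq'c)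
      rcases hq'e with e1 | e1 <;> rw [e1] at h1
      · exact (K.B_comm _ _).trans h1
      · rw [map_add, AddMonoidHom.add_apply, (K.perp_rad hm).ge hfixx e herad |> fun t =>
          (K.B_comm e (K.ν (x : G))).trans t, add_zero] at h1
        exact (K.B_comm _ _).trans h1
    simp only [R, Finset.mem_filter, Finset.mem_univ, true_and]
    exact ⟨hrad, K.q_of_commute hp hpm hp2 hxQ hrad hxp⟩
  have hk : Nat.card fB.ker ≤ R.card := by
    rw [← Nat.card_eq_finsetCard]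
    refine Nat.card_le_card_of_injective (fun x => ⟨K.ν (x : G), hker x⟩) fun x y exy => ?_
    have hxQ : ((x : ↥B) : G) ∈ F.Q := (F.π_ker _).1 x.2
    have hyQ : ((y : ↥B) : G) ∈ F.Q := (F.π_ker _).1 y.2
    rcases K.eq_or_eq hxQ hyQ (congrArg Subtype.val exy :) with e1 | e1
    · exact Subtype.ext (Subtype.ext e1.symm)
    · exfalso
      refine hzp ?_
      have := (F.Qc g).mul_mem ((F.Qc g).inv_mem (x : ↥B).2.1) (y : ↥B).2.1
      rwa [e1, inv_mul_cancel_left] at this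
  have hR : 2 * R.card ≤ Nat.card ↥(K.rad m) := by
    have h1 : Nat.card (↥R × ZMod 2) ≤ Nat.card ↥(K.rad m) := by
      refine Nat.card_le_card_of_injective (fun p => ⟨(p.1 : U) + sm p.2 e, AddSubgroup.add_mem _
        (Finset.mem_filter.1 p.1.2).2.1 (by unfold Plane.sm; split_ifs; exacts [zero_mem _, herad])⟩) ?_
      rintro ⟨r, c⟩ ⟨r', c'⟩ e1
      have e2 : (r : U) + sm c e = (r' : U) + sm c' e := congrArg Subtype.val e1
      have hqr : ∀ (r : ↥R) (c : ZMod 2), K.q ((r : U) + sm c e) = c := fun r c => by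
        obtain ⟨hr1, hr2⟩ := (Finset.mem_filter.1 r.2).2
        have hBre : K.B (r : U) e = 0 := by
          exact (K.perp_rad hm).ge (K.rad_le_fix hm hr1) e herad
        rcases two_cases c with rfl | rfl <;> simp [sm, hr2, K.quad.add, hqe, hBre]
      have e3 : c = c' := by rw [← hqr r c, ← hqr r' c', e2]
      subst e3
      exact Prod.ext (Subtype.ext (add_right_cancel e2)) rfl
    rw [Nat.card_prod, Nat.card_zmod, Nat.card_eq_finsetCard] at h1
    omega
  have hrf := K.card_rad_fix hm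
  have hmul : Nat.card fB.ker * Nat.card fB.range = Nat.card ↥B := by rw [← index_ker, card_mul_index]
  have h5 := Nat.mul_le_mul hk himg
  have h6 := Nat.mul_le_mul_right (Nat.card ↥(K.rad m)) h32
  omega

omit hv hv0 hq hfix hLi hLY hLβ hθ hθa hκ ht hts in
/-- The contradiction when the three-element moves four vectors. -/
theorem TwoDim.false [IsSimpleGroup G] : False := by
  classical
  obtain ⟨v₀, L, θ, hv, hv0, hq, hfix, hLi, hLY, hLβ, hθ, hθa, hκ⟩ := h.exists_space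
  have hb := Finite.injective_iff_bijective.1 hκ
  obtain ⟨t, ht⟩ := hb.2 (swap 0 1)
  have hts : Perm.sign t = -1 := by
    refine (Int.units_eq_one_or _).resolve_left fun e => ?_
    haveI := alternatingGroup.isSimpleGroup (α := Fin 6) (by simp)
    let χ := Perm.sign.comp (θ.comp Odd.f)
    have hχ : χ ⟨t, Perm.mem_alternatingGroup.2 e⟩ = -1 := by
      show Perm.sign (θ (Odd.f _)) = -1
      rw [← Odd.κ_even]
      show Perm.sign ((θ.comp Odd.κ) t) = -1
      rw [ht]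
      exact Perm.sign_swap (by decide)
    rcases χ.normal_ker.eq_bot_or_eq_top with e' | e'
    · have := Nat.card_le_card_of_injective _ ((MonoidHom.ker_eq_bot_iff χ).1 e')
      rw [Odd.card_alt, Nat.card_eq_fintype_card, Fintype.card_units_int] at this
      omega
    · rw [MonoidHom.mem_ker.1 (e' ▸ Subgroup.mem_top (⟨t, Perm.mem_alternatingGroup.2 e⟩ :
        ↥(alternatingGroup (Fin 6))))] at hχ
      exact absurd hχ (by decide)
  set m := Odd.κ t with hmdef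
  have hm : m * m = 1 := m_sq hκ ht
  obtain ⟨e, heUc, herad, hefix, hqe⟩ := exists_e h hts hm
  have he0 : e ≠ 0 := fun d => by rw [d, K.q_zero] at hqe; exact zero_ne_one hqe
  have h32 : 32 ≤ Nat.card ↥(K.fix m) :=
    card_fix h hv hv0 hq hfix hLi hLY hLβ hθ ht heUc hefix he0
  obtain ⟨S, hSC, -, hcov, hS, hScard⟩ := K.exists_complement hm
  obtain ⟨w, hw, hqw⟩ : ∃ w ∈ S, K.q w = 1 := by
    by_contra h'
    push Not at h'
    have h0 : ∀ w ∈ S, K.q w = 0 := fun w hw => (two_cases _).resolve_right (h' w hw)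
    have h1 : Nat.card ↥S ≤ 1 := by
      have : S ≤ ⊥ := fun a ha => AddSubgroup.mem_bot.2 (hS a ha fun b hb => by
        have h2 := K.quad.add a b
        rw [h0 _ (S.add_mem ha hb), h0 a ha, h0 b hb, zero_add, zero_add] at h2
        exact h2.symm)
      exact (AddSubgroup.card_le_of_le this).trans (by rw [AddSubgroup.card_bot])
    have h2 := K.card_rad_fix hm
    have h3 := Nat.mul_le_mul_right (Nat.card ↥(K.rad m)) h32
    have h8 : Nat.card ↥(K.rad m) ≤ 8 := by omega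
    have h4 := Nat.mul_le_mul h1 (Nat.mul_le_mul h8 h8)
    omega
  obtain ⟨x₀, hx₀, hx₀m, hx₀2, hx₀S⟩ := K.exists_lift hm hSC hcov hS
  obtain ⟨x, hx, hxm, hx2⟩ : ∃ (x : G) (hx : x ∈ F.H), F.π ⟨x, hx⟩ = m ∧ x * x = 1 := by
    rcases hx₀2 with e2 | e2
    · exact ⟨x₀, hx₀, hx₀m, e2⟩
    obtain ⟨a, ha, rfl⟩ := K.ν_surj w
    refine ⟨x₀ * a, mul_mem hx₀ (F.Q_le ha), ?_, ?_⟩
    · rw [show (⟨x₀ * a, mul_mem hx₀ (F.Q_le ha)⟩ : ↥F.H) = ⟨x₀, hx₀⟩ * ⟨a, F.Q_le ha⟩ from rfl,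
        map_mul, hx₀m, (F.π_ker ⟨a, F.Q_le ha⟩).2 ha, mul_one]
    · have haa : a * a = F.z := (F.sq_Q ha).resolve_left fun e3 => by
        rw [(K.sq_iff ha).1 e3] at hqw
        exact zero_ne_one hqw
      have hc : Commute a x₀ := hx₀S a ⟨ha, hw⟩
      rw [mul_assoc, ← mul_assoc a, hc.eq, mul_assoc x₀ a, haa, ← mul_assoc, e2, F.z_sq]
  set A := F.Q ⊓ centralizer ({x} : Set G) with hA
  have hxA : ∀ a ∈ A, Commute a x := fun a ha => mem_centralizer_singleton_iff.1 ha.2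
  have hzA : F.z ∈ A := ⟨F.zQ, mem_centralizer_singleton_iff.2 (F.mem_H.1 hx).symm.eq⟩
  refine F.false_of_parity Odd.M₀ Odd.index_M₀ x hx (by rw [hxm]; exact m_notMem hts) (Or.inl hx2) A
    inf_le_left hzA hxA (K.isPGroup_sup hm hx hxm inf_le_left) ?_
    (fun e1 => absurd (hx2.symm.trans e1).symm F.z_ne)
  intro g hne hxp hAp
  exfalso
  set p := g * F.z * g⁻¹ with hpdef
  have hpH : p ∈ F.H := F.mem_H.2 (hAp F.z hzA).symm
  by_cases hpQ : p ∈ F.Q
  · exact h.no_inside hv hv0 hfix hLi hLY hLβ hθ hκ hpQ hne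
  set n := F.π ⟨p, hpH⟩ with hndef
  have hn2 : n * n = 1 := by
    rw [hndef, ← map_mul, show (⟨p, hpH⟩ : ↥F.H) * ⟨p, hpH⟩ = 1 from Subtype.ext (by
      show p * p = 1
      rw [hpdef, show g * F.z * g⁻¹ * (g * F.z * g⁻¹) = g * (F.z * F.z) * g⁻¹ by group, F.z_sq]
      group), map_one]
  have hnm : Commute n m := by
    rw [hndef, ← hxm]
    exact (Commute.map (show Commute (⟨p, hpH⟩ : ↥F.H) ⟨x, hx⟩ from Subtype.ext hxp.symm.eq) F.π)
  have hfixn : ∀ y : W, act (swap 0 1) y = y → act (θ n) y = y := by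
    intro y hy
    obtain ⟨a, ha, hae⟩ := K.exists_commuting hm hx hxm (Or.inl hx2)
      (fix_L h hv hv0 hq hfix hLi hLY hLβ hθ ht hy) herad hqe
    have hca : K.φ n (K.ν a) = K.ν a := by
      rw [hndef, ← K.ν_conj p hpH a ha.1, (hAp a ha).symm.eq, mul_inv_cancel_right]
    have h1 : K.φ n (L y) = L y := by
      rcases hae with e1 | e1
      · rw [← e1]; exact hca
      · have h2 := congrArg (K.avg Odd.a 3) hca
        rw [K.avg_conj Odd.a_pow (Odd.a_normal n), e1, map_add, K.avg_Ua (hLY y).1,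
          show K.avg Odd.a 3 e = 0 from heUc.2, add_zero] at h2
        exact h2
    apply hLi
    rw [hθ, h1, K.pY_of_mem (hLY y)]
  rcases eq_m hθa hκ ht hts (Odd.fixers_swap _ hfixn) hn2 hnm with e1 | e1
  · exact hpQ ((F.π_ker _).1 e1)
  · exact no_outside h hv hv0 hq hfix hLi hLY hLβ hθ hθa hκ ht hts hpH e1

end Frame.Coord

end Cfsg.Agent.H47.Ex9
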