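import Cfsg.Agent.H47.Ex9.OddBase

/-!
The quotient `(3 × A₆).2` when the normal subgroup of order three moves only four vectors:
involutions, the conjugates inside `O₂`, and the fixed vector of the alternating group.
-/

set_option autoImplicit false
set_option maxRecDepth 10000

namespace Cfsg.Agent.H47.Ex9

open Subgroup Equiv

namespace Odd

theorem normalizer_five : (Finset.univ.filter fun s : Perm (Fin 6) =>
    Perm.sign s = 1 ∧ (s * (Frame.Coord.five : Perm (Fin 6)) * s⁻¹ = Frame.Coord.five ∨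
      s * (Frame.Coord.five : Perm (Fin 6)) * s⁻¹ = (Frame.Coord.five : Perm (Fin 6)) ^ 2 ∨
      s * (Frame.Coord.five : Perm (Fin 6)) * s⁻¹ = (Frame.Coord.five : Perm (Fin 6)) ^ 3 ∨
      s * (Frame.Coord.five : Perm (Fin 6)) * s⁻¹ = (Frame.Coord.five : Perm (Fin 6)) ^ 4)).card ≤ 10 := by
  decide +kernel

theorem card_normalizer_five :
    Nat.card ↥(normalizer (zpowers (Frame.Coord.five : ↥(alternatingGroup (Fin 6))) :
      Set ↥(alternatingGroup (Fin 6)))) ≤ 10 := by
  have hfin := normalizer_five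
  refine le_trans (Nat.card_le_card_of_injective
    (fun s => (⟨((s : ↥(alternatingGroup (Fin 6))) : Perm (Fin 6)), ?_⟩ :
      ↥(Finset.univ.filter fun s : Perm (Fin 6) =>
    Perm.sign s = 1 ∧ (s * (Frame.Coord.five : Perm (Fin 6)) * s⁻¹ = Frame.Coord.five ∨
      s * (Frame.Coord.five : Perm (Fin 6)) * s⁻¹ = (Frame.Coord.five : Perm (Fin 6)) ^ 2 ∨
      s * (Frame.Coord.five : Perm (Fin 6)) * s⁻¹ = (Frame.Coord.five : Perm (Fin 6)) ^ 3 ∨
      s * (Frame.Coord.five : Perm (Fin 6)) * s⁻¹ = (Frame.Coord.five : Perm (Fin 6)) ^ 4))))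
    fun s t h => Subtype.ext (Subtype.ext (congrArg Subtype.val h :))) ?_
  · simp only [Finset.mem_filter, Finset.mem_univ, true_and]
    refine ⟨Perm.mem_alternatingGroup.1 (s : ↥(alternatingGroup (Fin 6))).2, ?_⟩
    obtain ⟨s, hs⟩ := s
    have h1 : s * Frame.Coord.five * s⁻¹ ∈ zpowers Frame.Coord.five :=
      (mem_normalizer_iff.1 hs _).1 (mem_zpowers _)
    obtain ⟨k, hk⟩ := mem_zpowers_iff.1 h1
    have hk5 : Frame.Coord.five ^ k = Frame.Coord.five ^ (k % 5).toNat := by
      have e : (((k % 5).toNat : ℕ) : ℤ) = k % 5 := Int.toNat_of_nonneg (Int.emod_nonneg _ (by norm_num))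
      have h5 : (Frame.Coord.five : ↥(alternatingGroup (Fin 6))) ^ (5 : ℤ) = 1 := by
        rw [zpow_ofNat]; exact Frame.Coord.five_pow
      conv_lhs => rw [← Int.mul_ediv_add_emod k 5, zpow_add, zpow_mul, h5, one_zpow, one_mul]
      rw [← zpow_natCast, e]
    have hlt : (k % 5).toNat < 5 := by
      have := Int.emod_lt_of_pos k (show (0 : ℤ) < 5 by norm_num); omega
    have hne : s * Frame.Coord.five * s⁻¹ ≠ 1 := fun h => Frame.Coord.five_ne (conj_eq_one_iff.1 h)
    rw [hk5] at hk
    generalize (k % 5).toNat = j at hk hlt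
    have hk' : (s : Perm (Fin 6)) * (Frame.Coord.five : Perm (Fin 6)) * (s : Perm (Fin 6))⁻¹ =
        (Frame.Coord.five : Perm (Fin 6)) ^ j := congrArg Subtype.val hk.symm
    interval_cases j
    · exact absurd hk.symm (by simpa using hne)
    · exact Or.inl (by simpa using hk')
    · exact Or.inr (Or.inl hk')
    · exact Or.inr (Or.inr (Or.inl hk'))
    · exact Or.inr (Or.inr (Or.inr hk'))
  · rw [Nat.card_eq_finsetCard]; exact hfin

/-- A subgroup of `A₆` with the five-cycle, its inverting involution and at least eleven elements. -/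
theorem index_of_big (H : Subgroup ↥(alternatingGroup (Fin 6))) (hb : Frame.Coord.five ∈ H)
    (hs : s₀ ∈ H) (hbig : 10 < Nat.card ↥H) : H.index = 1 ∨ H.index = 6 := by
  classical
  haveI := Fact.mk Nat.prime_five
  set b : ↥(alternatingGroup (Fin 6)) := Frame.Coord.five with hbdef
  have hord : orderOf b = 5 := orderOf_eq_prime Frame.Coord.five_pow Frame.Coord.five_ne
  have hA : Nat.card ↥(alternatingGroup (Fin 6)) = 360 := by
    rw [nat_card_alternatingGroup, Nat.card_fin]; decide
  have hmul := card_mul_index H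
  rw [hA] at hmul
  have h5 : 5 ∣ Nat.card ↥H := hord ▸ (Subgroup.orderOf_coe (⟨b, hb⟩ : ↥H) ▸ orderOf_dvd_natCard _)
  have h2 : 2 ∣ Nat.card ↥H := by
    have : orderOf s₀ = 2 := orderOf_eq_prime (by rw [pow_two]; exact s₀_spec.1) s₀_spec.2.1
    exact this ▸ (Subgroup.orderOf_coe (⟨s₀, hs⟩ : ↥H) ▸ orderOf_dvd_natCard _)
  obtain ⟨s, hsH, hsN⟩ : ∃ s ∈ H, s ∉ normalizer (zpowers b : Set ↥(alternatingGroup (Fin 6))) := by
    by_contra h
    push Not at h
    have := (card_le_of_le (H := H) h).trans card_normalizer_five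
    omega
  -- thirty-five elements
  let D : Subgroup ↥(alternatingGroup (Fin 6)) :=
    normalizer (zpowers b : Set ↥(alternatingGroup (Fin 6)))
  have hbD : ∀ i : ℤ, b ^ i ∈ D := fun i => le_normalizer (zpow_mem (mem_zpowers b) i)
  have hs₀D : s₀ ∈ D := by
    refine mem_normalizer_iff.2 fun x => ?_
    have hs₀i : s₀⁻¹ = s₀ := inv_eq_of_mul_eq_one_right s₀_spec.1
    have key : ∀ k : ℤ, s₀ * b ^ k * s₀⁻¹ = b ^ (-k) := by
      intro k
      rw [← conj_zpow, hs₀i, s₀_spec.2.2, inv_zpow']
    constructor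
    · intro hx
      obtain ⟨k, rfl⟩ := mem_zpowers_iff.1 hx
      rw [key]
      exact zpow_mem (mem_zpowers b) _
    · intro hx
      obtain ⟨k, hk⟩ := mem_zpowers_iff.1 hx
      have : x = b ^ (-k) := by
        rw [← key k, hk, hs₀i, ← mul_assoc, ← mul_assoc, s₀_spec.1, one_mul, mul_assoc, s₀_spec.1,
          mul_one]
      rw [this]
      exact zpow_mem (mem_zpowers b) _
  have h35 : 35 ≤ Nat.card ↥H := by
    let g : (Fin 5 × Fin 5) ⊕ (Fin 5 × Fin 2) → ↥H := fun p => match p with
      | .inl (i, j) => ⟨b ^ (i : ℕ) * s * b ^ (j : ℕ), mul_mem (mul_mem (pow_mem hb _) hsH) (pow_mem hb _)⟩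
      | .inr (i, e) => ⟨b ^ (i : ℕ) * s₀ ^ (e : ℕ), mul_mem (pow_mem hb _) (pow_mem hs _)⟩
    have hinj5 : ∀ i j : Fin 5, b ^ (i : ℕ) = b ^ (j : ℕ) → i = j := fun i j h => Fin.ext
      (pow_injOn_Iio_orderOf (by rw [hord]; exact i.2) (by rw [hord]; exact j.2) h)
    have hout : ∀ i j : Fin 5, b ^ (i : ℕ) * s * b ^ (j : ℕ) ∉ D := by
      intro i j h
      apply hsN
      have hi : b ^ (i : ℕ) ∈ D := by simpa using hbD (i : ℕ)
      have hj : b ^ (j : ℕ) ∈ D := by simpa using hbD (j : ℕ)
      have e : s = (b ^ (i : ℕ))⁻¹ * (b ^ (i : ℕ) * s * b ^ (j : ℕ)) * (b ^ (j : ℕ))⁻¹ := by group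
      rw [e]
      exact mul_mem (mul_mem (inv_mem hi) h) (inv_mem hj)
    have hin : ∀ (i : Fin 5) (e : Fin 2), b ^ (i : ℕ) * s₀ ^ (e : ℕ) ∈ D := fun i e =>
      mul_mem (by simpa using hbD (i : ℕ)) (pow_mem hs₀D _)
    have hg : Function.Injective g := by
      rintro (⟨i, j⟩ | ⟨i, e⟩) (⟨i', j'⟩ | ⟨i', e'⟩) h <;> replace h := congrArg Subtype.val h <;>
        simp only [g] at h
      · by_cases hii : i = i'
        · subst hii
          rw [mul_assoc, mul_assoc, mul_right_inj, mul_right_inj] at h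
          rw [hinj5 _ _ h]
        · exfalso
          apply hsN
          -- `s` conjugates a power of `b` to a generator
          have e1 : (b ^ (i' : ℕ))⁻¹ * b ^ (i : ℕ) = s * (b ^ (j' : ℕ) * (b ^ (j : ℕ))⁻¹) * s⁻¹ := by
            calc (b ^ (i' : ℕ))⁻¹ * b ^ (i : ℕ)
                = (b ^ (i' : ℕ))⁻¹ * (b ^ (i : ℕ) * s * b ^ (j : ℕ)) * (b ^ (j : ℕ))⁻¹ * s⁻¹ := by
                  group
              _ = _ := by rw [h]; group
          set d := b ^ (j' : ℕ) * (b ^ (j : ℕ))⁻¹ with hd
          have hdz : d ∈ zpowers b :=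
            mul_mem (pow_mem (mem_zpowers b) _) (inv_mem (pow_mem (mem_zpowers b) _))
          have hd1 : d ≠ 1 := by
            intro e2
            rw [e2, mul_one, mul_inv_cancel, inv_mul_eq_one] at e1
            exact hii (hinj5 _ _ e1).symm
          have hdeq : zpowers d = zpowers b := eq_of_le_of_card_ge (zpowers_le.2 hdz) (by
            rw [Nat.card_zpowers, Nat.card_zpowers, hord]
            have hdv : orderOf d ∣ 5 := orderOf_dvd_of_pow_eq_one (by
              obtain ⟨k, hk⟩ := mem_zpowers_iff.1 hdz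
              rw [← hk, ← zpow_natCast, ← zpow_mul, mul_comm, zpow_mul, zpow_natCast,
                Frame.Coord.five_pow, one_zpow])
            rcases (Nat.dvd_prime Nat.prime_five).1 hdv with h' | h'
            · exact absurd (orderOf_eq_one_iff.1 h') hd1
            · rw [h'])
          have hmap : (zpowers b).map (MulAut.conj s).toMonoidHom = zpowers b := by
            refine eq_of_le_of_card_ge ?_ (le_of_eq
              (card_map_of_injective (MulAut.conj s).injective).symm)
            rw [← hdeq, MonoidHom.map_zpowers, hdeq, zpowers_le]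
            show s * d * s⁻¹ ∈ zpowers b
            rw [← e1]
            exact mul_mem (inv_mem (pow_mem (mem_zpowers b) _)) (pow_mem (mem_zpowers b) _)
          refine mem_normalizer_iff.2 fun x => ⟨fun hx => ?_, fun hx => ?_⟩
          · rw [← hmap]; exact ⟨x, hx, rfl⟩
          · rw [← hmap] at hx
            obtain ⟨y, hy, hyx⟩ := hx
            have : s * y * s⁻¹ = s * x * s⁻¹ := hyx
            rwa [mul_left_cancel (mul_right_cancel this)] at hy
      · exact absurd (h ▸ hin i' e') (hout i j)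
      · exact absurd (h ▸ hin i e) (hout i' j')
      · have key : ∀ i i' : Fin 5, ∀ e e' : Fin 2,
            (Frame.Coord.five : ↥(alternatingGroup (Fin 6))) ^ (i : ℕ) * s₀ ^ (e : ℕ) =
              Frame.Coord.five ^ (i' : ℕ) * s₀ ^ (e' : ℕ) → i = i' ∧ e = e' := by decide +kernel
        obtain ⟨rfl, rfl⟩ := key i i' e e' h
        rfl
    have := Nat.card_le_card_of_injective g hg
    simpa using this
  -- small index
  have hsimple : ∀ k, H.index = k → 2 ≤ k → k ≤ 4 → False := by
    intro k hk hk2 hk4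
    haveI := alternatingGroup.isSimpleGroup (α := Fin 6) (by simp)
    haveI : H.FiniteIndex := inferInstance
    let φ := MulAction.toPermHom ↥(alternatingGroup (Fin 6)) (↥(alternatingGroup (Fin 6)) ⧸ H)
    rcases φ.normal_ker.eq_bot_or_eq_top with e | e
    · have h1 := Nat.card_le_card_of_injective φ ((MonoidHom.ker_eq_bot_iff φ).1 e)
      rw [Nat.card_perm, ← index_eq_card, hk, hA] at h1
      have : k.factorial ≤ Nat.factorial 4 := Nat.factorial_le hk4
      norm_num [Nat.factorial] at this h1 ⊢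
      omega
    · have htop : H = ⊤ := by
        refine eq_top_iff.2 fun g _ => ?_
        have h1 : φ g = 1 := MonoidHom.mem_ker.1 (e ▸ Subgroup.mem_top g)
        have h2 : g • ((1 : ↥(alternatingGroup (Fin 6))) : ↥(alternatingGroup (Fin 6)) ⧸ H) =
            ((1 : ↥(alternatingGroup (Fin 6))) : ↥(alternatingGroup (Fin 6)) ⧸ H) :=
          (congrArg (fun π : Perm _ => π ((1 : ↥(alternatingGroup (Fin 6))) :
            ↥(alternatingGroup (Fin 6)) ⧸ H)) h1 :)
        rw [MulAction.Quotient.smul_mk, smul_eq_mul, mul_one, QuotientGroup.eq, mul_one] at h2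
        simpa using inv_mem h2
      rw [htop, index_top] at hk
      omega
  -- no subgroup of order forty
  have h40 : Nat.card ↥H ≠ 40 := by
    intro h
    obtain ⟨P, hP⟩ := (IsPGroup.of_card (p := 5) (n := 1) (G := ↥((zpowers b).subgroupOf H))
      (by
        rw [Nat.card_congr (subgroupOfEquivOfLe (zpowers_le.2 hb)).toEquiv, Nat.card_zpowers, hord]
        rfl)).exists_le_sylow
    have hn : Nat.card (Sylow 5 ↥H) = 1 := by
      have h1 := card_sylow_modEq_one 5 ↥H
      have h2 := P.card_dvd_index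
      have hP5 : Nat.card ↥(P : Subgroup ↥H) = 5 := by
        rw [P.card_eq_multiplicity, h]
        have e : (40 : ℕ).factorization 5 = 1 := by
          rw [show (40 : ℕ) = 5 * 8 from rfl, Nat.factorization_mul (by norm_num) (by norm_num)]
          simp [Nat.Prime.factorization_self Nat.prime_five,
            Nat.factorization_eq_zero_of_not_dvd (show ¬ 5 ∣ 8 by norm_num)]
        rw [e, pow_one]
      have h3 := card_mul_index (P : Subgroup ↥H)
      rw [hP5, h] at h3
      rw [show (P : Subgroup ↥H).index = 8 by omega] at h2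
      have hle := Nat.le_of_dvd (by norm_num) h2
      unfold Nat.ModEq at h1
      interval_cases hc : Nat.card (Sylow 5 ↥H) <;> omega
    have hPn : (P : Subgroup ↥H).Normal := by
      haveI := Nat.card_eq_one_iff_unique.1 hn |>.1
      exact Sylow.normal_of_subsingleton P
    have hPeq : (zpowers b).subgroupOf H = P := by
      refine eq_of_le_of_card_ge hP ?_
      rw [Nat.card_congr (subgroupOfEquivOfLe (zpowers_le.2 hb)).toEquiv, Nat.card_zpowers, hord,
        P.card_eq_multiplicity, h]
      have e : (40 : ℕ).factorization 5 = 1 := by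
        rw [show (40 : ℕ) = 5 * 8 from rfl, Nat.factorization_mul (by norm_num) (by norm_num)]
        simp [Nat.Prime.factorization_self Nat.prime_five,
          Nat.factorization_eq_zero_of_not_dvd (show ¬ 5 ∣ 8 by norm_num)]
      rw [e, pow_one]
    apply hsN
    rw [← hPeq] at hPn
    refine mem_normalizer_iff.2 fun x => ⟨fun hx => ?_, fun hx => ?_⟩
    · have := hPn.conj_mem ⟨x, zpowers_le.2 hb hx⟩ hx ⟨s, hsH⟩
      exact this
    · have := hPn.conj_mem ⟨s * x * s⁻¹, zpowers_le.2 hb hx⟩ hx ⟨s, hsH⟩⁻¹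
      simpa [mem_subgroupOf, mul_assoc] using this
  have hidx : H.index ≤ 10 := by
    by_contra hlt
    have := Nat.mul_le_mul h35 (show 11 ≤ H.index by omega)
    omega
  have hpos : 0 < H.index := Nat.pos_of_ne_zero index_ne_zero_of_finite
  rcases (show H.index = 1 ∨ (2 ≤ H.index ∧ H.index ≤ 4) ∨ H.index = 5 ∨ H.index = 6 ∨
      H.index = 7 ∨ H.index = 8 ∨ H.index = 9 ∨ H.index = 10 by omega) with
    e | ⟨e1, e2⟩ | e | e | e | e | e | e
  · exact Or.inl e
  · exact absurd (hsimple _ rfl e1 e2) id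
  · exfalso; rw [e] at hmul; omega
  · exact Or.inr e
  · exfalso; rw [e] at hmul; omega
  · exfalso; rw [e] at hmul; omega
  · exact absurd (by rw [e] at hmul; omega) h40
  · exfalso; rw [e] at hmul; omega

theorem alt_double : ∀ i j : Fin 6, i ≠ j →
    ∃ σ : Perm (Fin 6), σ 0 = i ∧ σ 1 = j ∧ Perm.sign σ = 1 := by decide +kernel

end Odd

end Cfsg.Agent.H47.Ex9
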