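import Cfsg.Agent.H47.Ex9.Plane

/-!
Finite checks on the tensor product of the natural modules of three and six points.
-/

set_option autoImplicit false
set_option maxRecDepth 10000
set_option synthInstance.maxSize 2048
set_option synthInstance.maxHeartbeats 100000

namespace Cfsg.Agent.H47.Ex9.Plane

open Equiv

theorem mix_swap (p : W × W) : mix (swap 0 1) p = (p.1 + p.2, p.2) := by
  show (p.1 + p.2, 0 + p.2) = _
  rw [zero_add]

theorem act_zero (σ : Perm (Fin 6)) : act σ 0 = 0 := by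
  have h := act_add σ 0 0
  rw [add_zero] at h
  exact left_eq_add.1 h

theorem moved_by_swap : ∀ x : W, x + act (swap 0 1) x = 0 ∨ x + act (swap 0 1) x = e₀ := by
  decide +kernel

theorem move_g : ∃ s : Perm (Fin 6), act s e₀ = e₀ ∧ act s g₀ = g₀ + e₀ :=
  ⟨swap 2 3 * swap 4 5, by decide +kernel⟩

/-- Even permutations taking `e₀` to the nonzero vectors. -/
def movers : List (Perm (Fin 6)) :=
  [swap 0 3 * swap 1 4, swap 0 2 * swap 1 4, swap 0 2 * swap 1 3, swap 0 4 * swap 0 1, swap 0 3 * swap 0 1, swap 0 2 * swap 0 1, swap 1 2 * swap 1 5, swap 1 2 * swap 1 4, swap 1 2 * swap 1 3, swap 1 2 * swap 4 5, swap 0 5 * swap 0 1, 1, swap 0 2 * swap 1 5, swap 0 3 * swap 1 5, swap 0 4 * swap 1 5]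

/-- Even permutations fixing `e₀` and taking the other vectors orthogonal to it to `g₀`. -/
def movers' : List (Perm (Fin 6)) :=
  [1, swap 2 5 * swap 2 3, swap 2 4 * swap 2 3, swap 2 3 * swap 4 5, swap 3 5 * swap 3 4, swap 3 4 * swap 3 5]

theorem movers_even : (movers.all fun s => decide (Perm.sign s = 1)) = true ∧
    (movers'.all fun s => decide (Perm.sign s = 1 ∧ act s e₀ = e₀)) = true := by decide +kernel

theorem movers_spec : (∀ y : W, y ≠ 0 → (movers.any fun s => decide (act s e₀ = y)) = true) ∧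
    ∀ y : W, y ≠ 0 → y ≠ e₀ → β e₀ y = 0 →
      (movers'.any fun s => decide (act s y = g₀)) = true := by decide +kernel

/-- Even permutations act transitively on nonzero vectors. -/
theorem transitive (y : W) (hy : y ≠ 0) :
    ∃ s : Perm (Fin 6), act s e₀ = y ∧ Perm.sign s = 1 := by
  obtain ⟨s, hs, h⟩ := List.any_eq_true.1 (movers_spec.1 y hy)
  exact ⟨s, of_decide_eq_true h, of_decide_eq_true (List.all_eq_true.1 movers_even.1 s hs)⟩

/-- The second normalisation. -/
theorem transitive' (y : W) (hy : y ≠ 0) (hye : y ≠ e₀) (hq : β e₀ y = 0) :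
    ∃ s : Perm (Fin 6), act s e₀ = e₀ ∧ act s y = g₀ ∧ Perm.sign s = 1 := by
  obtain ⟨s, hs, h⟩ := List.any_eq_true.1 (movers_spec.2 y hy hye hq)
  obtain ⟨h1, h2⟩ := of_decide_eq_true (List.all_eq_true.1 movers_even.2 s hs)
  exact ⟨s, h2, of_decide_eq_true h, h1⟩

/-- No even transvection. -/
theorem no_transvection : ∀ s : Perm (Fin 6),
    8 ≤ (Finset.univ.filter fun x : W => act s x = x).card → Perm.sign s = 1 → s = 1 := by
  decide +kernel

theorem fix_two : ∀ σ : Perm (Fin 3), σ 2 = 2 → σ = 1 ∨ σ = swap 0 1 := by decide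

/-- The three-point involutions are conjugate to the standard one. -/
theorem conj_swap : ∀ σ : Perm (Fin 3), σ * σ = 1 → σ ≠ 1 →
    ∃ π : Perm (Fin 3), π * σ * π⁻¹ = swap 0 1 := by decide

/-- A short list of permutations. -/
def four : List (Perm (Fin 6)) :=
  [1, swap 2 3 * swap 4 5, swap 2 4 * swap 3 5, swap 2 5 * swap 3 4]

/-- Some even permutations fixing `e₀`. -/
def stabList : List (Perm (Fin 6)) :=
  [1, swap 2 3 * swap 3 4, swap 3 4 * swap 4 5, swap 0 1 * swap 2 3, swap 0 1 * swap 3 4,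
    swap 0 1 * swap 4 5, swap 0 1 * swap 2 4, swap 0 1 * swap 2 5]

theorem stabList_spec (t : Perm (Fin 6)) (ht : t ∈ stabList) : act t e₀ = e₀ ∧ Perm.sign t = 1 :=
  of_decide_eq_true (List.all_eq_true.1 (by decide +kernel :
    (stabList.all fun t => decide (act t e₀ = e₀ ∧ Perm.sign t = 1)) = true) t ht)

/-- The only candidates for a normal 2-subgroup of the stabiliser of `e₀`. -/
theorem core_e₀ : ∀ s : Perm (Fin 6), act s e₀ = e₀ →
    (∀ t ∈ stabList, s * (t * s * t⁻¹) * (s * (t * s * t⁻¹) * (s * (t * s * t⁻¹))) = 1 →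
      s * (t * s * t⁻¹) = 1) →
    Perm.sign s = 1 → s ∈ four := by
  have h : ∀ s, act s e₀ = e₀ →
      (stabList.all fun t => decide (s * (t * s * t⁻¹) * (s * (t * s * t⁻¹) * (s * (t * s * t⁻¹))) = 1 →
        s * (t * s * t⁻¹) = 1)) = true →
      Perm.sign s = 1 → s ∈ four := by decide +kernel
  exact fun s h1 h2 => h s h1 (List.all_eq_true.2 fun t ht => decide_eq_true (h2 t ht))

theorem move_four : ∃ a : W, β e₀ a = 0 ∧ a + act (swap 2 3 * swap 4 5) a = e₀ := by decide +kernel

/-- Central involutions of the stabiliser of a pure vector. -/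
theorem central_pure : ∀ s : Perm (Fin 6), act s e₀ = e₀ → s * s = 1 →
    (∀ t ∈ stabList, s * t = t * s) → Perm.sign s = 1 → s = 1 := by
  have h : ∀ s, act s e₀ = e₀ → s * s = 1 →
      (stabList.all fun t => decide (s * t = t * s)) = true → Perm.sign s = 1 → s = 1 := by
    decide +kernel
  exact fun s h1 h2 h3 => h s h1 h2 (List.all_eq_true.2 fun t ht => decide_eq_true (h3 t ht))

/-- Elements of the stabiliser of a vector of rank two. -/
def pairList : List (Perm (Fin 3) × Perm (Fin 6)) :=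
  [(1, swap 0 1 * swap 3 4), (1, swap 0 1 * swap 2 5), (swap 0 2, swap 0 3 * swap 1 4),
    (swap 0 1, swap 0 2 * swap 1 5)]

theorem pairList_spec (m : Perm (Fin 3) × Perm (Fin 6)) (hm : m ∈ pairList) :
    act2 m (e₀, g₀) = (e₀, g₀) ∧ Perm.sign m.2 = 1 :=
  of_decide_eq_true (List.all_eq_true.1 (by decide +kernel :
    (pairList.all fun m => decide (act2 m (e₀, g₀) = (e₀, g₀) ∧ Perm.sign m.2 = 1)) = true) m hm)

/-- Central involutions of the stabiliser of a vector of rank two. -/
theorem central_pair : ∀ s : Perm (Fin 6), s * s = 1 → ∀ σ : Perm (Fin 3),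
    act2 (σ, s) (e₀, g₀) = (e₀, g₀) →
    (∀ m ∈ pairList, σ * m.1 = m.1 * σ ∧ s * m.2 = m.2 * s) → Perm.sign s = 1 → s = 1 := by
  have h : ∀ s : Perm (Fin 6), s * s = 1 → ∀ σ : Perm (Fin 3),
      act2 (σ, s) (e₀, g₀) = (e₀, g₀) →
      (pairList.all fun m => decide (σ * m.1 = m.1 * σ ∧ s * m.2 = m.2 * s)) = true →
      Perm.sign s = 1 → s = 1 := by
    decide +kernel
  exact fun s h1 σ h2 h3 => h s h1 σ h2 (List.all_eq_true.2 fun m hm => decide_eq_true (h3 m hm))

/-- Pure vectors are moved to the first place. -/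
theorem pure_cases : ∀ x : W,
    (∃ σ : Perm (Fin 3), mix σ (0, x) = (x, 0)) ∧ ∃ σ : Perm (Fin 3), mix σ (x, x) = (x, 0) := by
  decide +kernel

end Cfsg.Agent.H47.Ex9.Plane
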