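import Cfsg.Agent.H47.Ex9.Coord

/-!
An involution of the quotient moving a subspace of at most four vectors: good lifts, and the parity
criterion for it.
-/

set_option autoImplicit false

namespace Cfsg.Agent.H47.Ex9.Frame.Coord

open Subgroup Cfsg.Agent.H92
open Cfsg.Agent.H92.ExtraForm (zp zp_inj two_cases zp_add)
open scoped commutatorElement

universe u v

variable {G : Type u} [Group G] [Finite G] {M : Type v} [Group M] [Finite M] {F : Frame G M}
  {U : Type} [AddCommGroup U] [Fintype U] (K : F.Coord U)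

set_option linter.unusedSectionVars false

include K

/-- The moved vectors. -/
def rad (m : M) : AddSubgroup U where
  carrier := {v | ∃ w, w + K.φ m w = v}
  zero_mem' := ⟨0, by rw [K.φ_zero, add_zero]⟩
  add_mem' := fun {a b} ⟨w, hw⟩ ⟨w', hw'⟩ => ⟨w + w', by rw [K.φ_add, ← hw, ← hw']; abel⟩
  neg_mem' := fun {a} ⟨w, hw⟩ => ⟨w, by rw [K.neg_eq, hw]⟩

/-- The fixed vectors. -/
def fix (m : M) : AddSubgroup U where
  carrier := {v | K.φ m v = v}
  zero_mem' := K.φ_zero m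
  add_mem' := fun {a b} ha hb => show K.φ m (a + b) = a + b by rw [K.φ_add, ha, hb]
  neg_mem' := fun {a} ha => show K.φ m (-a) = -a by rwa [K.neg_eq]

theorem mem_fix {m : M} {v : U} : v ∈ K.fix m ↔ K.φ m v = v := Iff.rfl

theorem mem_rad {m : M} {v : U} : v ∈ K.rad m ↔ ∃ w, w + K.φ m w = v := Iff.rfl

variable {m : M}

theorem φ_φ (hm : m * m = 1) (v : U) : K.φ m (K.φ m v) = v := by
  rw [← K.φ_mul, hm, map_one]; rfl

theorem rad_le_fix (hm : m * m = 1) : K.rad m ≤ K.fix m := by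
  rintro _ ⟨w, rfl⟩
  rw [K.mem_fix, K.φ_add, K.φ_φ hm, add_comm]

theorem B_φ (hm : m * m = 1) (u v : U) : K.B u (K.φ m v) = K.B (K.φ m u) v := by
  rw [← K.φ_B m u, K.φ_φ hm]

theorem perp_rad (hm : m * m = 1) : F2Forms.perp K.B (K.rad m) = K.fix m := by
  ext v
  rw [F2Forms.mem_perp, K.mem_fix]
  constructor
  · intro h
    refine (K.eq_of_add (K.quad.nondeg _ fun u => ?_)).symm
    have := h _ ⟨u, rfl⟩
    rw [map_add, K.B_φ hm, ← AddMonoidHom.add_apply, ← map_add] at this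
    rwa [K.B_comm]
  · rintro h _ ⟨u, rfl⟩
    rw [map_add, K.B_φ hm, h]
    exact CharTwo.add_self_eq_zero _

theorem card_rad_fix (hm : m * m = 1) : Nat.card ↥(K.fix m) * Nat.card ↥(K.rad m) = 256 := by
  rw [← K.perp_rad hm, K.card_perp]

theorem perp_fix (hm : m * m = 1) : F2Forms.perp K.B (K.fix m) = K.rad m := by
  have h1 := K.card_perp (K.fix m)
  have h2 := K.card_rad_fix hm
  have hle : K.rad m ≤ F2Forms.perp K.B (K.fix m) := fun r hr => F2Forms.mem_perp.2 fun v hv => by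
    rw [← K.perp_rad hm] at hv
    rw [K.B_comm]
    exact hv r hr
  refine (AddSubgroup.eq_of_le_of_card_ge hle ?_).symm
  have hpos : 0 < Nat.card ↥(K.fix m) := Nat.card_pos
  nlinarith

/-- A nondegenerate subgroup represents its functionals. -/
theorem exists_rep {W : AddSubgroup U} (hW : ∀ w ∈ W, (∀ v ∈ W, K.B w v = 0) → w = 0)
    (f : ↥W →+ ZMod 2) : ∃ w ∈ W, ∀ v : ↥W, K.B w v = f v := by
  classical
  by_cases hf : f = 0
  · exact ⟨0, W.zero_mem, fun v => by simp [hf]⟩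
  let BW : ↥W →+ ↥W →+ ZMod 2 :=
    AddMonoidHom.mk' (fun a => (K.B a).comp W.subtype) fun a b => by ext; simp
  have hnd : ∀ w : ↥W, (∀ v, BW v w = 0) → w = 0 := fun w hw =>
    Subtype.ext (hW w w.2 fun v hv => by rw [K.B_comm]; exact hw ⟨v, hv⟩)
  have hsurj : Function.Surjective f := by
    obtain ⟨v, hv⟩ : ∃ v, f v ≠ 0 := by
      by_contra h
      push Not at h
      exact hf (AddMonoidHom.ext h)
    intro c
    rcases two_cases c with rfl | rfl
    · exact ⟨0, map_zero f⟩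
    · exact ⟨v, (two_cases _).resolve_left hv⟩
  have hidx : f.ker.index = 2 := by
    rw [AddSubgroup.index_ker, AddMonoidHom.range_eq_top.2 hsurj,
      Nat.card_congr AddSubgroup.topEquiv.toEquiv, Nat.card_zmod]
  have h1 := F2Forms.card_perp BW hnd f.ker
  have h2 := AddSubgroup.card_mul_index f.ker
  rw [hidx] at h2
  have h3 : 1 < Nat.card ↥(F2Forms.perp BW f.ker) := by
    have hpos : 0 < Nat.card ↥f.ker := Nat.card_pos
    nlinarith
  haveI := Finite.one_lt_card_iff_nontrivial.1 h3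
  obtain ⟨⟨w, hw⟩, hw0⟩ := exists_ne (0 : ↥(F2Forms.perp BW f.ker))
  have hker : ∀ v : ↥W, f v = 0 → K.B w v = 0 := fun v hv => hw v hv
  obtain ⟨v₁, hv₁⟩ := hsurj 1
  have hw1 : K.B w v₁ = 1 := by
    refine (two_cases _).resolve_left fun h => hw0 (Subtype.ext (hnd w fun v => ?_))
    show K.B v w = 0
    rw [K.B_comm]
    rcases two_cases (f v) with e | e
    · exact hker v e
    · have := hker (v + v₁) (by rw [map_add, e, hv₁]; decide)
      rw [AddSubgroup.coe_add, map_add, h, add_zero] at this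
      exact this
  refine ⟨w, w.2, fun v => ?_⟩
  rcases two_cases (f v) with e | e
  · rw [e, hker v e]
  · have := hker (v + v₁) (by rw [map_add, e, hv₁]; decide)
    rw [AddSubgroup.coe_add, map_add, hw1] at this
    rw [e]
    exact CharTwo.add_eq_zero.1 this

/-- A complement of the moved vectors in the fixed ones; it is nondegenerate. -/
theorem exists_complement (hm : m * m = 1) : ∃ W : AddSubgroup U, W ≤ K.fix m ∧
    (∀ w ∈ W, w ∈ K.rad m → w = 0) ∧ (∀ c ∈ K.fix m, ∃ w ∈ W, c + w ∈ K.rad m) ∧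
    (∀ w ∈ W, (∀ v ∈ W, K.B w v = 0) → w = 0) ∧
    256 ≤ Nat.card ↥W * (Nat.card ↥(K.rad m) * Nat.card ↥(K.rad m)) := by
  classical
  let S : Set (AddSubgroup U) := {W | W ≤ K.fix m ∧ ∀ w ∈ W, w ∈ K.rad m → w = 0}
  obtain ⟨W, hW⟩ := S.toFinite.exists_maximal ⟨⊥, bot_le, fun w hw _ => (AddSubgroup.mem_bot.1 hw)⟩
  obtain ⟨hWC, hWR⟩ := hW.prop
  have hcov : ∀ c ∈ K.fix m, ∃ w ∈ W, c + w ∈ K.rad m := by
    intro c hc
    by_contra h
    push Not at h
    let W' : AddSubgroup U :=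
      { carrier := {x | x ∈ W ∨ x + c ∈ W}
        zero_mem' := Or.inl W.zero_mem
        add_mem' := fun {a b} ha hb => by
          rcases ha with ha | ha <;> rcases hb with hb | hb
          · exact Or.inl (W.add_mem ha hb)
          · exact Or.inr (by rw [add_assoc]; exact W.add_mem ha hb)
          · exact Or.inr (by rw [add_right_comm]; exact W.add_mem ha hb)
          · refine Or.inl ?_
            have := W.add_mem ha hb
            rwa [add_add_add_comm, K.add_self, add_zero] at this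
        neg_mem' := fun {a} ha => by rwa [K.neg_eq] }
    have hle : W ≤ W' := fun x hx => Or.inl hx
    have hS : W' ∈ S := by
      refine ⟨?_, ?_⟩
      · intro x hx
        rcases hx with hx | hx
        · exact hWC hx
        · rw [← K.add_cancel x c]; exact (K.fix m).add_mem (hWC hx) hc
      · rintro x (hx | hx) hxr
        · exact hWR x hx hxr
        · refine absurd ?_ (h _ hx)
          rwa [add_comm x c, ← add_assoc, K.add_self, zero_add]
    have hc' : c ∈ W' := Or.inr (by rw [K.add_self]; exact W.zero_mem)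
    exact h c (hW.le_of_ge hS hle hc') (by rw [K.add_self]; exact (K.rad m).zero_mem)
  refine ⟨W, hWC, hWR, hcov, fun w hw hperp => hWR w hw ?_, ?_⟩
  · rw [← K.perp_fix hm, F2Forms.mem_perp]
    intro c hc
    obtain ⟨w', hw', hr⟩ := hcov c hc
    have h0 : K.B (c + w') w = 0 := by
      have := (K.perp_fix hm ▸ hr : c + w' ∈ F2Forms.perp K.B (K.fix m)) w (hWC hw)
      exact this
    rw [K.B_comm, map_add, hperp w' hw', add_zero] at h0
    exact h0
  · have hle : Nat.card ↥(K.fix m) ≤ Nat.card ↥W * Nat.card ↥(K.rad m) := by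
      rw [← Nat.card_prod]
      choose f hf hf' using hcov
      refine Nat.card_le_card_of_injective
        (fun c => (⟨f c c.2, hf c c.2⟩, ⟨c + f c c.2, hf' c c.2⟩)) fun a b h => ?_
      have e1 := congrArg (fun p : ↥W × ↥(K.rad m) => (p.1 : U)) h
      have e2 := congrArg (fun p : ↥W × ↥(K.rad m) => (p.2 : U)) h
      simp only at e1 e2
      exact Subtype.ext (add_right_cancel (e2.trans (by rw [e1])))
    have := K.card_rad_fix hm
    rw [← mul_assoc]
    exact this.symm.le.trans (Nat.mul_le_mul_right _ hle)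

theorem conj_zp {x : G} (hx : x ∈ F.H) (c : ZMod 2) : x * zp F.z c * x⁻¹ = zp F.z c := by
  rcases two_cases c with rfl | rfl <;> simp [zp]
  rw [(F.mem_H.1 hx).eq, mul_inv_cancel_right]

omit K in
theorem z_central {q : G} (hq : q ∈ F.Q) {c : G} (hc : c = 1 ∨ c = F.z) : Commute c q := by
  rcases hc with rfl | rfl
  · exact Commute.one_left q
  · exact (F.mem_H.1 (F.Q_le hq)).symm

/-- Squares of lifts centralising the preimage of a complement are adjusted within `Q`. -/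
theorem exists_adjust {W : AddSubgroup U} (hWC : W ≤ K.fix m)
    (hW : ∀ w ∈ W, (∀ v ∈ W, K.B w v = 0) → w = 0) {x : G} (hx : x ∈ F.H)
    (hxm : F.π ⟨x, hx⟩ = m) :
    ∃ y ∈ F.Q, (∀ a ∈ K.lift W, Commute a (x * y)) ∧
      (x * y * (x * y) = x * x ∨ x * y * (x * y) = x * x * F.z) := by
  classical
  have hc : ∀ a ∈ K.lift W, ∃ c, x * a * x⁻¹ = a * zp F.z c := by
    intro a ha
    have h : K.ν a = K.ν (x * a * x⁻¹) := by rw [K.ν_conj x hx a ha.1, hxm]; exact (hWC ha.2).symm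
    rcases K.eq_or_eq ha.1 (F.conj_mem hx ha.1) h with e | e
    · exact ⟨0, by rw [e]; simp [zp]⟩
    · exact ⟨1, by rw [e]; simp [zp]⟩
  choose fc hfc using hc
  have hsur : ∀ w : ↥W, ∃ a ∈ K.lift W, K.ν a = w := fun w => by
    obtain ⟨a, ha, e⟩ := K.ν_surj w
    exact ⟨a, ⟨ha, by rw [e]; exact w.2⟩, e⟩
  choose lf hlf hlf' using hsur
  have hcongr : ∀ a (ha : a ∈ K.lift W) b (hb : b ∈ K.lift W), K.ν a = K.ν b → fc a ha = fc b hb := by
    intro a ha b hb h
    refine zp_inj F.z_ne (mul_left_cancel (a := b) ?_)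
    rw [← hfc b hb]
    rcases K.eq_or_eq ha.1 hb.1 h with e | e
    · subst e; rw [hfc]
    · subst e
      rw [show x * (a * F.z) * x⁻¹ = (x * a * x⁻¹) * (x * F.z * x⁻¹) by group, hfc a ha,
        (F.mem_H.1 hx).eq, mul_inv_cancel_right]
      rcases two_cases (fc a ha) with e | e <;> rw [e] <;> simp [zp, mul_assoc]
  let f : ↥W →+ ZMod 2 := AddMonoidHom.mk' (fun w => fc _ (hlf w)) fun v w => by
    have hvw : lf v * lf w ∈ K.lift W := mul_mem (hlf v) (hlf w)
    rw [hcongr _ (hlf (v + w)) _ hvw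
      (by rw [hlf', K.ν_mul _ (hlf v).1 _ (hlf w).1, hlf', hlf']; rfl)]
    refine zp_inj F.z_ne (mul_left_cancel (a := lf v * lf w) ?_)
    rw [← hfc, show x * (lf v * lf w) * x⁻¹ = (x * lf v * x⁻¹) * (x * lf w * x⁻¹) by group,
      hfc, hfc, zp_add F.z_sq]
    have hzc : Commute (zp F.z (fc _ (hlf v))) (lf w) := by
      rcases two_cases (fc _ (hlf v)) with e | e <;> rw [e]
      · exact z_central (hlf w).1 (Or.inl rfl)
      · exact z_central (hlf w).1 (Or.inr rfl)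
    simp only [mul_assoc]
    rw [← mul_assoc (lf w), ← hzc.eq, mul_assoc]
  obtain ⟨w, hw, hf⟩ := K.exists_rep hW f
  obtain ⟨y, hy, rfl⟩ := K.ν_surj w
  refine ⟨y, hy, fun a ha => ?_, ?_⟩
  · refine (mul_inv_eq_iff_eq_mul.1 ?_ : x * y * a = a * (x * y)).symm
    rw [show x * y * a * (x * y)⁻¹ = x * (y * a * y⁻¹) * x⁻¹ by group, K.conj_eq hy ha.1,
      show x * (a * zp F.z (K.B (K.ν y) (K.ν a))) * x⁻¹ =
        (x * a * x⁻¹) * (x * zp F.z (K.B (K.ν y) (K.ν a)) * x⁻¹) by group,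
      K.conj_zp hx, hfc a ha, mul_assoc, ← zp_add F.z_sq, hf ⟨K.ν a, ha.2⟩]
    show a * zp F.z (fc a ha + fc _ _) = a
    rw [hcongr a ha _ (hlf _) (hlf' ⟨K.ν a, ha.2⟩).symm, CharTwo.add_self_eq_zero]
    simp [zp]
  · have hyW : y ∈ K.lift W := ⟨hy, hw⟩
    have e : x * y * (x * y) = (x * y * x⁻¹) * (x * x) * y := by group
    have hxx : x * x ∈ F.H := mul_mem hx hx
    have e2 : (x * x) * y * (x * x)⁻¹ = y := by
      rw [show (x * x) * y * (x * x)⁻¹ = x * (x * y * x⁻¹) * x⁻¹ by group, hfc y hyW,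
        show x * (y * zp F.z (fc y hyW)) * x⁻¹ = (x * y * x⁻¹) * (x * zp F.z (fc y hyW) * x⁻¹) by group,
        K.conj_zp hx, hfc y hyW, mul_assoc, ← zp_add F.z_sq, CharTwo.add_self_eq_zero]
      simp [zp]
    rw [e, hfc y hyW, mul_assoc _ (x * x), mul_inv_eq_iff_eq_mul.1 e2]
    rcases two_cases (fc y hyW) with e1 | e1 <;> rcases F.sq_Q hy with e3 | e3 <;> rw [e1] <;>
      simp only [zp, if_pos, one_ne_zero, if_false, mul_one]
    · left; rw [← mul_assoc, e3, one_mul]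
    · right; rw [← mul_assoc, e3, (F.mem_H.1 hxx).eq]
    · right
      rw [mul_assoc y, ← mul_assoc F.z, (F.mem_H.1 (F.Q_le hy)).symm.eq, mul_assoc y F.z,
        ← mul_assoc y y, e3, one_mul, (F.mem_H.1 hxx).eq]
    · left
      rw [mul_assoc y, ← mul_assoc F.z, (F.mem_H.1 (F.Q_le hy)).symm.eq, mul_assoc y F.z,
        ← mul_assoc y y, e3, ← mul_assoc, F.z_sq, one_mul]

/-- A lift squaring into `⟨z⟩` and centralising the preimage of a complement. -/
theorem exists_lift (hm : m * m = 1) {W : AddSubgroup U} (hWC : W ≤ K.fix m)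
    (hcov : ∀ c ∈ K.fix m, ∃ w ∈ W, c + w ∈ K.rad m)
    (hW : ∀ w ∈ W, (∀ v ∈ W, K.B w v = 0) → w = 0) :
    ∃ (x : G) (hx : x ∈ F.H), F.π ⟨x, hx⟩ = m ∧ (x * x = 1 ∨ x * x = F.z) ∧
      ∀ a ∈ K.lift W, Commute a x := by
  have hπ : ∀ (x : G) (hx : x ∈ F.H), F.π ⟨x, hx⟩ = m → ∀ (y : G) (hy : y ∈ F.Q),
      F.π ⟨x * y, mul_mem hx (F.Q_le hy)⟩ = m := fun x hx h y hy => by
    rw [show (⟨x * y, mul_mem hx (F.Q_le hy)⟩ : ↥(centralizer ({F.z} : Set G))) =
      ⟨x, hx⟩ * ⟨y, F.Q_le hy⟩ from rfl, map_mul, h, (F.π_ker ⟨y, F.Q_le hy⟩).2 hy, mul_one]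
  obtain ⟨⟨x₀, hx₀⟩, hx₀m⟩ := F.π_surj m
  obtain ⟨y, hy, hcA, -⟩ := K.exists_adjust hWC hW hx₀ hx₀m
  have hx := mul_mem hx₀ (F.Q_le hy)
  have hxm := hπ x₀ hx₀ hx₀m y hy
  set x := x₀ * y
  have hs : x * x ∈ F.Q := (F.π_ker (⟨x, hx⟩ * ⟨x, hx⟩)).1 (by rw [map_mul, hxm, hm])
  have hsC : K.ν (x * x) ∈ K.fix m := by
    rw [K.mem_fix, ← hxm, ← K.ν_conj x hx _ hs]; congr 1; group
  obtain ⟨w, hw, hr⟩ := hcov _ hsC
  have hw0 : w = 0 := hW w hw fun v hv => by
    obtain ⟨a, ha, rfl⟩ := K.ν_surj v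
    have haW : a ∈ K.lift W := ⟨ha, hv⟩
    have h1 : K.B (K.ν (x * x)) (K.ν a) = 0 :=
      (K.commute_iff hs ha).1 (((hcA a haW).mul_right (hcA a haW)).symm)
    have h2 : K.B (K.ν (x * x) + w) (K.ν a) = 0 :=
      (K.perp_fix hm ▸ hr : _ ∈ F2Forms.perp K.B (K.fix m)) _ (hWC hv)
    rwa [map_add, AddMonoidHom.add_apply, h1, zero_add] at h2
  rw [hw0, add_zero] at hr
  obtain ⟨t, ht⟩ := hr
  obtain ⟨a, ha, rfl⟩ := K.ν_surj t
  have hx' := mul_mem hx (F.Q_le ha)
  have hx'm := hπ x hx hxm a ha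
  have hsq : x * a * (x * a) = 1 ∨ x * a * (x * a) = F.z := by
    have h1 : x * a * x⁻¹ ∈ F.Q := F.conj_mem hx ha
    have e : x * a * (x * a) = (x * a * x⁻¹) * (x * x) * a := by group
    have hm' : x * a * (x * a) ∈ F.Q := by rw [e]; exact mul_mem (mul_mem h1 hs) ha
    refine (K.ν_eq_zero _ hm').1 ?_
    rw [e, K.ν_mul _ (mul_mem h1 hs) _ ha, K.ν_mul _ h1 _ hs, K.ν_conj x hx a ha, hxm, ← ht,
      add_assoc, add_comm (K.ν a) (K.φ m (K.ν a)), K.add_cancel, K.add_self]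
  obtain ⟨y', hy', hcA', hsq'⟩ := K.exists_adjust hWC hW hx' hx'm
  refine ⟨_, mul_mem hx' (F.Q_le hy'), hπ _ hx' hx'm y' hy', ?_, hcA'⟩
  rcases hsq with e | e <;> rcases hsq' with e' | e' <;> rw [e'] <;> rw [e] <;> simp [F.z_sq]

/-- A lift squaring into `⟨z⟩` centralises the singular preimages of moved vectors. -/
theorem commute_rad {x : G} (hx : x ∈ F.H) (hxm : F.π ⟨x, hx⟩ = m)
    (hx2 : x * x = 1 ∨ x * x = F.z) {a : G} (ha : a ∈ F.Q) (har : K.ν a ∈ K.rad m)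
    (hq : K.q (K.ν a) = 0) : Commute a x := by
  obtain ⟨w, hw⟩ := har
  obtain ⟨b, hb, rfl⟩ := K.ν_surj w
  have hxb := F.conj_mem hx hb
  set r := b⁻¹ * (x * b * x⁻¹) with hr
  have hrQ : r ∈ F.Q := mul_mem (inv_mem hb) hxb
  have hrν : K.ν r = K.ν a := by
    rw [K.ν_mul _ (inv_mem hb) _ hxb, K.ν_inv hb, K.ν_conj x hx b hb, hxm, hw]
  have hr2 : r * r = 1 := (K.sq_iff hrQ).2 (by rw [hrν]; exact hq)
  have hxxb : (x * x) * b * (x * x)⁻¹ = b := by
    rw [(z_central (F := F) hb hx2).eq, mul_inv_cancel_right]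
  have hrx : x * r * x⁻¹ = r := by
    calc x * r * x⁻¹ = (x * b * x⁻¹)⁻¹ * ((x * x) * b * (x * x)⁻¹) := by rw [hr]; group
      _ = (x * b * x⁻¹)⁻¹ * b := by rw [hxxb]
      _ = r⁻¹ := by rw [hr]; group
      _ = r := inv_eq_of_mul_eq_one_left hr2
  have hc : Commute r x := (mul_inv_eq_iff_eq_mul.1 hrx).symm
  rcases K.eq_or_eq hrQ ha hrν with e | e <;> rw [e]
  · exact hc
  · exact hc.mul_left (F.mem_H.1 hx).symm

theorem card_center_lift {W : AddSubgroup U} (hW : ∀ w ∈ W, (∀ v ∈ W, K.B w v = 0) → w = 0) :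
    Nat.card (center ↥(K.lift W)) ≤ 2 := by
  have h2 : Nat.card ↥(K.lift (⊥ : AddSubgroup U)) = 2 := by rw [K.card_lift, AddSubgroup.card_bot]
  rw [← h2]
  refine Nat.card_le_card_of_injective (fun c => ⟨((c : ↥(K.lift W)) : G), c.1.2.1, ?_⟩)
    fun a b h => Subtype.ext (Subtype.ext (congrArg Subtype.val h :))
  refine AddSubgroup.mem_bot.2 (hW _ c.1.2.2 fun v hv => ?_)
  obtain ⟨a, ha, rfl⟩ := K.ν_surj v
  exact (K.commute_iff c.1.2.1 ha).1
    (congrArg Subtype.val (mem_center_iff.1 c.2 ⟨a, ha, hv⟩).symm :)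

set_option maxHeartbeats 1000000 in
/-- The parity criterion for an involution moving at most four vectors. -/
theorem false_of_small [IsSimpleGroup G] (M₀ : Subgroup M) (hM₀ : M₀.index = 2) (hm : m * m = 1)
    (hm0 : m ∉ M₀) (hr : Nat.card ↥(K.rad m) ≤ 4)
    (hv : ∀ g : G, g * F.z * g⁻¹ ∈ F.Q → g * F.z * g⁻¹ ≠ F.z →
      K.ν (g * F.z * g⁻¹) ∈ K.rad m →
      ∃ (y w : U) (n : M), n ∈ K.stab (K.ν (g * F.z * g⁻¹)) ∧
        K.B y (K.ν (g * F.z * g⁻¹)) = 1 ∧ K.B w (K.ν (g * F.z * g⁻¹)) = 0 ∧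
        (w + K.φ n w + (y + K.φ m y) = 0 ∨
          w + K.φ n w + (y + K.φ m y) = K.ν (g * F.z * g⁻¹))) : False := by
  classical
  obtain ⟨W, hWC, hWR, hcov, hW, hcard⟩ := K.exists_complement hm
  have hW16 : 16 ≤ Nat.card ↥W := by
    have := Nat.mul_le_mul_left (Nat.card ↥W) (Nat.mul_le_mul hr hr)
    omega
  obtain ⟨x, hx, hxm, hx2, hxA⟩ := K.exists_lift hm hWC hcov hW
  set A := K.lift W with hAdef
  have hA2 : Nat.card ↥A = 2 * Nat.card ↥W := K.card_lift W
  have h16 : 16 * Nat.card (center ↥A) ≤ Nat.card ↥A := by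
    have h := K.card_center_lift hW
    rw [hA2, hAdef]
    omega
  have hxP : IsPGroup 2 ↥(A ⊔ zpowers x) := by
    have hle : A ⊔ zpowers x ≤ F.pre (zpowers m) := by
      refine sup_le (fun a ha => ?_) (zpowers_le.2 (F.mem_pre.2 ⟨hx, by rw [hxm]; exact mem_zpowers m⟩))
      exact F.Q_le_pre _ ha.1
    refine IsPGroup.to_le ?_ hle
    refine IsPGroup.map ?_ _
    refine IsPGroup.comap_of_ker_isPGroup ?_ F.π ?_
    · refine IsPGroup.of_card (p := 2) (n := ?_) ?_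
      · exact (orderOf m).log 2
      · have hd : orderOf m ∣ 2 := orderOf_dvd_of_pow_eq_one (by rw [pow_two, hm])
        rw [Nat.card_zpowers]
        rcases (Nat.dvd_prime Nat.prime_two).1 hd with e | e <;> rw [e] <;> norm_num [Nat.log_pow]
    · refine (F.isPGroup_Q.comap_of_injective _ (subtype_injective _)).to_le
        (H := F.π.ker) fun a ha => ?_
      exact (F.π_ker a).1 ha
  refine F.false_of_parity M₀ hM₀ x hx (by rwa [hxm]) hx2 A (K.lift_le W) (K.z_mem_lift W) hxA hxP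
    ?_ ?_
  · intro g hne hxc hAc
    set p := g * F.z * g⁻¹ with hpdef
    have hpQ : p ∈ F.Q := by
      by_contra h
      exact F.no_conjugate h (K.lift_le W) (K.z_mem_lift W) hAc h16
    have hfix : K.ν p ∈ K.fix m := by
      rw [K.mem_fix, ← hxm, ← K.ν_conj x hx p hpQ, hxc.eq, mul_inv_cancel_right]
    have hprad : K.ν p ∈ K.rad m := by
      rw [← K.perp_fix hm, F2Forms.mem_perp]
      intro c hc
      obtain ⟨w, hw, hr'⟩ := hcov c hc
      obtain ⟨a, ha, rfl⟩ := K.ν_surj w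
      have h1 : K.B (K.ν p) (K.ν a) = 0 := (K.commute_iff hpQ ha).1 (hAc a ⟨ha, hw⟩).symm
      have h2 : K.B (c + K.ν a) (K.ν p) = 0 :=
        (K.perp_fix hm ▸ hr' : _ ∈ F2Forms.perp K.B (K.fix m)) _ hfix
      rw [K.B_comm, map_add, h1, add_zero] at h2
      exact h2
    obtain ⟨y, w, n, hn, hyp, hwp, hsum⟩ := hv g hpQ hne hprad
    obtain ⟨a, ha, rfl⟩ := K.ν_surj y
    obtain ⟨b, hb, rfl⟩ := K.ν_surj w
    obtain ⟨h, hh, hhn, hhp⟩ := K.lift_stab hpQ hne hn
    refine ⟨a, ha, K.conj_swap ha hpQ hyp, ?_⟩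
    set k := x⁻¹ * a⁻¹ * x * a with hk
    set c := h * b * h⁻¹ * b⁻¹ with hc
    have hbh := F.conj_mem hh hb
    have hcQ : c ∈ F.Q := mul_mem hbh (inv_mem hb)
    have hxi : x⁻¹ * a⁻¹ * x ∈ F.Q := F.conj_mem' hx (inv_mem ha)
    have hkQ : k ∈ F.Q := mul_mem hxi ha
    have hminv : F.π ⟨x⁻¹, inv_mem hx⟩ = m := by
      rw [show (⟨x⁻¹, inv_mem hx⟩ : ↥(centralizer ({F.z} : Set G))) = ⟨x, hx⟩⁻¹ from rfl, map_inv,
        hxm, inv_eq_of_mul_eq_one_right hm]
    have hνk : K.ν k = K.φ m (K.ν a) + K.ν a := by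
      rw [hk, K.ν_mul _ hxi _ ha, show x⁻¹ * a⁻¹ * x = x⁻¹ * a⁻¹ * x⁻¹⁻¹ by group,
        K.ν_conj _ (inv_mem hx) _ (inv_mem ha), K.ν_inv ha, hminv]
    have hνc : K.ν c = K.φ n (K.ν b) + K.ν b := by
      rw [hc, K.ν_mul _ hbh _ (inv_mem hb), K.ν_conj h hh b hb, hhn, K.ν_inv hb]
    have hkc : c * k = 1 ∨ c * k = F.z ∨ c * k = p ∨ c * k = p * F.z := by
      have hν : K.ν (c * k) = 0 ∨ K.ν (c * k) = K.ν p := by
        rw [K.ν_mul _ hcQ _ hkQ, hνc, hνk, add_comm (K.φ n _), add_comm (K.φ m _)]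
        exact hsum
      rcases hν with e | e
      · rcases (K.ν_eq_zero _ (mul_mem hcQ hkQ)).1 e with e' | e'
        · exact Or.inl e'
        · exact Or.inr (Or.inl e')
      · rcases K.eq_or_eq hpQ (mul_mem hcQ hkQ) e.symm with e' | e'
        · exact Or.inr (Or.inr (Or.inl e'))
        · exact Or.inr (Or.inr (Or.inr e'))
    have hckQ : g⁻¹ * (c * k) * g ∈ F.Q := by
      have hzg : g⁻¹ * F.z * g ∈ F.Q := F.inv_mem_Q hpQ
      have hpg : g⁻¹ * p * g = F.z := by rw [hpdef]; group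
      rcases hkc with e | e | e | e <;> rw [e]
      · simp
      · exact hzg
      · rw [hpg]; exact F.zQ
      · rw [show g⁻¹ * (p * F.z) * g = (g⁻¹ * p * g) * (g⁻¹ * F.z * g) by group, hpg]
        exact mul_mem F.zQ hzg
    have hbc : Commute b p := (K.commute_iff hb hpQ).2 hwp
    have hgb := F.mem_conjH hbc
    have hgh := F.mem_conjH hhp
    have hcM : g⁻¹ * c * g ∈ F.pre M₀ := by
      have e : g⁻¹ * c * g = ((⁅(⟨g⁻¹ * h * g, hgh⟩ : ↥F.H), ⟨g⁻¹ * b * g, hgb⟩⁆ : ↥F.H) : G) := by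
        show g⁻¹ * c * g = ⁅g⁻¹ * h * g, g⁻¹ * b * g⁆
        rw [hc, commutatorElement_def]; group
      rw [e, F.mem_pre]
      refine ⟨Subtype.coe_prop _, ?_⟩
      show F.π ⁅(⟨g⁻¹ * h * g, hgh⟩ : ↥F.H), ⟨g⁻¹ * b * g, hgb⟩⁆ ∈ M₀
      rw [map_commutatorElement, commutatorElement_def, mul_mem_iff_of_index_two hM₀,
        mul_mem_iff_of_index_two hM₀, mul_mem_iff_of_index_two hM₀]
      simp only [inv_mem_iff]
      tauto
    rw [show g⁻¹ * k * g = (g⁻¹ * c * g)⁻¹ * (g⁻¹ * (c * k) * g) by group]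
    exact mul_mem (inv_mem hcM) (F.Q_le_pre M₀ hckQ)
  · intro _ g _ _ B hBA hidx hzB _
    by_contra hcom
    push Not at hcom
    let S := K.imgU B (hBA.trans (K.lift_le W))
    have hSW : S ≤ W := by rintro _ ⟨b, hb, rfl⟩; exact (hBA hb).2
    have hBle : Nat.card ↥B ≤ 2 * Nat.card ↥S := by
      rw [← K.card_lift]
      exact card_le_of_le fun b hb => ⟨(K.lift_le W) (hBA hb), b, hb, rfl⟩
    have hAB : Nat.card ↥A ≤ 2 * Nat.card ↥B := by
      have h1 : Nat.card ↥(B.subgroupOf A) * B.relIndex A = Nat.card ↥A := card_mul_index _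
      rw [Nat.card_congr (subgroupOfEquivOfLe hBA).toEquiv] at h1
      rw [← h1, mul_comm 2]
      exact Nat.mul_le_mul_left _ hidx
    have hiso : ∀ u ∈ S, ∀ v ∈ S, K.B u v = 0 := by
      rintro _ ⟨u, hu, rfl⟩ _ ⟨v, hv', rfl⟩
      exact (K.commute_iff (K.lift_le W (hBA hu)) (K.lift_le W (hBA hv'))).1 (hcom u hu v hv')
    obtain ⟨a, ha, haS⟩ : ∃ a ∈ W, a ∉ S := by
      by_contra h
      push Not at h
      have h1 : Nat.card ↥W ≤ 1 := by
        have : W ≤ ⊥ := fun w hw => AddSubgroup.mem_bot.2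
          (hW w hw fun v hv' => hiso w (h w hw) v (h v hv'))
        exact (AddSubgroup.card_le_of_le this).trans (by rw [AddSubgroup.card_bot])
      omega
    have hidx2 : (S.addSubgroupOf W).index = 2 := by
      have h1 := AddSubgroup.card_mul_index (S.addSubgroupOf W)
      rw [Nat.card_congr (AddSubgroup.addSubgroupOfEquivOfLe hSW).toEquiv] at h1
      have h2 : (S.addSubgroupOf W).index ≠ 1 := fun e =>
        haS ((AddSubgroup.index_eq_one.1 e ▸ AddSubgroup.mem_top _ :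
          (⟨a, ha⟩ : ↥W) ∈ S.addSubgroupOf W) :)
      have h3 : (S.addSubgroupOf W).index ≠ 0 := AddSubgroup.index_ne_zero_of_finite
      by_contra hne
      have h4 := Nat.mul_le_mul_left (Nat.card ↥S)
        (show 3 ≤ (S.addSubgroupOf W).index by omega)
      omega
    have hS2 : Nat.card ↥S ≤ 2 := by
      rw [← Nat.card_zmod 2]
      refine Nat.card_le_card_of_injective (fun s : ↥S => K.B a s) fun s t h => ?_
      have h0 : K.B a ((s : U) + t) = 0 := by
        rw [map_add, show K.B a (s : U) = K.B a (t : U) from h]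
        exact CharTwo.add_self_eq_zero _
      refine Subtype.ext (K.eq_of_add (hW _ (hSW (S.add_mem s.2 t.2)) fun v hv' => ?_))
      by_cases hv1 : v ∈ S
      · exact hiso _ (S.add_mem s.2 t.2) v hv1
      · have hva : v + a ∈ S := (AddSubgroup.add_mem_iff_of_index_two hidx2
          (a := ⟨v, hv'⟩) (b := ⟨a, ha⟩)).2 (iff_of_false hv1 haS)
        have := hiso _ (S.add_mem s.2 t.2) _ hva
        rw [map_add, K.B_comm _ a, h0, add_zero] at this
        exact this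
    omega

end Cfsg.Agent.H47.Ex9.Frame.Coord
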