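import Cfsg.Agent.H47.Ex9.Model
import Cfsg.Agent.H47.Ex9.PlaneFacts

/-!
The tensor product case: a transvection of `S₆`, and the conjugates of the involution for `A₆`.
-/

set_option autoImplicit false

namespace Cfsg.Agent.H47.Ex9.Frame.Coord

open Subgroup Cfsg.Agent.H92 Equiv
open Plane (W β act act2 bil mix e₀ f₀ g₀)
open Cfsg.Agent.H92.ExtraForm (zp zp_inj two_cases zp_add)

universe u v

variable {G : Type u} [Group G] [Finite G] {M : Type v} [Group M] [Finite M] {F : Frame G M}
  {U : Type} [AddCommGroup U] [Fintype U] (K : F.Coord U)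

set_option linter.unusedSectionVars false

include K

/-- Identification of the space with the tensor product. -/
structure Tensor (P : Subgroup (Perm (Fin 6))) where
  /-- The coordinates. -/
  e : U ≃ W × W
  /-- The quotient. -/
  ι : Perm (Fin 3) × ↥P ≃* M
  e_add : ∀ u v, e (u + v) = e u + e v
  e_B : ∀ u v, K.B u v = bil (e u) (e v)
  e_q : ∀ u, K.q u = β (e u).1 (e u).2
  e_act : ∀ σ (s : ↥P) u, e (K.φ (ι (σ, s)) u) = act2 (σ, (s : Perm (Fin 6))) (e u)

variable {K} {P : Subgroup (Perm (Fin 6))} (T : K.Tensor P)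

theorem Tensor.e_zero : T.e 0 = 0 := by
  have h := T.e_add 0 0
  rw [add_zero] at h
  exact left_eq_add.1 h

theorem Tensor.symm_add (p r : W × W) : T.e.symm (p + r) = T.e.symm p + T.e.symm r := by
  apply T.e.injective
  rw [T.e_add]
  simp

theorem Tensor.act_symm (σ : Perm (Fin 3)) (s : ↥P) (p : W × W) :
    K.φ (T.ι (σ, s)) (T.e.symm p) = T.e.symm (act2 (σ, (s : Perm (Fin 6))) p) := by
  apply T.e.injective
  rw [T.e_act]
  simp

theorem Tensor.B_symm (p r : W × W) : K.B (T.e.symm p) (T.e.symm r) = bil p r := by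
  rw [T.e_B, Equiv.apply_symm_apply, Equiv.apply_symm_apply]

omit K in
/-- The sign on one factor cuts out a subgroup of index two. -/
theorem exists_index_two_sign {N : Type*} [Group N] (f : N →* ℤˣ) {n : N} (hn : f n = -1) :
    f.ker.index = 2 ∧ n ∉ f.ker := by
  refine ⟨?_, fun h => ?_⟩
  · rw [index_ker, MonoidHom.range_eq_top.mpr, card_top, Nat.card_eq_fintype_card,
      Fintype.card_units_int]
    intro u
    rcases Int.units_eq_one_or u with rfl | rfl
    · exact ⟨1, map_one f⟩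
    · exact ⟨n, hn⟩
  · rw [MonoidHom.mem_ker, hn] at h
    exact absurd h (by decide)

/-- With all of `S₆` a transvection gives a contradiction. -/
theorem Tensor.false_of_sym [IsSimpleGroup G] (T : K.Tensor (⊤ : Subgroup (Perm (Fin 6)))) :
    False := by
  classical
  let t : ↥(⊤ : Subgroup (Perm (Fin 6))) := ⟨swap 0 1, Subgroup.mem_top _⟩
  let m := T.ι (1, t)
  have hm : m * m = 1 := by
    show T.ι (1, t) * T.ι (1, t) = 1
    rw [← map_mul, Prod.mk_mul_mk, one_mul, show t * t = 1 from Subtype.ext (swap_mul_self 0 1)]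
    exact map_one _
  let f : M →* ℤˣ := ((Perm.sign).comp ((⊤ : Subgroup (Perm (Fin 6))).subtype.comp
    (MonoidHom.snd _ _))).comp T.ι.symm.toMonoidHom
  obtain ⟨hidx, hmem⟩ := exists_index_two_sign f (n := m) (by
    show Perm.sign ((T.ι.symm (T.ι (1, t))).2 : Perm (Fin 6)) = -1
    rw [MulEquiv.symm_apply_apply]
    exact Perm.sign_swap (by decide))
  have hmoved : ∀ u, ∀ v, u + K.φ m u = v →
      ((T.e v).1 = 0 ∨ (T.e v).1 = e₀) ∧ ((T.e v).2 = 0 ∨ (T.e v).2 = e₀) := by
    rintro u _ rfl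
    rw [T.e_add, T.e_act]
    simp only [Plane.act2, Plane.mix, t, Perm.one_apply, Prod.fst_add, Prod.snd_add, if_true,
      show ((2 : Fin 3) = 0) = False by simp, show ((0 : Fin 3) = 2) = False by simp, if_false,
      add_zero, zero_add]
    exact ⟨Plane.moved_by_swap _, Plane.moved_by_swap _⟩
  refine K.false_of_small f.ker hidx hm hmem ?_ ?_
  · let S : Finset (W × W) := {(0, 0), (e₀, 0), (0, e₀), (e₀, e₀)}
    have hS : ∀ v ∈ K.rad m, T.e v ∈ S := by
      rintro v ⟨u, hu⟩
      obtain ⟨h1, h2⟩ := hmoved u v hu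
      rw [show T.e v = ((T.e v).1, (T.e v).2) from rfl]
      rcases h1 with e1 | e1 <;> rcases h2 with e2 | e2 <;> rw [e1, e2] <;> simp [S]
    refine le_trans (Nat.card_le_card_of_injective (fun v : ↥(K.rad m) => (⟨T.e v, hS v v.2⟩ : ↥S))
      fun a b h => Subtype.ext (T.e.injective (congrArg Subtype.val h :))) ?_
    rw [Nat.card_eq_finsetCard]
    exact Finset.card_le_four
  · intro g hu hne hv
    have hv0 := K.ν_ne hu hne
    obtain ⟨u, hu'⟩ := hv
    obtain ⟨h1, h2⟩ := hmoved u _ hu'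
    generalize K.ν (g * F.z * g⁻¹) = v at hv0 h1 h2 ⊢
    obtain ⟨s, hse, hsg⟩ := Plane.move_g
    -- the vector, a vector off it, and a moved vector
    obtain ⟨a, b, hp⟩ : ∃ a b : W, T.e v = (a, b) := ⟨_, _, rfl⟩
    rw [hp] at h1 h2
    have key : ∀ y w : W × W, bil y (a, b) = 1 → bil w (a, b) = 0 →
        act2 (1, s) (a, b) = (a, b) →
        w + act2 (1, s) w + (y + act2 (1, swap 0 1) y) = 0 →
        ∃ (y w : U) (n : M), n ∈ K.stab v ∧ K.B y v = 1 ∧ K.B w v = 0 ∧
          (w + K.φ n w + (y + K.φ m y) = 0 ∨ w + K.φ n w + (y + K.φ m y) = v) := by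
      intro y w hy hw hfix hsum
      refine ⟨T.e.symm y, T.e.symm w, T.ι (1, ⟨s, Subgroup.mem_top _⟩), ?_, ?_, ?_, Or.inl ?_⟩
      · rw [K.mem_stab]
        apply T.e.injective
        rw [T.e_act, hp]
        exact hfix
      · rw [T.e_B, Equiv.apply_symm_apply, hp]; exact hy
      · rw [T.e_B, Equiv.apply_symm_apply, hp]; exact hw
      · apply T.e.injective
        rw [T.e_add, T.e_add, T.e_add, T.e_act, T.e_act, Equiv.apply_symm_apply,
          Equiv.apply_symm_apply, T.e_zero]
        exact hsum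
    have hmix : ∀ p : W × W, mix 1 p = p := fun p => by
      show (p.1 + 0, 0 + p.2) = p
      rw [add_zero, zero_add]
    rcases h1 with e1 | e1 <;> rcases h2 with e2 | e2 <;> dsimp only at e1 e2 <;> subst e1 e2
    · exact absurd (T.e.injective (hp.trans T.e_zero.symm)) hv0
    · refine key (f₀, 0) (g₀, 0) ?_ ?_ ?_ ?_
      · decide
      · decide
      · simp [Plane.act2, hmix, hse, Plane.act_zero]
      · simp only [Plane.act2, hmix, hsg, Plane.act_zero, Prod.mk_add_mk, add_zero]
        decide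
    · refine key (0, f₀) (0, g₀) ?_ ?_ ?_ ?_
      · decide
      · decide
      · simp [Plane.act2, hmix, hse, Plane.act_zero]
      · simp only [Plane.act2, hmix, hsg, Plane.act_zero, Prod.mk_add_mk, add_zero]
        decide
    · refine key (f₀, 0) (g₀, 0) ?_ ?_ ?_ ?_
      · decide
      · decide
      · simp [Plane.act2, hmix, hse]
      · simp only [Plane.act2, hmix, hsg, Plane.act_zero, Prod.mk_add_mk, add_zero]
        decide

/-! ### The alternating group -/

/-- The standard involution of the first factor. -/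
def Tensor.τ : M := T.ι (swap 0 1, 1)

theorem Tensor.τ_sq : T.τ * T.τ = 1 := by
  show T.ι (swap 0 1, 1) * T.ι (swap 0 1, 1) = 1
  rw [← map_mul, Prod.mk_mul_mk, swap_mul_self, one_mul]
  exact map_one _

theorem Tensor.e_τ (u : U) : T.e (K.φ T.τ u) = ((T.e u).1 + (T.e u).2, (T.e u).2) := by
  rw [Tensor.τ, T.e_act, Plane.act2, OneMemClass.coe_one, Plane.act_one, Plane.act_one,
    Plane.mix_swap]

theorem Tensor.mem_fix {u : U} : u ∈ K.fix T.τ ↔ (T.e u).2 = 0 := by
  rw [K.mem_fix, ← T.e.injective.eq_iff, T.e_τ, Prod.ext_iff]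
  simp

theorem Tensor.mem_rad {u : U} : u ∈ K.rad T.τ ↔ (T.e u).2 = 0 := by
  refine ⟨fun h => (T.mem_fix).1 (K.rad_le_fix T.τ_sq h), fun h => ⟨T.e.symm (0, (T.e u).1), ?_⟩⟩
  apply T.e.injective
  rw [T.e_add, T.e_τ, Equiv.apply_symm_apply]
  refine Prod.ext (by simp) ?_
  rw [Prod.snd_add, h]
  obtain ⟨a, b, c, d⟩ := (T.e u).1
  simp only [Prod.mk_add_mk, CharTwo.add_self_eq_zero]
  rfl

theorem Tensor.q_fix {u : U} (h : (T.e u).2 = 0) : K.q u = 0 := by
  rw [T.e_q, h]
  simp [Plane.β]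

omit K in
theorem closure_threes : ∀ s : Perm (Fin 6), Perm.sign s = 1 →
    s ∈ closure {σ : Perm (Fin 6) | σ.IsThreeCycle} := fun s hs => by
  rw [Perm.closure_three_cycles_eq_alternating, Perm.mem_alternatingGroup]
  exact hs

end Cfsg.Agent.H47.Ex9.Frame.Coord
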