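import Cfsg.Agent.H47.Ex9.Tensor

/-!
The tensor product case for `A₆`: no conjugate of the involution lies over the involution of the first
factor, none lies over a pure vector, and the parity criterion applies.
-/

set_option autoImplicit false

namespace Cfsg.Agent.H47.Ex9.Frame.Coord

open Subgroup Cfsg.Agent.H92 Equiv
open Plane (W β act act2 bil mix e₀ f₀ g₀)
open Cfsg.Agent.H92.ExtraForm (zp zp_inj two_cases zp_add)

universe u v

variable {G : Type u} [Group G] [Finite G] {M : Type v} [Group M] [Finite M] {F : Frame G M}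
  {U : Type} [AddCommGroup U] [Fintype U] {K : F.Coord U}
  (T : K.Tensor (alternatingGroup (Fin 6))) (h16 : ∀ X : Subgroup M, IsPGroup 2 ↥X → Nat.card ↥X ≤ 16)

set_option linter.unusedSectionVars false

omit [Finite M] in
theorem w_add_self (x : W) : x + x = 0 := by
  obtain ⟨a, b, c, d⟩ := x
  simp only [Prod.mk_add_mk, CharTwo.add_self_eq_zero]
  rfl

theorem Tensor.card_fix : Nat.card ↥(K.fix T.τ) = 16 := by
  rw [Nat.card_congr (α := ↥(K.fix T.τ)) (β := W)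
    { toFun := fun u => (T.e u).1
      invFun := fun x => ⟨T.e.symm (x, 0), T.mem_fix.2 (by simp)⟩
      left_inv := fun u => Subtype.ext (by
        show T.e.symm ((T.e u).1, 0) = u
        rw [← T.mem_fix.1 u.2]
        exact T.e.symm_apply_apply u)
      right_inv := fun x => by simp }]
  simp

/-- The elementary subgroup. -/
def Tensor.D : Subgroup G := K.lift (K.fix T.τ)

theorem Tensor.D_commute {x : G} (hx : x ∈ F.H) (hxm : F.π ⟨x, hx⟩ = T.τ)
    (hx2 : x * x = 1 ∨ x * x = F.z) {a : G} (ha : a ∈ T.D) : Commute a x :=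
  K.commute_rad hx hxm hx2 ha.1 (T.mem_rad.2 (T.mem_fix.1 ha.2)) (T.q_fix (T.mem_fix.1 ha.2))

theorem Tensor.fix_comm (n : M) (hn : Commute T.τ n) {u : U} (hu : u ∈ K.fix T.τ) :
    K.φ n u ∈ K.fix T.τ := by
  show K.φ T.τ (K.φ n u) = K.φ n u
  rw [← K.φ_mul, hn.eq, K.φ_mul, show K.φ T.τ u = u from hu]

theorem Tensor.τ_comm (s : ↥(alternatingGroup (Fin 6))) : Commute T.τ (T.ι (1, s)) := by
  show T.ι (swap 0 1, 1) * T.ι (1, s) = T.ι (1, s) * T.ι (swap 0 1, 1)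
  rw [← map_mul, ← map_mul, Prod.mk_mul_mk, Prod.mk_mul_mk]
  simp

/-- The lifts of the elements of the second factor centralising a given lift of the involution. -/
theorem Tensor.exists_centralising {p : G} (hp : p ∈ F.H) (hpm : F.π ⟨p, hp⟩ = T.τ)
    (hp2 : p * p = 1) (s : ↥(alternatingGroup (Fin 6))) :
    ∃ (h : G) (hh : h ∈ F.H), F.π ⟨h, hh⟩ = T.ι (1, s) ∧ Commute h p := by
  let f : ↥(centralizer ({p} : Set G) ⊓ F.H) →* M :=
    F.π.comp (Subgroup.inclusion inf_le_right)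
  suffices h : ∀ s : ↥(alternatingGroup (Fin 6)), T.ι (1, s) ∈ f.range by
    obtain ⟨⟨a, ha⟩, e⟩ := h s
    exact ⟨a, ha.2, e, mem_centralizer_singleton_iff.1 ha.1⟩
  let S : Subgroup (Perm (Fin 6)) :=
    (f.range.comap (T.ι.toMonoidHom.comp (MonoidHom.inr _ _))).map (alternatingGroup (Fin 6)).subtype
  suffices hS : ∀ σ : Perm (Fin 6), σ.IsThreeCycle → σ ∈ S by
    intro s
    obtain ⟨t, ht, hts⟩ := (closure_le S).2 hS (closure_threes (s : Perm (Fin 6))
      (Perm.mem_alternatingGroup.1 s.2))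
    rw [show t = s from Subtype.ext hts] at ht
    exact ht
  intro σ hσ
  let c : ↥(alternatingGroup (Fin 6)) := ⟨σ, hσ.mem_alternatingGroup⟩
  refine ⟨c, ?_, rfl⟩
  show T.ι (1, c) ∈ f.range
  obtain ⟨⟨h₀, hh₀⟩, hh₀m⟩ := F.π_surj (T.ι (1, c))
  -- a conjugate of `p` in the same coset
  set d := p * (h₀ * p * h₀⁻¹) with hd
  have hdH : d ∈ F.H := mul_mem hp (mul_mem (mul_mem hh₀ hp) (inv_mem hh₀))
  have hdQ : d ∈ F.Q := (F.π_ker ⟨d, hdH⟩).1 (by
    rw [show (⟨d, hdH⟩ : ↥F.H) = ⟨p, hp⟩ * (⟨h₀, hh₀⟩ * ⟨p, hp⟩ * ⟨h₀, hh₀⟩⁻¹) from rfl,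
      map_mul, map_mul, map_mul, map_inv, hpm, hh₀m, ← (T.τ_comm c).eq, mul_inv_cancel_right,
      T.τ_sq])
  have hdfix : K.ν d ∈ K.fix T.τ := by
    show K.φ T.τ (K.ν d) = K.ν d
    rw [← hpm, ← K.ν_conj p hp d hdQ, ← K.ν_inv hdQ]
    congr 1
    have hp' : p⁻¹ = p := inv_eq_of_mul_eq_one_right hp2
    rw [hd, mul_inv_rev, show (h₀ * p * h₀⁻¹)⁻¹ = h₀ * p⁻¹ * h₀⁻¹ by group, hp', ← mul_assoc p p,
      hp2, one_mul]
  obtain ⟨w, hw⟩ := T.mem_rad.2 (T.mem_fix.1 hdfix)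
  obtain ⟨a, ha, rfl⟩ := K.ν_surj w
  have hk : K.ν (p * (a * p * a⁻¹)) = K.ν d := by
    have hap := F.conj_mem hp ha
    rw [show p * (a * p * a⁻¹) = (p * a * p⁻¹) * (p * p) * a⁻¹ by group, hp2, mul_one,
      K.ν_mul _ hap _ (inv_mem ha), K.ν_conj p hp a ha, hpm, K.ν_inv ha, add_comm, hw]
  have haH := F.Q_le ha
  set h := a⁻¹ * h₀ with hh
  have hhH : h ∈ F.H := mul_mem (inv_mem haH) hh₀
  have hhm : F.π ⟨h, hhH⟩ = T.ι (1, c) := by
    rw [show (⟨h, hhH⟩ : ↥F.H) = ⟨a, haH⟩⁻¹ * ⟨h₀, hh₀⟩ from rfl, map_mul, map_inv,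
      (F.π_ker ⟨a, haH⟩).2 ha, inv_one, one_mul, hh₀m]
  have hzp : ∀ x ∈ F.H, x * F.z * x⁻¹ = F.z := fun x hx => by
    rw [(F.mem_H.1 hx).eq, mul_inv_cancel_right]
  have hcases : h * p * h⁻¹ = p ∨ h * p * h⁻¹ = p * F.z := by
    have hQ' : p * (a * p * a⁻¹) ∈ F.Q := by
      rw [show p * (a * p * a⁻¹) = (p * a * p⁻¹) * (p * p) * a⁻¹ by group, hp2, mul_one]
      exact mul_mem (F.conj_mem hp ha) (inv_mem ha)
    rcases K.eq_or_eq hQ' hdQ hk with e | e
    · left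
      have e' : h₀ * p * h₀⁻¹ = a * p * a⁻¹ := mul_left_cancel e
      rw [hh, show a⁻¹ * h₀ * p * (a⁻¹ * h₀)⁻¹ = a⁻¹ * (h₀ * p * h₀⁻¹) * a by group, e']
      group
    · right
      have e' : h₀ * p * h₀⁻¹ = a * p * a⁻¹ * F.z := mul_left_cancel (e.trans (mul_assoc _ _ _))
      rw [hh, show a⁻¹ * h₀ * p * (a⁻¹ * h₀)⁻¹ = a⁻¹ * (h₀ * p * h₀⁻¹) * a by group, e',
        show a⁻¹ * (a * p * a⁻¹ * F.z) * a = p * (a⁻¹ * (F.z * a)) by group, ← (F.mem_H.1 haH).eq,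
        inv_mul_cancel_left]
  rcases hcases with e | e
  · exact ⟨⟨h, mem_centralizer_singleton_iff.2 (mul_inv_eq_iff_eq_mul.1 e), hhH⟩, hhm⟩
  · exfalso
    have h2 : Commute (h * h) p := by
      refine mul_inv_eq_iff_eq_mul.1 ?_
      rw [show h * h * p * (h * h)⁻¹ = h * (h * p * h⁻¹) * h⁻¹ by group, e,
        show h * (p * F.z) * h⁻¹ = (h * p * h⁻¹) * (h * F.z * h⁻¹) by group, e, hzp h hhH, mul_assoc,
        F.z_sq, mul_one]
    have h3 : h * h * h ∈ F.Q := (F.π_ker (⟨h, hhH⟩ * ⟨h, hhH⟩ * ⟨h, hhH⟩)).1 (by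
      rw [map_mul, map_mul, hhm, ← map_mul, ← map_mul]
      have hc3 : c * c * c = 1 := Subtype.ext (by
        show σ * σ * σ = 1
        have := hσ.orderOf ▸ pow_orderOf_eq_one σ
        rw [← this, pow_succ, pow_succ, pow_one])
      simp [Prod.mk_mul_mk, hc3])
    have e3 : (h * h * h) * p * (h * h * h)⁻¹ = p * F.z := by
      rw [show h * h * h * p * (h * h * h)⁻¹ = h * ((h * h) * p * (h * h)⁻¹) * h⁻¹ by group,
        mul_inv_eq_iff_eq_mul.2 h2.eq, e]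
    have hfx : K.ν (h * h * h) ∈ K.fix T.τ := by
      show K.φ T.τ (K.ν (h * h * h)) = K.ν (h * h * h)
      have h4 : p * (h * h * h) * p⁻¹ = h * h * h * F.z := by
        rw [mul_inv_eq_iff_eq_mul, mul_assoc _ F.z p, ← (F.mem_H.1 hp).eq]
        calc p * (h * h * h) = (h * h * h * p * (h * h * h)⁻¹) * F.z * (h * h * h) := by
              rw [e3, mul_assoc p F.z F.z, F.z_sq, mul_one]
          _ = h * h * h * p * ((h * h * h)⁻¹ * (F.z * (h * h * h))) := by group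
          _ = h * h * h * p * F.z := by
              rw [← (F.mem_H.1 (F.Q_le h3)).eq, inv_mul_cancel_left]
          _ = _ := by rw [mul_assoc]
      rw [← hpm, ← K.ν_conj p hp _ h3, h4, K.ν_mul _ h3 _ F.zQ, K.ν_z, add_zero]
    have hcp := T.D_commute hp hpm (Or.inl hp2) (a := h * h * h) ⟨h3, hfx⟩
    rw [hcp.eq, mul_inv_cancel_right] at e3
    exact F.z_ne (mul_eq_left.1 e3.symm)

include h16 in
/-- No conjugate of `z` lies over the involution of the first factor. -/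
theorem Tensor.no_lift {g : G} (hp : g * F.z * g⁻¹ ∈ F.H)
    (hpm : F.π ⟨g * F.z * g⁻¹, hp⟩ = T.τ) : False := by
  classical
  set p := g * F.z * g⁻¹ with hpdef
  have hp2 : p * p = 1 := by
    rw [hpdef, show g * F.z * g⁻¹ * (g * F.z * g⁻¹) = g * (F.z * F.z) * g⁻¹ by group, F.z_sq]
    group
  have hτ1 : T.τ ≠ 1 := fun e => by
    have := congrArg Prod.fst (T.ι.injective (e.trans (map_one T.ι).symm))
    exact absurd this (by decide)
  have hpQ : p ∉ F.Q := fun h => hτ1 (by rw [← hpm]; exact (F.π_ker _).2 h)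
  have hz := F.z_notMem_Qc hpQ
  have hDp : ∀ a ∈ T.D, Commute a p := fun a ha => T.D_commute hp hpm (Or.inl hp2) ha
  set K₀ := T.D ⊓ F.Qc g with hK₀
  have hD32 : Nat.card ↥T.D = 32 := by rw [Tensor.D, K.card_lift, T.card_fix]
  have hK1 : 2 ≤ Nat.card ↥K₀ := by
    have h1 := F.card_range_mul hDp
    have h2 := h16 _ (F.isPGroup_range (K.lift_le _) hDp)
    have h3 : Nat.card (F.img g T.D hDp).ker ≤ Nat.card ↥K₀ := by
      refine Nat.card_le_card_of_injective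
        (fun a => ⟨((a : ↥T.D) : G), (a : ↥T.D).2, (F.mem_ker_img hDp _).1 a.2⟩) fun a b h =>
          Subtype.ext (Subtype.ext (congrArg Subtype.val h :))
    rw [hD32] at h1
    change Nat.card ↥(F.img g T.D hDp).range ≤ 16 at h2
    have := Nat.mul_le_mul h3 h2
    omega
  -- the lifts of the second factor preserve the intersection
  have hinv : ∀ (h : G) (hh : h ∈ F.H), Commute h p → ∀ s, F.π ⟨h, hh⟩ = T.ι (1, s) →
      ∀ a ∈ K₀, h * a * h⁻¹ ∈ K₀ := by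
    intro h hh hhp s hs a ha
    refine ⟨⟨F.conj_mem hh ha.1.1, ?_⟩, F.Qc_conj hhp ha.2⟩
    rw [K.ν_conj h hh a ha.1.1, hs]
    exact T.fix_comm _ (T.τ_comm s) ha.1.2
  -- the intersection covers the fixed vectors
  have hcov : ∀ x : W, ∃ a ∈ K₀, T.e (K.ν a) = (x, 0) := by
    haveI := Finite.one_lt_card_iff_nontrivial.1 (show 1 < Nat.card ↥K₀ by omega)
    obtain ⟨⟨a, ha⟩, ha1⟩ := exists_ne (1 : ↥K₀)
    have hx0 : (T.e (K.ν a)).1 ≠ 0 := by
      intro h
      have e : K.ν a = 0 := T.e.injective (by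
        rw [T.e_zero]
        exact Prod.ext h (T.mem_fix.1 ha.1.2))
      rcases (K.ν_eq_zero a ha.1.1).1 e with e' | e'
      · exact ha1 (Subtype.ext e')
      · exact hz (e' ▸ ha.2)
    intro x
    by_cases hx : x = 0
    · exact ⟨1, one_mem _, by rw [K.ν_one, T.e_zero, hx]; rfl⟩
    obtain ⟨s₁, hs₁, hs₁'⟩ := Plane.transitive _ hx0
    obtain ⟨s₂, hs₂, hs₂'⟩ := Plane.transitive _ hx
    let s : ↥(alternatingGroup (Fin 6)) :=
      ⟨s₂ * s₁⁻¹, Perm.mem_alternatingGroup.2 (by rw [map_mul, map_inv, hs₁', hs₂']; simp)⟩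
    obtain ⟨h, hh, hhm, hhp⟩ := T.exists_centralising hp hpm hp2 s
    refine ⟨h * a * h⁻¹, hinv h hh hhp s hhm a ha, ?_⟩
    rw [K.ν_conj h hh a ha.1.1, hhm, T.e_act]
    have e0 := T.mem_fix.1 ha.1.2
    show mix 1 (act (s₂ * s₁⁻¹) (T.e (K.ν a)).1, act (s₂ * s₁⁻¹) (T.e (K.ν a)).2) = _
    rw [e0, Plane.act_zero, ← hs₁, ← Plane.act_mul, inv_mul_cancel_right, hs₂]
    show (x + 0, 0 + 0) = (x, (0 : W))
    simp
  choose lk hlk hlk' using hcov
  -- membership of the intersection as an additive function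
  let χ : G → ZMod 2 := fun d => if d ∈ F.Qc g then 0 else 1
  have hdec : ∀ d ∈ T.D, d ∈ F.Qc g ∨ d * F.z ∈ F.Qc g := by
    intro d hd
    have h : K.ν d = K.ν (lk (T.e (K.ν d)).1) := T.e.injective (by
      rw [hlk']; exact Prod.ext rfl (T.mem_fix.1 hd.2))
    rcases K.eq_or_eq (hlk _).1.1 hd.1 h.symm with e | e
    · exact Or.inl (e ▸ (hlk _).2)
    · refine Or.inr ?_
      rw [e, mul_assoc, F.z_sq, mul_one]
      exact (hlk _).2
  have hχmul : ∀ a ∈ T.D, ∀ b ∈ T.D, χ (a * b) = χ a + χ b := by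
    intro a ha b hb
    have hzb : F.z * b = b * F.z := (F.mem_H.1 (F.Q_le hb.1)).symm.eq
    by_cases ha' : a ∈ F.Qc g <;> by_cases hb' : b ∈ F.Qc g
    · simp [χ, ha', hb', mul_mem ha' hb']
    · have : a * b ∉ F.Qc g := fun h => hb' ((F.Qc g).mul_mem_cancel_left ha' |>.1 h)
      simp [χ, ha', hb', this]
    · have : a * b ∉ F.Qc g := fun h => ha' ((F.Qc g).mul_mem_cancel_right hb' |>.1 h)
      simp [χ, ha', hb', this]
    · have h2 : a * b ∈ F.Qc g := by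
        have := mul_mem ((hdec a ha).resolve_left ha') ((hdec b hb).resolve_left hb')
        rwa [mul_assoc a, ← mul_assoc F.z b, hzb, mul_assoc b, F.z_sq, mul_one] at this
      simp [χ, ha', hb', h2, CharTwo.add_self_eq_zero]
  -- the commutators with the lift
  have hy : ∀ x : W, ∃ y ∈ F.Q, T.e (K.ν y) = (0, x) := fun x => by
    obtain ⟨y, hy, e⟩ := K.ν_surj (T.e.symm (0, x))
    exact ⟨y, hy, by rw [e, Equiv.apply_symm_apply]⟩
  choose ly hly hly' using hy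
  let c : G → G := fun y => p * y * p⁻¹ * y⁻¹
  have hc : ∀ y ∈ F.Q, ∀ x : W, T.e (K.ν y) = (0, x) →
      c y ∈ T.D ∧ T.e (K.ν (c y)) = (x, 0) := by
    intro y hy x hyx
    have h1 := F.conj_mem hp hy
    have h2 : T.e (K.ν (c y)) = (x, 0) := by
      rw [show c y = (p * y * p⁻¹) * y⁻¹ from rfl, K.ν_mul _ h1 _ (inv_mem hy), K.ν_conj p hp y hy,
        hpm, K.ν_inv hy, T.e_add, T.e_τ, hyx]
      show (0 + x + 0, x + x) = _
      rw [w_add_self]; simp
    exact ⟨⟨mul_mem h1 (inv_mem hy), T.mem_fix.2 (by rw [h2])⟩, h2⟩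
  have hindep : ∀ y ∈ F.Q, ∀ x : W, T.e (K.ν y) = (0, x) → c y = c (ly x) := by
    intro y hy x hyx
    rcases K.eq_or_eq (hly x) hy (T.e.injective (by rw [hly', hyx])) with e | e
    · rw [e]
    · rw [e]
      show p * (ly x * F.z) * p⁻¹ * (ly x * F.z)⁻¹ = p * ly x * p⁻¹ * (ly x)⁻¹
      clear_value p
      rw [mul_inv_rev, F.z_inv, show p * (ly x * F.z) * p⁻¹ = (p * ly x * p⁻¹) * (p * F.z * p⁻¹) by
        group, (F.mem_H.1 hp).eq, mul_inv_cancel_right, ← mul_assoc, mul_assoc _ F.z F.z, F.z_sq,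
        mul_one]
  let ψ : W → ZMod 2 := fun x => χ (c (ly x))
  have hψadd : ∀ x x', ψ (x + x') = ψ x + ψ x' + β x x' := by
    intro x x'
    have hyy : T.e (K.ν (ly x * ly x')) = (0, x + x') := by
      rw [K.ν_mul _ (hly x) _ (hly x'), T.e_add, hly', hly']; simp
    obtain ⟨hD1, -⟩ := hc _ (hly x) x (hly' x)
    obtain ⟨hD2, he2⟩ := hc _ (hly x') x' (hly' x')
    have hzD : ∀ t, zp F.z t ∈ T.D := fun t => by
      rcases two_cases t with rfl | rfl
      · simp [zp, one_mem]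
      · simpa [zp, Tensor.D] using K.z_mem_lift _
    show χ (c (ly (x + x'))) = _
    rw [← hindep _ (mul_mem (hly x) (hly x')) _ hyy,
      show c (ly x * ly x') = c (ly x) * (ly x * c (ly x') * (ly x)⁻¹) by simp only [c]; group,
      K.conj_eq (hly x) hD2.1, hχmul _ hD1 _ (mul_mem hD2 (hzD _)), hχmul _ hD2 _ (hzD _),
      ← add_assoc]
    congr 1
    rw [T.e_B, hly', he2]
    rw [show bil (0, x) (x', 0) = β x x' by simp [Plane.bil, Plane.β]]
    rcases two_cases (β x x') with e | e <;> rw [e] <;> simp [χ, zp, hz, one_mem]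
  have hψinv : ∀ s : ↥(alternatingGroup (Fin 6)), ∀ x, ψ (act (s : Perm (Fin 6)) x) = ψ x := by
    intro s x
    obtain ⟨h, hh, hhm, hhp⟩ := T.exists_centralising hp hpm hp2 s
    have hy' : T.e (K.ν (h * ly x * h⁻¹)) = (0, act (s : Perm (Fin 6)) x) := by
      rw [K.ν_conj h hh _ (hly x), hhm, T.e_act, hly']
      show (act _ 0 + 0, 0 + act _ x) = _
      simp [Plane.act_zero]
    show χ (c (ly _)) = χ (c (ly x))
    rw [← hindep _ (F.conj_mem hh (hly x)) _ hy']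
    have e : c (h * ly x * h⁻¹) = h * c (ly x) * h⁻¹ := by
      have hph : p = h * p * h⁻¹ := by rw [hhp.eq, mul_inv_cancel_right]
      simp only [c]
      conv_lhs => rw [hph]
      group
    have hiff : h * c (ly x) * h⁻¹ ∈ F.Qc g ↔ c (ly x) ∈ F.Qc g := by
      refine ⟨fun h' => ?_, F.Qc_conj hhp⟩
      simpa [mul_assoc] using F.Qc_conj hhp.inv_left h'
    show (if _ then _ else _) = if _ then _ else _
    rw [e]
    simp only [hiff]
  have hconst : ∀ x : W, x ≠ 0 → ψ x = ψ e₀ := fun x hx => by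
    obtain ⟨s, hs, hs'⟩ := Plane.transitive x hx
    rw [← hs]
    exact hψinv ⟨s, Perm.mem_alternatingGroup.2 hs'⟩ e₀
  have h1 := hψadd e₀ f₀
  have h2 := hψadd e₀ g₀
  rw [hconst _ (by decide), hconst f₀ (by decide), show β e₀ f₀ = 1 by decide] at h1
  rw [hconst _ (by decide), hconst g₀ (by decide), show β e₀ g₀ = 0 by decide] at h2
  have hlast : ∀ c : ZMod 2, c = c + c + 1 → c = c + c + 0 → False := by decide
  exact hlast _ h1 h2

include h16 in
/-- An involution lift over the first factor is no conjugate, for any of its three involutions. -/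
theorem Tensor.no_lift' {g : G} (hp : g * F.z * g⁻¹ ∈ F.H) {σ : Perm (Fin 3)}
    (hσ : σ * σ = 1) (hσ1 : σ ≠ 1) (hpm : F.π ⟨g * F.z * g⁻¹, hp⟩ = T.ι (σ, 1)) : False := by
  obtain ⟨π, hπ⟩ := Plane.conj_swap σ hσ hσ1
  obtain ⟨⟨h, hh⟩, hhm⟩ := F.π_surj (T.ι (π, 1))
  refine T.no_lift h16 (g := h * g) ?_ ?_
  · rw [show h * g * F.z * (h * g)⁻¹ = h * (g * F.z * g⁻¹) * h⁻¹ by group]
    exact mul_mem (mul_mem hh hp) (inv_mem hh)
  · have hmem : h * g * F.z * (h * g)⁻¹ ∈ F.H := by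
      rw [show h * g * F.z * (h * g)⁻¹ = h * (g * F.z * g⁻¹) * h⁻¹ by group]
      exact mul_mem (mul_mem hh hp) (inv_mem hh)
    have e : (⟨h * g * F.z * (h * g)⁻¹, hmem⟩ : ↥F.H) = ⟨h, hh⟩ * ⟨g * F.z * g⁻¹, hp⟩ * ⟨h, hh⟩⁻¹ :=
      Subtype.ext (by
        show h * g * F.z * (h * g)⁻¹ = h * (g * F.z * g⁻¹) * h⁻¹
        group)
    rw [e, map_mul, map_mul, map_inv, hhm, hpm, ← map_inv, ← map_mul, ← map_mul]
    show T.ι _ = T.ι (swap 0 1, 1)
    congr 1
    simp [Prod.mk_mul_mk, hπ]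

end Cfsg.Agent.H47.Ex9.Frame.Coord
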