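import Cfsg.Agent.H47.Ex9.TensorAlt

/-!
The tensor product case for `A₆`: no conjugate of the involution over a pure vector, and the end of
the parity argument.
-/

set_option autoImplicit false

namespace Cfsg.Agent.H47.Ex9.Frame.Coord

open Subgroup Cfsg.Agent.H92 Equiv
open Plane (W β act act2 bil mix e₀ f₀ g₀)
open Cfsg.Agent.H92.ExtraForm (zp zp_inj two_cases zp_add)

universe u v

variable {G : Type u} [Group G] [Finite G] {M : Type v} [Group M] [Finite M] {F : Frame G M}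
  {U : Type} [AddCommGroup U] [Fintype U] {K : F.Coord U}
  (T : K.Tensor (alternatingGroup (Fin 6))) (h16 : ∀ X : Subgroup M, IsPGroup 2 ↥X → Nat.card ↥X ≤ 16)

set_option linter.unusedSectionVars false

theorem β_zero (x : W) : β x 0 = 0 ∧ β 0 x = 0 := by
  simp [Plane.β]

theorem mix_one (p : W × W) : mix 1 p = p := by
  show (p.1 + 0, 0 + p.2) = p
  rw [add_zero, zero_add]

theorem mix_fix {σ : Perm (Fin 3)} {x : W} (hx : x ≠ 0) {y : W}
    (h : mix σ (y, 0) = (x, 0)) : σ 2 = 2 ∧ y = x := by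
  simp only [Plane.mix, ite_self, add_zero, Prod.mk.injEq] at h
  obtain ⟨h1, h2⟩ := h
  have h20 : σ 2 ≠ 0 := fun e => hx (by rw [if_pos e] at h1; exact h1.symm)
  rw [if_neg h20] at h1
  refine ⟨?_, h1⟩
  by_contra e
  rw [if_neg e, h1] at h2
  exact hx h2

theorem mix_fix_two {σ : Perm (Fin 3)} (h : σ 2 = 2) (y : W) : mix σ (y, 0) = (y, 0) := by
  simp [Plane.mix, h]

theorem Tensor.φ_act (n : M) (u : U) :
    T.e (K.φ n u) = act2 ((T.ι.symm n).1, ((T.ι.symm n).2 : Perm (Fin 6))) (T.e u) := by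
  conv_lhs => rw [← T.ι.apply_symm_apply n]
  exact T.e_act _ _ _

theorem Tensor.mem_stab' {v : U} {σ : Perm (Fin 3)} {s : ↥(alternatingGroup (Fin 6))}
    {p : W × W} (hv : T.e v = p) (h : act2 (σ, (s : Perm (Fin 6))) p = p) :
    T.ι (σ, s) ∈ K.stab v := by
  rw [K.mem_stab]
  apply T.e.injective
  rw [T.e_act, hv, h]

theorem Tensor.stab_act {v : U} {n : M} {p : W × W} (hv : T.e v = p) (h : n ∈ K.stab v) :
    act2 ((T.ι.symm n).1, ((T.ι.symm n).2 : Perm (Fin 6))) p = p := by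
  rw [← hv, ← T.φ_act, K.mem_stab.1 h]

theorem sign_alt (s : ↥(alternatingGroup (Fin 6))) : Perm.sign (s : Perm (Fin 6)) = 1 :=
  Perm.mem_alternatingGroup.1 s.2

/-- A central involution of the stabiliser of a singular vector lies in the first factor. -/
theorem central_singular (σ : Perm (Fin 3)) (s : ↥(alternatingGroup (Fin 6))) (x y : W)
    (hxy : (x, y) ≠ (0 : W × W)) (hq : β x y = 0)
    (hfix : act2 (σ, (s : Perm (Fin 6))) (x, y) = (x, y)) (hs : s * s = 1)
    (hc : ∀ (π : Perm (Fin 3)) (t : ↥(alternatingGroup (Fin 6))),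
      act2 (π, (t : Perm (Fin 6))) (x, y) = (x, y) → σ * π = π * σ ∧ s * t = t * s) : s = 1 := by
  -- transport by an element of the quotient
  have hmove : ∀ (π : Perm (Fin 3)) (t : ↥(alternatingGroup (Fin 6))) (p : W × W),
      act2 (π, (t : Perm (Fin 6))) (x, y) = p →
      (∀ σ' : Perm (Fin 3), ∀ s' : Perm (Fin 6), act2 (σ', s') p = p → s' * s' = 1 →
        Perm.sign s' = 1 →
        (∀ π' : Perm (Fin 3), ∀ t' : Perm (Fin 6), act2 (π', t') p = p → Perm.sign t' = 1 →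
          σ' * π' = π' * σ' ∧ s' * t' = t' * s') → s' = 1) → s = 1 := by
    intro π t p hp hfact
    have hmul : ∀ a b : Perm (Fin 3) × Perm (Fin 6), ∀ r, act2 (a * b) r = act2 a (act2 b r) := by
      intro a b r
      simp only [Plane.act2, Prod.fst_mul, Prod.snd_mul, Plane.act_mul, Plane.mix_mul]
      congr 1
      simp only [Plane.mix, Prod.mk.injEq, Plane.act_add, apply_ite (act a.2), Plane.act_zero]
    have hinv : act2 (π⁻¹, ((t⁻¹ : ↥(alternatingGroup (Fin 6))) : Perm (Fin 6))) p = (x, y) := by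
      rw [← hp, ← hmul, Prod.mk_mul_mk, inv_mul_cancel, Subgroup.coe_inv, inv_mul_cancel]
      simp [Plane.act2, Plane.act_one, mix_one]
    have h := hfact (π * σ * π⁻¹) ((t * s * t⁻¹ : ↥(alternatingGroup (Fin 6))) : Perm (Fin 6)) ?_ ?_
      (sign_alt _) ?_
    · have h' : t * s * t⁻¹ = 1 := Subtype.ext h
      exact conj_eq_one_iff.1 h'
    · rw [show (π * σ * π⁻¹, ((t * s * t⁻¹ : ↥(alternatingGroup (Fin 6))) : Perm (Fin 6))) =
        (π, (t : Perm (Fin 6))) * (σ, (s : Perm (Fin 6))) *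
          (π⁻¹, ((t⁻¹ : ↥(alternatingGroup (Fin 6))) : Perm (Fin 6))) from rfl,
        hmul, hmul, hinv, hfix, hp]
    · rw [← Subgroup.coe_mul, show t * s * t⁻¹ * (t * s * t⁻¹) = t * (s * s) * t⁻¹ by group, hs]
      simp
    · intro π' t' h' hsign
      let t'' : ↥(alternatingGroup (Fin 6)) := ⟨t', Perm.mem_alternatingGroup.2 hsign⟩
      obtain ⟨h1, h2⟩ := hc (π⁻¹ * π' * π) (t⁻¹ * t'' * t) (by
        rw [show (π⁻¹ * π' * π, ((t⁻¹ * t'' * t : ↥(alternatingGroup (Fin 6))) : Perm (Fin 6))) =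
          (π⁻¹, ((t⁻¹ : ↥(alternatingGroup (Fin 6))) : Perm (Fin 6))) * (π', t') *
            (π, (t : Perm (Fin 6))) from rfl, hmul, hmul, hp, h', hinv])
      refine ⟨?_, ?_⟩
      · calc π * σ * π⁻¹ * π' = π * (σ * (π⁻¹ * π' * π)) * π⁻¹ := by group
          _ = π * ((π⁻¹ * π' * π) * σ) * π⁻¹ := by rw [h1]
          _ = π' * (π * σ * π⁻¹) := by group
      · have h3 : t * s * t⁻¹ * t'' = t'' * (t * s * t⁻¹) := by
          calc t * s * t⁻¹ * t'' = t * (s * (t⁻¹ * t'' * t)) * t⁻¹ := by group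
            _ = t * ((t⁻¹ * t'' * t) * s) * t⁻¹ := by rw [h2]
            _ = t'' * (t * s * t⁻¹) := by group
        exact congrArg Subtype.val h3
  -- pure vectors
  have hpure : ∀ (π : Perm (Fin 3)) (w : W), w ≠ 0 → mix π (x, y) = (w, 0) → s = 1 := by
    intro π w hw hπ
    obtain ⟨t, ht, ht'⟩ := Plane.transitive w hw
    refine hmove π ⟨t⁻¹, Perm.mem_alternatingGroup.2 (by rw [map_inv, ht', inv_one])⟩ (e₀, 0) ?_ ?_
    · show mix π (act t⁻¹ x, act t⁻¹ y) = _
      have hlin : mix π (act t⁻¹ x, act t⁻¹ y) = (act t⁻¹ (mix π (x, y)).1, act t⁻¹ (mix π (x, y)).2) := by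
        simp only [Plane.mix, Plane.act_add, apply_ite (act t⁻¹), Plane.act_zero]
      rw [hlin, hπ, Plane.act_zero, ← ht, ← Plane.act_mul, inv_mul_cancel, Plane.act_one]
    · intro σ' s' h1 h2 h3 h4
      refine Plane.central_pure s' ?_ h2 (fun t' ht' => ?_) h3
      · simp only [Plane.act2, Plane.act_zero] at h1
        exact (mix_fix (show e₀ ≠ 0 by decide) h1).2
      obtain ⟨ht1, ht2⟩ := Plane.stabList_spec t' ht'
      refine (h4 1 t' ?_ ht2).2
      simp [Plane.act2, ht1, Plane.act_zero, mix_one]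
  by_cases hy : y = 0
  · subst hy
    exact hpure 1 x (fun e => hxy (by rw [e]; rfl)) (mix_one _)
  by_cases hx : x = 0
  · subst hx
    obtain ⟨π, hπ⟩ := (Plane.pure_cases y).1
    exact hpure π y hy hπ
  by_cases hxy' : x = y
  · subst hxy'
    obtain ⟨π, hπ⟩ := (Plane.pure_cases x).2
    exact hpure π x hx hπ
  -- rank two
  obtain ⟨t₁, ht₁, ht₁'⟩ := Plane.transitive x hx
  have hact : act t₁⁻¹ x = e₀ := by
    rw [← ht₁, ← Plane.act_mul, inv_mul_cancel, Plane.act_one]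
  obtain ⟨t₂, h21, h22, h23⟩ := Plane.transitive' (act t₁⁻¹ y)
    (fun e => hy (by
      have := congrArg (act t₁) e
      rwa [← Plane.act_mul, mul_inv_cancel, Plane.act_one, Plane.act_zero] at this))
    (fun e => hxy' (by
      have := congrArg (act t₁) e
      rw [← Plane.act_mul, mul_inv_cancel, Plane.act_one, ht₁] at this
      exact this.symm))
    (by rw [← hact, Plane.β_act, hq])
  refine hmove 1 ⟨t₂ * t₁⁻¹, Perm.mem_alternatingGroup.2 (by
    rw [map_mul, map_inv, h23, ht₁']; simp)⟩ (e₀, g₀) ?_ fun σ' s' h1 h2 h3 h4 =>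
      Plane.central_pair s' h2 σ' h1 (fun m hm =>
        h4 m.1 m.2 (Plane.pairList_spec m hm).1 (Plane.pairList_spec m hm).2) h3
  show mix 1 (act (t₂ * t₁⁻¹) x, act (t₂ * t₁⁻¹) y) = _
  rw [mix_one, Plane.act_mul, Plane.act_mul, hact, h21, h22]

include h16 in
/-- No conjugate of `z` lies over the first pure vector. -/
theorem Tensor.no_first {g : G} (hu : g * F.z * g⁻¹ ∈ F.Q)
    (hv : T.e (K.ν (g * F.z * g⁻¹)) = (e₀, 0)) : False := by
  classical
  set u := g * F.z * g⁻¹ with hudef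
  have hne : u ≠ F.z := by
    intro e
    rw [e, K.ν_z, T.e_zero] at hv
    exact absurd hv.symm (by decide)
  have hBu : ∀ (a : G) (p : W × W), a ∈ F.Q → T.e (K.ν a) = p → bil p (e₀, 0) = 0 → Commute a u := by
    intro a p ha hap hb
    rw [K.commute_iff ha hu, T.e_B, hap, hv]
    exact hb
  -- the trace of the conjugate
  set X := F.trace g with hXdef
  let O : Finset (Perm (Fin 3) × Perm (Fin 6)) :=
    ({1, swap 0 1} : Finset (Perm (Fin 3))) ×ˢ Plane.four.toFinset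
  have hXO : ∀ n ∈ X, ((T.ι.symm n).1, ((T.ι.symm n).2 : Perm (Fin 6))) ∈ O := by
    intro n hn
    obtain ⟨σ, s, hns⟩ : ∃ σ s, T.ι.symm n = (σ, s) := ⟨_, _, rfl⟩
    have hfx := T.stab_act hv (K.trace_le hu hn)
    rw [hns] at hfx ⊢
    simp only [Plane.act2, Plane.act_zero] at hfx
    obtain ⟨hσ, hse⟩ := mix_fix (show e₀ ≠ 0 by decide) hfx
    refine Finset.mem_product.2 ⟨?_, List.mem_toFinset.2 ?_⟩
    · rcases Plane.fix_two σ hσ with e | e <;> simp [e]
    refine Plane.core_e₀ _ hse (fun t htl hu3 => ?_) (sign_alt s)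
    obtain ⟨ht, hts⟩ := Plane.stabList_spec t htl
    let t' : ↥(alternatingGroup (Fin 6)) := ⟨t, Perm.mem_alternatingGroup.2 hts⟩
    have hts' : T.ι (1, t') ∈ K.stab (K.ν u) := T.mem_stab' hv (by
      simp [Plane.act2, ht, Plane.act_zero, mix_one, t'])
    have hmem : n * (T.ι (1, t') * n * (T.ι (1, t'))⁻¹) ∈ X :=
      mul_mem hn (K.trace_normal hu hne hts' hn)
    have h16' : (n * (T.ι (1, t') * n * (T.ι (1, t'))⁻¹)) ^ 16 = 1 := by
      obtain ⟨k, hk⟩ := IsPGroup.iff_card.1 (F.trace_isPGroup g)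
      have hle := h16 X (F.trace_isPGroup g)
      rw [hXdef, hk] at hle
      have hk4 := (Nat.pow_le_pow_iff_right (by norm_num : 1 < 2)).1
        (hle.trans_eq (by norm_num : 16 = 2 ^ 4))
      have hd : orderOf (⟨_, hmem⟩ : ↥X) ∣ 16 :=
        (orderOf_dvd_natCard (G := ↥X) ⟨_, hmem⟩).trans (by rw [hXdef, hk]; exact pow_dvd_pow 2 hk4)
      exact congrArg Subtype.val (orderOf_dvd_iff_pow_eq_one.1 hd)
    have hn' : n = T.ι (σ, s) := by rw [← hns, MulEquiv.apply_symm_apply]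
    rw [hn', ← map_inv, ← map_mul, ← map_mul, ← map_mul, ← map_pow] at h16'
    have := congrArg Prod.snd (T.ι.injective (h16'.trans (map_one T.ι).symm))
    simp only [Prod.pow_snd, Prod.snd_mul, Prod.snd_inv, Prod.snd_one] at this
    have h16s : (↑s * (t * ↑s * t⁻¹)) ^ 16 = (1 : Perm (Fin 6)) := congrArg Subtype.val this
    have h3 : (↑s * (t * ↑s * t⁻¹)) ^ 3 = (1 : Perm (Fin 6)) := by
      rw [pow_succ, pow_succ, pow_one, mul_assoc]; exact hu3
    simpa using pow_gcd_eq_one.2 ⟨h16s, h3⟩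
  have hO : ∀ p ∈ O, ∃ n ∈ X, ((T.ι.symm n).1, ((T.ι.symm n).2 : Perm (Fin 6))) = p := by
    intro p hp
    let f : ↥X → ↥O := fun n => ⟨_, hXO n n.2⟩
    have hf : Function.Injective f := by
      intro a b h
      have h' := congrArg Subtype.val h
      simp only [f, Prod.mk.injEq] at h'
      exact Subtype.ext (T.ι.symm.injective (Prod.ext h'.1 (Subtype.ext h'.2)))
    have hle : Nat.card ↥O ≤ Nat.card ↥X := by
      refine le_trans ?_ (K.card_trace hu hne)
      rw [Nat.card_eq_finsetCard, Finset.card_product]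
      calc ({1, swap 0 1} : Finset (Perm (Fin 3))).card * Plane.four.toFinset.card ≤ 2 * 4 :=
            Nat.mul_le_mul Finset.card_le_two (List.toFinset_card_le _)
        _ = 8 := rfl
    have hb := (Nat.bijective_iff_injective_and_card f).2
      ⟨hf, le_antisymm (Nat.card_le_card_of_injective f hf) hle⟩
    obtain ⟨n, hn⟩ := hb.2 ⟨p, hp⟩
    exact ⟨n, n.2, congrArg Subtype.val hn⟩
  -- elements of the intersection
  set R := F.Q ⊓ F.Qc g with hR
  have hzR : F.z ∈ R := ⟨F.zQ, F.mem_Qc.2 (F.inv_mem_Q hu)⟩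
  have hcomm : ∀ n ∈ X, ∀ y ∈ F.Q, Commute y u →
      ∃ r ∈ R, K.ν r = K.φ n (K.ν y) + K.ν y := by
    rintro n ⟨⟨k, hk⟩, hkc, rfl⟩ y hy hyu
    refine ⟨k * y * k⁻¹ * y⁻¹, Subgroup.mem_inf.2 ⟨mul_mem (F.conj_mem hk hy) (inv_mem hy), ?_⟩, ?_⟩
    · have : y * k⁻¹ * y⁻¹ ∈ F.Qc g := F.Qc_conj hyu ((F.Qc g).inv_mem hkc)
      rw [show k * y * k⁻¹ * y⁻¹ = k * (y * k⁻¹ * y⁻¹) by group]
      exact mul_mem hkc this
    · rw [K.ν_mul _ (F.conj_mem hk hy) _ (inv_mem hy), K.ν_conj k hk y hy, K.ν_inv hy]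
  have hvec : ∀ p : W × W, ∃ y ∈ F.Q, T.e (K.ν y) = p := fun p => by
    obtain ⟨y, hy, e⟩ := K.ν_surj (T.e.symm p)
    exact ⟨y, hy, by rw [e, Equiv.apply_symm_apply]⟩
  have hR1 : ∀ a : W, β e₀ a = 0 → ∃ r ∈ R, T.e (K.ν r) = (a, 0) := by
    intro a ha
    obtain ⟨n, hn, hne'⟩ := hO (swap 0 1, 1) (by simp [O, Plane.four])
    obtain ⟨y, hy, hye⟩ := hvec (0, a)
    obtain ⟨r, hr, hre⟩ := hcomm n hn y hy (hBu y _ hy hye (by
      show β 0 0 + β a e₀ = 0
      rw [(β_zero 0).1, zero_add, show β a e₀ = β e₀ a by simp only [Plane.β]; ring, ha]))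
    refine ⟨r, hr, ?_⟩
    rw [hre, T.e_add, T.φ_act, hye, hne']
    simp [Plane.act2, Plane.act_one, Plane.mix_swap, w_add_self]
  obtain ⟨a₀, ha₀, ha₀'⟩ := Plane.move_four
  obtain ⟨r₀, hr₀, hr₀e⟩ : ∃ r ∈ R, T.e (K.ν r) = (0, e₀) := by
    obtain ⟨n, hn, hne'⟩ := hO (1, swap 2 3 * swap 4 5) (by simp [O, Plane.four])
    obtain ⟨y, hy, hye⟩ := hvec (0, a₀)
    obtain ⟨r, hr, hre⟩ := hcomm n hn y hy (hBu y _ hy hye (by
      show β 0 0 + β a₀ e₀ = 0
      rw [(β_zero 0).1, zero_add, show β a₀ e₀ = β e₀ a₀ by simp only [Plane.β]; ring, ha₀]))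
    refine ⟨r, hr, ?_⟩
    rw [hre, T.e_add, T.φ_act, hye, hne']
    simp [Plane.act2, Plane.act_zero, mix_one, add_comm _ a₀, ha₀']
  -- the conjugate over the second pure vector
  obtain ⟨d, hd, hde⟩ := hvec (f₀, 0)
  have hdu : Commute d u := hBu d _ hd hde (by
    show β f₀ 0 + β 0 e₀ = 0
    rw [(β_zero _).1, (β_zero _).2, add_zero])
  have hdQc : d ∉ F.Qc g := by
    intro h
    have h0 := K.B_inter hne (a := d) (b := r₀) ⟨hd, h⟩ hr₀
    rw [T.e_B, hde, hr₀e] at h0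
    exact absurd h0 (by decide)
  have hfixed : ∀ (h : G) (hh : h ∈ F.H), Commute h u → h * d * h⁻¹ * d⁻¹ ∈ F.Qc g := by
    intro h hh hhu
    have hst : F.π ⟨h, hh⟩ ∈ K.stab (K.ν u) := by
      rw [K.mem_stab, ← K.ν_conj h hh u hu, hhu.eq, mul_inv_cancel_right]
    obtain ⟨σ, s, hns⟩ : ∃ σ s, T.ι.symm (F.π ⟨h, hh⟩) = (σ, s) := ⟨_, _, rfl⟩
    have hfx := T.stab_act hv hst
    rw [hns] at hfx
    simp only [Plane.act2, Plane.act_zero] at hfx
    obtain ⟨hσ, hse⟩ := mix_fix (show e₀ ≠ 0 by decide) hfx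
    obtain ⟨r, hr, hre⟩ := hR1 (act (s : Perm (Fin 6)) f₀ + f₀) (by
      have hadd : ∀ a b c : W, β a (b + c) = β a b + β a c := by
        intro a b c
        simp only [Plane.β, Prod.fst_add, Prod.snd_add]; ring
      rw [hadd]
      nth_rewrite 1 [← hse]
      rw [Plane.β_act]
      exact CharTwo.add_self_eq_zero _)
    have hc : h * d * h⁻¹ * d⁻¹ ∈ F.Q := mul_mem (F.conj_mem hh hd) (inv_mem hd)
    have hν : K.ν r = K.ν (h * d * h⁻¹ * d⁻¹) := T.e.injective (by
      rw [hre, K.ν_mul _ (F.conj_mem hh hd) _ (inv_mem hd), K.ν_conj h hh d hd, K.ν_inv hd, T.e_add,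
        T.φ_act, hns, hde]
      simp [Plane.act2, Plane.act_zero, mix_fix_two hσ])
    rcases K.eq_or_eq hr.1 hc hν with e | e <;> rw [e]
    · exact hr.2
    · exact mul_mem hr.2 hzR.2
  -- `d` is a conjugate of `z`
  obtain ⟨g₁, hg₁⟩ : ∃ g₁ : G, g₁ * F.z * g₁⁻¹ = d := by
    obtain ⟨t, ht, ht'⟩ := Plane.transitive f₀ (by decide)
    obtain ⟨⟨h, hh⟩, hhm⟩ := F.π_surj (T.ι (1, ⟨t, Perm.mem_alternatingGroup.2 ht'⟩))
    have hν : K.ν (h * u * h⁻¹) = K.ν d := T.e.injective (by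
      rw [hde, K.ν_conj h hh u hu, hhm, T.e_act, hv]
      simp [Plane.act2, ht, Plane.act_zero, mix_one])
    rcases K.eq_or_eq (F.conj_mem hh hu) hd hν with e | e
    · exact ⟨h * g, by rw [e, hudef]; group⟩
    · obtain ⟨y, hy, hye⟩ := hvec (0, e₀)
      have hy1 : y * d * y⁻¹ = F.z * d := K.conj_swap hy hd (by rw [T.e_B, hye, hde]; decide)
      have hhu : h * u * h⁻¹ = F.z * d := by
        rw [e, (F.mem_H.1 (F.Q_le (F.conj_mem hh hu))).eq, ← mul_assoc F.z F.z, F.z_sq, one_mul]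
      refine ⟨y⁻¹ * h * g, ?_⟩
      rw [show y⁻¹ * h * g * F.z * (y⁻¹ * h * g)⁻¹ = y⁻¹ * (h * u * h⁻¹) * y by rw [hudef]; group,
        hhu, ← hy1]
      group
  -- its image in the frame of `u`
  have hd'H : g⁻¹ * d * g ∈ F.H := F.mem_conjH hdu
  set n := F.π ⟨g⁻¹ * d * g, hd'H⟩ with hndef
  set u' := g⁻¹ * F.z * g with hu'def
  have hu' : u' ∈ F.Q := F.inv_mem_Q hu
  have hu'ne : u' ≠ F.z := fun e => hne (by
    rw [hudef]
    calc g * F.z * g⁻¹ = g * u' * g⁻¹ := by rw [e]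
      _ = F.z := by rw [hu'def]; group)
  obtain ⟨x, y, hxy⟩ : ∃ x y, T.e (K.ν u') = (x, y) := ⟨_, _, rfl⟩
  obtain ⟨σ, s, hns⟩ : ∃ σ s, T.ι.symm n = (σ, s) := ⟨_, _, rfl⟩
  have hn' : n = T.ι (σ, s) := by rw [← hns, MulEquiv.apply_symm_apply]
  have hn2 : n * n = 1 := by
    rw [hndef, ← map_mul, F.π_ker]
    show g⁻¹ * d * g * (g⁻¹ * d * g) ∈ F.Q
    have hdd : d * d = 1 := (K.sq_iff hd).2 (by rw [T.e_q, hde]; exact (β_zero _).1)
    rw [show g⁻¹ * d * g * (g⁻¹ * d * g) = g⁻¹ * (d * d) * g by group, hdd]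
    simp
  have hss : σ * σ = 1 ∧ s * s = 1 := by
    have h := T.ι.injective (((map_mul T.ι _ _).trans (hn' ▸ hn2)).trans (map_one T.ι).symm)
    exact ⟨congrArg Prod.fst h, congrArg Prod.snd h⟩
  have hnfix : n ∈ K.stab (K.ν u') := by
    rw [K.mem_stab, hndef, ← K.ν_conj _ hd'H u' hu']
    congr 1
    rw [hu'def, show g⁻¹ * d * g * (g⁻¹ * F.z * g) * (g⁻¹ * d * g)⁻¹ = g⁻¹ * (d * F.z * d⁻¹) * g by
      group, (F.mem_H.1 (F.Q_le hd)).eq, mul_inv_cancel_right]
  have hs1 : s = 1 := by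
    refine central_singular σ s x y (fun e => ?_) ?_ ?_ hss.2 fun π t hpt => ?_
    · rw [e] at hxy
      have h0 : K.ν u' = 0 := T.e.injective (hxy.trans T.e_zero.symm)
      rcases (K.ν_eq_zero _ hu').1 h0 with e' | e'
      · exact F.z_ne (by
          have : F.z = g * u' * g⁻¹ := by rw [hu'def]; group
          rw [this, e']; group)
      · exact hu'ne e'
    · have h1 : u' * u' = 1 := by
        rw [hu'def, show g⁻¹ * F.z * g * (g⁻¹ * F.z * g) = g⁻¹ * (F.z * F.z) * g by group, F.z_sq]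
        group
      have h2 := (K.sq_iff hu').1 h1
      rw [T.e_q, hxy] at h2
      exact h2
    · have := T.stab_act hxy hnfix
      rwa [hns] at this
    · have hu'' : g⁻¹ * F.z * g⁻¹⁻¹ ∈ F.Q := by rw [inv_inv]; exact hu'
      have hu''ne : g⁻¹ * F.z * g⁻¹⁻¹ ≠ F.z := by rw [inv_inv]; exact hu'ne
      obtain ⟨h', hh', hhm, hhc⟩ := K.lift_stab hu'' hu''ne (m := T.ι (π, t))
        (by rw [inv_inv]; exact T.mem_stab' hxy hpt)
      rw [inv_inv] at hhc
      have hh : g * h' * g⁻¹ ∈ F.H := by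
        rw [F.mem_H]
        calc g * h' * g⁻¹ * F.z = g * (h' * (g⁻¹ * F.z * g)) * g⁻¹ := by group
          _ = g * ((g⁻¹ * F.z * g) * h') * g⁻¹ := by rw [hhc.eq]
          _ = F.z * (g * h' * g⁻¹) := by group
      have hhu : Commute (g * h' * g⁻¹) u := by
        show g * h' * g⁻¹ * u = u * (g * h' * g⁻¹)
        calc g * h' * g⁻¹ * u = g * (h' * F.z) * g⁻¹ := by rw [hudef]; group
          _ = g * (F.z * h') * g⁻¹ := by rw [(F.mem_H.1 hh').eq]
          _ = u * (g * h' * g⁻¹) := by rw [hudef]; group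
      have hmem := F.mem_Qc.1 (hfixed _ hh hhu)
      have hz1 : F.π (⟨h', hh'⟩ * ⟨g⁻¹ * d * g, hd'H⟩ * ⟨h', hh'⟩⁻¹ * ⟨g⁻¹ * d * g, hd'H⟩⁻¹) = 1 := by
        rw [F.π_ker]
        convert hmem using 1
        show h' * (g⁻¹ * d * g) * h'⁻¹ * (g⁻¹ * d * g)⁻¹ = _
        group
      rw [map_mul, map_mul, map_mul, map_inv, map_inv, hhm, ← hndef, hn', mul_inv_eq_one,
        mul_inv_eq_iff_eq_mul, ← map_mul, ← map_mul] at hz1
      have h := T.ι.injective hz1
      exact ⟨(congrArg Prod.fst h).symm, (congrArg Prod.snd h).symm⟩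
  have hσ1 : σ ≠ 1 := by
    intro e
    apply hdQc
    rw [F.mem_Qc, ← F.π_ker ⟨g⁻¹ * d * g, hd'H⟩, ← hndef, hn', e, hs1]
    exact map_one T.ι
  have hconj : g⁻¹ * g₁ * F.z * (g⁻¹ * g₁)⁻¹ = g⁻¹ * d * g := by rw [← hg₁]; group
  refine T.no_lift' h16 (g := g⁻¹ * g₁) (by rw [hconj]; exact hd'H) hss.1 hσ1 ?_
  rw [← hs1, ← hn', hndef]
  congr 1
  exact Subtype.ext hconj

include T h16 in
/-- The parity criterion for the involution of the first factor. -/
theorem Tensor.false_of_alt [IsSimpleGroup G] : False := by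
  classical
  let f : M →* ℤˣ := (Perm.sign.comp (MonoidHom.fst _ _)).comp T.ι.symm.toMonoidHom
  obtain ⟨hidx, hmem⟩ := exists_index_two_sign f (n := T.τ) (by
    show Perm.sign (T.ι.symm (T.ι (swap 0 1, 1))).1 = -1
    rw [MulEquiv.symm_apply_apply]
    exact Perm.sign_swap (by decide))
  have hfr : K.fix T.τ = K.rad T.τ := le_antisymm (fun v hv => T.mem_rad.2 (T.mem_fix.1 hv))
    (K.rad_le_fix T.τ_sq)
  obtain ⟨x, hx, hxm, hx2, -⟩ := K.exists_lift (W := ⊥) T.τ_sq bot_le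
    (fun c hc => ⟨0, zero_mem _, by rw [add_zero, ← hfr]; exact hc⟩)
    (fun w hw _ => AddSubgroup.mem_bot.1 hw)
  have hxA : ∀ a ∈ T.D, Commute a x := fun a ha => T.D_commute hx hxm hx2 ha
  have hxP : IsPGroup 2 ↥(T.D ⊔ zpowers x) := by
    have hle : T.D ⊔ zpowers x ≤ F.pre (zpowers T.τ) :=
      sup_le (fun a ha => F.Q_le_pre _ ha.1)
        (zpowers_le.2 (F.mem_pre.2 ⟨hx, by rw [hxm]; exact mem_zpowers _⟩))
    refine IsPGroup.to_le (IsPGroup.map (IsPGroup.comap_of_ker_isPGroup ?_ F.π ?_) _) hle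
    · have h2 : orderOf T.τ = 2 := orderOf_eq_prime (by rw [pow_two, T.τ_sq]) fun e => by
        have := congrArg Prod.fst (T.ι.injective (e.trans (map_one T.ι).symm))
        exact absurd this (by decide)
      exact IsPGroup.of_card (n := 1) (by rw [Nat.card_zpowers, h2]; rfl)
    · exact (F.isPGroup_Q.comap_of_injective _ (subtype_injective _)).to_le
        (H := F.π.ker) fun a ha => (F.π_ker a).1 ha
  -- the image of an element centralising part of the preimage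
  have himg : ∀ (p : G) (hp : p ∈ F.H), p ∉ F.Q → ∀ B : Subgroup G, B ≤ T.D → B.relIndex T.D ≤ 2 →
      (∀ b ∈ B, Commute b p) → F.π ⟨p, hp⟩ = T.τ := by
    intro p hp hpQ B hBD hidx' hBp
    obtain ⟨σ, s, hns⟩ : ∃ σ s, T.ι.symm (F.π ⟨p, hp⟩) = (σ, s) := ⟨_, _, rfl⟩
    let S := Finset.univ.filter fun y : W => mix σ (act (s : Perm (Fin 6)) y, 0) = (y, 0)
    have hbS : ∀ b ∈ B, (T.e (K.ν b)).1 ∈ S := by
      intro b hb
      have hb0 := T.mem_fix.1 (hBD hb).2
      have hbe : T.e (K.ν b) = ((T.e (K.ν b)).1, 0) := Prod.ext rfl hb0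
      have hc : K.φ (F.π ⟨p, hp⟩) (K.ν b) = K.ν b := by
        rw [← K.ν_conj p hp b (hBD hb).1, (hBp b hb).symm.eq, mul_inv_cancel_right]
      have h := congrArg T.e hc
      rw [T.φ_act, hns, hbe] at h
      simp only [Plane.act2, Plane.act_zero] at h
      simp only [S, Finset.mem_filter, Finset.mem_univ, true_and]
      exact h
    have hS8 : 8 ≤ S.card := by
      have hD32 : Nat.card ↥T.D = 32 := by rw [Tensor.D, K.card_lift, T.card_fix]
      have h1 : Nat.card ↥(B.subgroupOf T.D) * B.relIndex T.D = Nat.card ↥T.D := card_mul_index _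
      rw [Nat.card_congr (subgroupOfEquivOfLe hBD).toEquiv, hD32] at h1
      have hB : 16 ≤ Nat.card ↥B := by
        have := Nat.mul_le_mul_left (Nat.card ↥B) hidx'
        omega
      have hinj : Nat.card ↥B ≤ Nat.card (↥S × ZMod 2) := by
        have hsur : ∀ y : W, ∃ a ∈ F.Q, T.e (K.ν a) = (y, 0) := fun y => by
          obtain ⟨a, ha, e⟩ := K.ν_surj (T.e.symm (y, 0))
          exact ⟨a, ha, by rw [e, Equiv.apply_symm_apply]⟩
        choose pick hpick hpick' using hsur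
        refine Nat.card_le_card_of_injective (fun b =>
          (⟨_, hbS b b.2⟩, if (b : G) = pick (T.e (K.ν (b : G))).1 then 0 else 1)) fun a b h => ?_
        rw [Prod.mk.injEq] at h
        have e1 : (T.e (K.ν (a : G))).1 = (T.e (K.ν (b : G))).1 := congrArg Subtype.val h.1
        have e2 := h.2
        rw [← e1] at e2
        have hν : ∀ c : ↥B, (c : G) = pick (T.e (K.ν (c : G))).1 ∨
            (c : G) = pick (T.e (K.ν (c : G))).1 * F.z := by
          intro c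
          refine K.eq_or_eq (hpick _) (hBD c.2).1 (T.e.injective ?_)
          refine (hpick' _).trans ?_
          exact Prod.ext rfl (T.mem_fix.1 (hBD c.2).2).symm
        refine Subtype.ext ?_
        have ha := hν a
        have hb := hν b
        rw [← e1] at hb
        by_cases h1 : (a : G) = pick (T.e (K.ν (a : G))).1 <;>
          by_cases h2 : (b : G) = pick (T.e (K.ν (a : G))).1
        · exact h1.trans h2.symm
        · rw [if_pos h1, if_neg h2] at e2; exact absurd e2 (by decide)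
        · rw [if_neg h1, if_pos h2] at e2; exact absurd e2 (by decide)
        · exact (ha.resolve_left h1).trans (hb.resolve_left h2).symm
      rw [Nat.card_prod, Nat.card_zmod, Nat.card_eq_finsetCard] at hinj
      omega
    obtain ⟨y, hyS, hy0⟩ : ∃ y ∈ S, y ≠ 0 := by
      obtain ⟨a, ha, b, hb, hab⟩ := Finset.one_lt_card.1 (by omega : 1 < S.card)
      by_cases ha0 : a = 0
      · exact ⟨b, hb, fun e => hab (ha0.trans e.symm)⟩
      · exact ⟨a, ha, ha0⟩
    simp only [S, Finset.mem_filter, Finset.mem_univ, true_and] at hyS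
    obtain ⟨hσ, -⟩ := mix_fix hy0 hyS
    have hs1 : s = 1 := by
      refine Subtype.ext (Plane.no_transvection _ (hS8.trans (Finset.card_le_card ?_)) (sign_alt s))
      intro y' hy'
      simp only [S, Finset.mem_filter, Finset.mem_univ, true_and, mix_fix_two hσ, Prod.mk.injEq,
        and_true] at hy' ⊢
      exact hy'
    have hn : F.π ⟨p, hp⟩ = T.ι (σ, s) := by rw [← hns, MulEquiv.apply_symm_apply]
    rcases Plane.fix_two σ hσ with e | e
    · refine absurd ((F.π_ker ⟨p, hp⟩).1 ?_) hpQ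
      rw [hn, hs1, e]
      exact map_one T.ι
    · rw [hn, hs1, e]; rfl
  refine F.false_of_parity f.ker hidx x hx (by rw [hxm]; exact hmem) hx2 T.D (K.lift_le _)
    (K.z_mem_lift _) hxA hxP ?_ ?_
  · intro g hne hxc hAc
    exfalso
    have hpH : g * F.z * g⁻¹ ∈ F.H := F.mem_H.2 (hAc F.z (K.z_mem_lift _)).symm
    by_cases hpQ : g * F.z * g⁻¹ ∈ F.Q
    · set p := g * F.z * g⁻¹ with hpdef
      have hv0 : (T.e (K.ν p)).2 = 0 := by
        refine T.mem_rad.1 ?_
        rw [← K.perp_fix T.τ_sq, F2Forms.mem_perp]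
        intro w hw
        obtain ⟨a, ha, rfl⟩ := K.ν_surj w
        exact (K.commute_iff hpQ ha).1 (hAc a ⟨ha, hw⟩).symm
      have hx0 : (T.e (K.ν p)).1 ≠ 0 := fun h => K.ν_ne hpQ hne (T.e.injective (by
        rw [T.e_zero]; exact Prod.ext h hv0))
      obtain ⟨t, ht, ht'⟩ := Plane.transitive _ hx0
      obtain ⟨⟨h, hh⟩, hhm⟩ :=
        F.π_surj (T.ι (1, ⟨t⁻¹, Perm.mem_alternatingGroup.2 (by rw [map_inv, ht', inv_one])⟩))
      have e : h * g * F.z * (h * g)⁻¹ = h * p * h⁻¹ := by rw [hpdef]; group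
      refine T.no_first h16 (g := h * g) (by rw [e]; exact F.conj_mem hh hpQ) ?_
      rw [e, K.ν_conj h hh p hpQ, hhm, T.e_act, show T.e (K.ν p) = ((T.e (K.ν p)).1, 0) from
        Prod.ext rfl hv0]
      show mix 1 (act t⁻¹ (T.e (K.ν p)).1, act t⁻¹ 0) = _
      rw [mix_one, Plane.act_zero, ← ht, ← Plane.act_mul, inv_mul_cancel, Plane.act_one]
    · exact T.no_lift h16 hpH
        (himg _ hpH hpQ T.D le_rfl (by rw [relIndex_self]; norm_num) hAc)
  · intro hxz g hpH hpQ B hBA hidx' _ hBp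
    exfalso
    set p := g * F.z * g⁻¹ with hpdef
    have hp2 : p * p = 1 := by
      rw [hpdef, show g * F.z * g⁻¹ * (g * F.z * g⁻¹) = g * (F.z * F.z) * g⁻¹ by group, F.z_sq]
      group
    have hpm := himg p hpH hpQ B hBA hidx' hBp
    set q := x⁻¹ * p with hq
    have hqQ : q ∈ F.Q := (F.π_ker (⟨x, hx⟩⁻¹ * ⟨p, hpH⟩)).1 (by
      rw [map_mul, map_inv, hxm, hpm, inv_mul_cancel])
    have hxi : x⁻¹ = x * F.z := inv_eq_of_mul_eq_one_right (by rw [← mul_assoc, hxz, F.z_sq])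
    have hxq : x * q = p := by rw [hq, mul_inv_cancel_left]
    have h4 : x * q * x⁻¹ * q = F.z := by
      have hzq : Commute F.z q := (F.mem_H.1 (F.Q_le hqQ)).symm
      calc x * q * x⁻¹ * q = x * q * (x * F.z) * q := by rw [hxi]
        _ = (x * q) * (x * (F.z * q)) := by group
        _ = (x * q) * (x * (q * F.z)) := by rw [hzq.eq]
        _ = (p * p) * F.z := by rw [← hxq]; group
        _ = F.z := by rw [hp2, one_mul]
    have hfixq : K.ν q ∈ K.fix T.τ := by
      show K.φ T.τ (K.ν q) = K.ν q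
      refine K.eq_of_add ?_
      rw [← hxm, ← K.ν_conj x hx q hqQ, ← K.ν_mul _ (F.conj_mem hx hqQ) _ hqQ, h4, K.ν_z]
    have hqc := T.D_commute hx hxm hx2 (a := q) ⟨hqQ, hfixq⟩
    have hqq : q * q = 1 := (K.sq_iff hqQ).2 (T.q_fix (T.mem_fix.1 hfixq))
    rw [← hqc.eq, mul_inv_cancel_right, hqq] at h4
    exact F.z_ne h4.symm

end Cfsg.Agent.H47.Ex9.Frame.Coord
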